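import Groth.Agent.Cubics.PlaneApp

/-! Automorphisms of a general Hesse cubic. -/

namespace Groth.Agent.Cubics

/-- Automorphisms of a Weierstrass cubic with `p, r ≠ 0` fixing the point at infinity. -/
theorem weier_stab {p r : ℂ} (hp : p ≠ 0) (hr : r ≠ 0) (N : Vec 3 →ₗ[ℂ] Vec 3) {c t : ℂ}
    (hc : c ≠ 0) (hN : ∀ x, weier p r (N x) = c * weier p r x)
    (he : N ![0, 1, 0] = t • ![0, 1, 0]) :
    ∃ a ε : ℂ, (ε = 1 ∨ ε = -1) ∧ ∀ x, N x = a • ![x 0, ε * x 1, x 2] := by
  set u := N ![1, 0, 0] with hu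
  set w := N ![0, 0, 1] with hw
  have hx : ∀ x, N x = x 0 • u + x 1 • (t • ![0, 1, 0]) + x 2 • w := by
    intro x
    rw [hu, hw, ← he, ← map_smul, ← map_smul, ← map_smul, ← map_add, ← map_add]
    congr 1
    funext i; fin_cases i <;> simp
  have hx' : ∀ x i, N x i = x 0 * u i + x 1 * (t * (![0, 1, 0] : Vec 3) i) + x 2 * w i := fun x i => by
    rw [hx x]; simp only [Pi.add_apply, Pi.smul_apply, smul_eq_mul]
  have H : ∀ X Y Z : ℂ,
      (X * u 0 + Z * w 0) ^ 3 + p * (X * u 0 + Z * w 0) * (X * u 2 + Z * w 2) ^ 2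
        + r * (X * u 2 + Z * w 2) ^ 3 - (X * u 1 + Y * t + Z * w 1) ^ 2 * (X * u 2 + Z * w 2)
      = c * (X ^ 3 + p * X * Z ^ 2 + r * Z ^ 3 - Y ^ 2 * Z) := by
    intro X Y Z
    have h := hN ![X, Y, Z]
    simp only [weier, hx', Matrix.cons_val, mul_zero, add_zero, mul_one] at h
    linear_combination h
  have h1 : t ^ 2 * u 2 = 0 := by
    linear_combination (-1/2 : ℂ) * H 1 1 0 + (-1/2 : ℂ) * H 1 (-1) 0 + H 1 0 0
  have h2 : t ^ 2 * w 2 = c := by
    linear_combination (-1/2 : ℂ) * H 0 1 1 + (-1/2 : ℂ) * H 0 (-1) 1 + H 0 0 1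
  have ht : t ≠ 0 := by rintro rfl; exact hc (by linear_combination -h2)
  have hτ : w 2 ≠ 0 := fun h => hc (by rw [h] at h2; linear_combination -h2)
  have hu2 : u 2 = 0 := (mul_eq_zero.1 h1).resolve_left (pow_ne_zero _ ht)
  simp only [hu2, mul_zero, zero_add] at H
  have hw1 : w 1 = 0 := by
    have : (t * w 2) * w 1 = 0 := by
      linear_combination (-1/4 : ℂ) * H 0 1 1 + (1/4 : ℂ) * H 0 (-1) 1
    exact (mul_eq_zero.1 this).resolve_left (mul_ne_zero ht hτ)
  have hu1 : u 1 = 0 := by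
    have : (t * w 2) * u 1 = 0 := by
      linear_combination (-1/4 : ℂ) * H 1 1 1 + (1/4 : ℂ) * H 1 (-1) 1 - t * w 2 * hw1
    exact (mul_eq_zero.1 this).resolve_left (mul_ne_zero ht hτ)
  simp only [hw1, hu1, mul_zero, zero_add, add_zero] at H
  have h3 : u 0 ^ 3 = c := by linear_combination H 1 0 0
  have ha : u 0 ≠ 0 := fun h => hc (by rw [h] at h3; linear_combination -h3)
  have hw0 : w 0 = 0 := by
    have : u 0 ^ 2 * w 0 = 0 := by
      linear_combination (1/6 : ℂ) * H 1 0 1 + (1/6 : ℂ) * H (-1) 0 1 - (1/3 : ℂ) * H 0 0 1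
    exact (mul_eq_zero.1 this).resolve_left (pow_ne_zero _ ha)
  simp only [hw0, mul_zero, zero_add, add_zero] at H
  have h4 : w 2 ^ 3 = c := mul_left_cancel₀ hr (by linear_combination H 0 0 1)
  have h5 : u 0 * w 2 ^ 2 = c := mul_left_cancel₀ hp (by linear_combination H 1 0 1 - h3 - r * h4)
  have h6 : w 2 = u 0 := mul_left_cancel₀ (pow_ne_zero 2 hτ) (by linear_combination h4 - h5)
  have h7 : t ^ 2 = u 0 ^ 2 := mul_left_cancel₀ ha (by rw [h6] at h2; linear_combination h2 - h3)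
  refine ⟨u 0, t / u 0, ?_, fun x => ?_⟩
  · rcases eq_or_eq_neg_of_sq_eq_sq t (u 0) h7 with h | h
    · exact Or.inl (by rw [h, div_self ha])
    · exact Or.inr (by rw [h, neg_div, div_self ha])
  · funext i
    rw [hx']
    fin_cases i <;> simp [hu1, hu2, hw0, hw1, h6, mul_comm]
    field_simp

/-- Weierstrass coordinates of the Hesse cubic at the flex `(0, 1, -1)`. -/
noncomputable def hesB (k : ℂ) : Vec 3 →ₗ[ℂ] Vec 3 :=
  comb ![-2, k, k] ![0, 1, -1]
    ![-2 * k ^ 2, k ^ 3 + -4 * (k ^ 3 - 1) / 3, k ^ 3 + -4 * (k ^ 3 - 1) / 3]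

theorem hesB_weier (k : ℂ) (x : Vec 3) : hes k (hesB k x) = 8 * (k ^ 3 - 1) *
    weier (-k * (k ^ 3 + 8) / 3) (2 * (k ^ 6 - 20 * k ^ 3 - 8) / 27) x := by
  simp [hesB, comb_apply, hes, weier]
  ring

theorem hesB_injective {k : ℂ} (hk : k ^ 3 ≠ 1) : Function.Injective (hesB k) := by
  refine comb_injective fun p q r h => ?_
  have e0 := congrFun h 0
  have e1 := congrFun h 1
  have e2 := congrFun h 2
  simp at e0 e1 e2
  have hr : r = 0 := by
    apply (mul_eq_zero.1 (?_ : (k ^ 3 - 1) * r = 0)).resolve_left (sub_ne_zero.2 hk)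
    linear_combination (-3/8 : ℂ) * k * e0 - (3/8 : ℂ) * (e1 + e2)
  subst hr
  simp at e0 e1 e2
  subst e0
  exact ⟨rfl, by linear_combination e1, rfl⟩

theorem mon_one_const (a : ℂ) (x : Vec 3) : (mon 1 fun _ => a).mulVec x = a • x := by
  funext i; rw [mon_mulVec]; simp [Equiv.Perm.one_def]

theorem mon_swap_const (a : ℂ) (x : Vec 3) :
    (mon (Equiv.swap 1 2) fun _ => a).mulVec x = a • ![x 0, x 2, x 1] := by
  funext i
  rw [mon_mulVec]
  fin_cases i <;> simp [Equiv.swap_apply_of_ne_of_ne]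

/-- The stabilizer of the flex `(0, 1, -1)`. -/
theorem stab_flex {k : ℂ} (hk : k ^ 3 ≠ 1) (hp : k * (k ^ 3 + 8) ≠ 0)
    (hr : k ^ 6 - 20 * k ^ 3 - 8 ≠ 0) (A : Matrix (Fin 3) (Fin 3) ℂ) {c t : ℂ} (hc : c ≠ 0)
    (hA : ∀ x, hes k (A.mulVec x) = c * hes k x)
    (he : A.mulVec ![0, 1, -1] = t • ![0, 1, -1]) :
    ∃ (τ : Equiv.Perm (Fin 3)) (a : ℂ), A = mon τ fun _ => a := by
  have hinj := hesB_injective hk
  let e := LinearEquiv.ofBijective (hesB k)
    ⟨hinj, LinearMap.injective_iff_surjective.1 hinj⟩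
  let N : Vec 3 →ₗ[ℂ] Vec 3 := e.symm.toLinearMap ∘ₗ Matrix.toLin' A ∘ₗ hesB k
  have hBN : ∀ x, hesB k (N x) = A.mulVec (hesB k x) := fun x => by
    show e (e.symm _) = _
    rw [e.apply_symm_apply]; rfl
  have hB1 : hesB k ![0, 1, 0] = ![0, 1, -1] := by simp [hesB, comb_apply]
  have h8 : (8 : ℂ) * (k ^ 3 - 1) ≠ 0 := mul_ne_zero (by norm_num) (sub_ne_zero.2 hk)
  obtain ⟨a, ε, hε, hN⟩ := weier_stab (p := -k * (k ^ 3 + 8) / 3)
    (r := 2 * (k ^ 6 - 20 * k ^ 3 - 8) / 27)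
    (fun h => hp (by linear_combination (-3 : ℂ) * h)) (fun h => hr (by linear_combination (27/2 : ℂ) * h))
    N hc (t := t) (fun x => mul_left_cancel₀ h8 (by
      rw [← hesB_weier, hBN, hA, hesB_weier]; ring))
    (hinj (by rw [hBN, hB1, he, map_smul, hB1]))
  rcases hε with rfl | rfl
  · refine ⟨1, a, Matrix.mulVec_injective (funext fun x => ?_)⟩
    obtain ⟨y, rfl⟩ := LinearMap.injective_iff_surjective.1 hinj x
    rw [← hBN, hN, mon_one_const, map_smul]
    congr 2
    funext i; fin_cases i <;> simp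
  · refine ⟨Equiv.swap 1 2, a, Matrix.mulVec_injective (funext fun x => ?_)⟩
    obtain ⟨y, rfl⟩ := LinearMap.injective_iff_surjective.1 hinj x
    rw [← hBN, hN, mon_swap_const, map_smul]
    congr 1
    funext i
    fin_cases i <;> simp [hesB, comb_apply] <;> ring

/-- Every automorphism of a general Hesse cubic is monomial. -/
theorem aut_monomial {k : ℂ} (hk : k ^ 3 ≠ 1) (hp : k * (k ^ 3 + 8) ≠ 0)
    (hr : k ^ 6 - 20 * k ^ 3 - 8 ≠ 0) {A : Matrix (Fin 3) (Fin 3) ℂ} (hA : A.det ≠ 0) {c : ℂ}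
    (hc : c ≠ 0) (h : ∀ x, hes k (A.mulVec x) = c * hes k x) :
    ∃ (π : Equiv.Perm (Fin 3)) (e : Vec 3), A = mon π e := by
  have hinj := mulVec_injective_of_det hA
  have hp0 : (![0, 1, -1] : Vec 3) ≠ 0 := fun h => by simpa using congrFun h 1
  have hfl : FlexPt (hes k) (A.mulVec ![0, 1, -1]) := by
    have := (nine_flex k hp0 ⟨1, 1, one_pow 3, Or.inl (by simp)⟩).map (F := hes k) (Matrix.toLin' A)
      (fun x y hxy => hinj (by simpa only [Matrix.toLin'_apply] using hxy)) c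
      (fun x => by rw [Matrix.toLin'_apply]; exact h x)
    simpa only [Matrix.toLin'_apply] using this
  obtain ⟨σ, d, a, hd, hpr, ha, h1⟩ :=
    exists_mon_to (fun h' => hp0 (hinj (by rw [h', Matrix.mulVec_zero]))) (flex_nine hk hfl)
  have hM : IsUnit (mon σ d).det :=
    (Matrix.isUnit_iff_isUnit_det _).1 (Matrix.mulVec_injective_iff_isUnit.1
      (mon_inj σ (by rw [hpr]; exact one_ne_zero)))
  obtain ⟨τ, b, hb⟩ := stab_flex hk hp hr ((mon σ d)⁻¹ * A) (t := a⁻¹) hc (fun x => by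
      rw [← hes_mon_sym k σ hd hpr, ← Matrix.mulVec_mulVec, inv_mulVec_cancel hM, h]) (by
      have := congrArg (mon σ d)⁻¹.mulVec h1
      rw [inv_mulVec_cancel' hM, Matrix.mulVec_smul] at this
      rw [← Matrix.mulVec_mulVec]
      conv_rhs => rw [this]
      rw [smul_smul, inv_mul_cancel₀ ha, one_smul])
  have : A = mon σ d * ((mon σ d)⁻¹ * A) := by
    rw [← Matrix.mul_assoc, Matrix.mul_nonsing_inv _ hM, Matrix.one_mul]
  rw [this, hb, mon_mul]
  exact ⟨_, _, rfl⟩

/-- Cube roots of unity. -/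
abbrev Mu3 := {z : ℂ // z ^ 3 = 1}

theorem card_mu3 : Nat.card Mu3 = 3 := by
  have h : Nat.card ↥(rootsOfUnity 3 ℂ) = 3 := Complex.card_rootsOfUnity 3
  refine (Nat.card_congr ?_).trans h
  exact
    { toFun := fun z => rootsOfUnity.mkOfPowEq z.1 z.2
      invFun := fun u => ⟨((u : ℂˣ) : ℂ), by
        have := congrArg Units.val ((mem_rootsOfUnity 3 (u : ℂˣ)).1 u.2)
        simpa using this⟩
      left_inv := fun z => by simp
      right_inv := fun u => by ext; simp }

/-- Automorphisms of determinant one. -/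
abbrev Aut1 (k : ℂ) := {A : Matrix (Fin 3) (Fin 3) ℂ //
  A.det = 1 ∧ ∃ c : ℂ, ∀ x, hes k (A.mulVec x) = c * hes k x}

theorem card_aut1 {k : ℂ} (hk : k ^ 3 ≠ 1) (hp : k * (k ^ 3 + 8) ≠ 0)
    (hr : k ^ 6 - 20 * k ^ 3 - 8 ≠ 0) : Nat.card (Aut1 k) = 54 := by
  let s : Equiv.Perm (Fin 3) → ℂ := fun π => ((Equiv.Perm.sign π : ℤ) : ℂ)
  have hs2 : ∀ π, s π ^ 2 = 1 := fun π => by
    rcases Int.units_eq_one_or (Equiv.Perm.sign π) with h | h <;> simp [s, h]
  let dd : Equiv.Perm (Fin 3) → ℂ → ℂ → Vec 3 := fun π a b =>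
    ![s π * a, s π * b, s π * (a * b) ^ 2]
  have hdd : ∀ π (a b : Mu3), (∀ j, dd π a b j ^ 3 = s π) ∧
      dd π a b 0 * dd π a b 1 * dd π a b 2 = s π := by
    rintro π ⟨a, ha⟩ ⟨b, hb⟩
    have h3 : s π ^ 3 = s π := by linear_combination (s π) * hs2 π
    refine ⟨fun j => ?_, ?_⟩
    · fin_cases j <;> simp [dd, mul_pow, ha, hb, h3, ← pow_mul]
      linear_combination s π * ((b ^ 3 + 1) * b ^ 0) * hb + s π * b ^ 6 * (a ^ 3 + 1) * ha
    · simp [dd]
      linear_combination (a ^ 3 * b ^ 3) * h3 + s π * b ^ 3 * ha + s π * hb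
  let Φ : Equiv.Perm (Fin 3) × Mu3 × Mu3 → Aut1 k := fun x =>
    ⟨mon x.1 (dd x.1 x.2.1 x.2.2), by
      rw [mon_det, (hdd _ _ _).2]
      linear_combination hs2 x.1, s x.1, fun v => by
      rw [hes_mon, (hdd _ _ _).1, (hdd _ _ _).1, (hdd _ _ _).1, (hdd _ _ _).2, hes]; ring⟩
  have hk0 : k ≠ 0 := left_ne_zero_of_mul hp
  have hΦ : Function.Bijective Φ := by
    refine ⟨fun x y hxy => ?_, fun A => ?_⟩
    · obtain ⟨π, a, b⟩ := x
      obtain ⟨π', a', b'⟩ := y
      have h := congrArg Subtype.val hxy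
      simp only [Φ] at h
      have hne : ∀ π (a b : Mu3) j, dd π a b j ≠ 0 := fun π a b j h0 => by
        have := (hdd π a b).1 j
        rw [h0] at this
        have h2 := hs2 π
        rw [← this] at h2
        norm_num at h2
      have hv : ∀ i (v : Vec 3), dd π a b (π.symm i) * v (π.symm i) =
          dd π' a' b' (π'.symm i) * v (π'.symm i) := by
        intro i v
        rw [← mon_mulVec, ← mon_mulVec, h]
      have hπ : π = π' := by
        refine Equiv.ext fun j => ?_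
        have := hv (π j) (Pi.single j 1)
        rw [Equiv.symm_apply_apply, Pi.single_eq_same, mul_one] at this
        by_contra hne'
        rw [Pi.single_eq_of_ne (fun hh => hne' ((Equiv.symm_apply_eq π').1 hh)), mul_zero] at this
        exact hne _ _ _ _ this
      subst hπ
      have h2 := fun j => hv (π j) 1
      simp only [Equiv.symm_apply_apply, Pi.one_apply, mul_one] at h2
      have hs0 : s π ≠ 0 := fun h0 => by have := hs2 π; simp [h0] at this
      have e0 := h2 0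
      have e1 := h2 1
      simp [dd, hs0] at e0 e1
      simp [Subtype.ext_iff, e0, e1]
    · obtain ⟨A, hdet, c, hc⟩ := A
      have hd0 : A.det ≠ 0 := by rw [hdet]; exact one_ne_zero
      have hc0 : c ≠ 0 := by
        rintro rfl
        obtain ⟨x, hx⟩ := (LinearMap.injective_iff_surjective (f := Matrix.toLin' A)).1
          (fun x y hxy => mulVec_injective_of_det hd0 (by simpa only [Matrix.toLin'_apply] using hxy))
          ![1, 0, 0]
        rw [Matrix.toLin'_apply] at hx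
        have := hc x
        rw [hx] at this
        simp [hes] at this
      obtain ⟨π, e, rfl⟩ := aut_monomial hk hp hr hd0 hc0 hc
      have e0 := hc ![1, 0, 0]
      have e1 := hc ![0, 1, 0]
      have e2 := hc ![0, 0, 1]
      have e3 := hc ![1, 1, 1]
      rw [hes_mon] at e0 e1 e2 e3
      simp [hes] at e0 e1 e2 e3
      have e4 : e 0 * e 1 * e 2 = c := by
        apply mul_left_cancel₀ hk0
        linear_combination (-1/3 : ℂ) * e3 + (1/3 : ℂ) * (e0 + e1 + e2)
      rw [mon_det, e4] at hdet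
      have hcs : c = s π := by
        linear_combination (-c) * hs2 π + s π * hdet
      subst hcs
      have h3 : s π ^ 3 = s π := by linear_combination (s π) * hs2 π
      refine ⟨(π, ⟨s π * e 0, by rw [mul_pow, e0]; linear_combination (s π ^ 2 + 1) * hs2 π⟩,
        ⟨s π * e 1, by rw [mul_pow, e1]; linear_combination (s π ^ 2 + 1) * hs2 π⟩), ?_⟩
      have hab : (e 0 * e 1) ^ 3 = 1 := by
        rw [mul_pow, e0, e1]; linear_combination hs2 π
      refine Subtype.ext (congrArg (mon π) (funext fun j => ?_))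
      fin_cases j <;> simp [dd]
      · linear_combination e 0 * hs2 π
      · linear_combination e 1 * hs2 π
      · linear_combination e 2 * hab - (e 0 * e 1) ^ 2 * e4
          + (e 0 * e 1) ^ 2 * s π * (s π ^ 2 + 1) * hs2 π
  rw [← Nat.card_congr (Equiv.ofBijective Φ hΦ), Nat.card_prod, Nat.card_prod, card_mu3,
    Nat.card_eq_fintype_card, Fintype.card_perm, Fintype.card_fin]
  decide

end Groth.Agent.Cubics
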