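import Groth.Agent.Cubics.FivePoints

/-!
# A point with irreducible tangent section exists

Over an algebraically closed field a cubic surface which contains no plane and is not a cone has a
smooth point whose tangent section is not a product `linear × (second fundamental form)`.
-/

namespace Groth.Agent.CubicFive

open Groth.Agent.CubicODP Polynomial

/-- First divisibility invariant of a binary cubic by a binary quadratic form. -/
def inv1 {R : Type*} [CommRing R] (A B D c₃ c₂ c₁ : R) : R := A ^ 2 * c₁ - A * D * c₃ - 2 * B * (A * c₂ - 2 * B * c₃)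

/-- Second divisibility invariant of a binary cubic by a binary quadratic form. -/
def inv2 {R : Type*} [CommRing R] (A B D c₃ c₂ c₀ : R) : R := A ^ 2 * c₀ - D * (A * c₂ - 2 * B * c₃)

variable {K : Type*} [Field K] [CharZero K] (C₀ : Tri K 4)

/-- All tangent sections split off the second fundamental form. -/
def AllBad : Prop := ∀ p e₁ e₂ z : Fin 4 → K, C₀.T p p p = 0 → C₀.T p p e₁ = 0 → C₀.T p p e₂ = 0 →
  C₀.T p p z ≠ 0 →
  inv1 (C₀.T p e₁ e₁) (C₀.T p e₁ e₂) (C₀.T p e₂ e₂) (C₀.F e₁) (3 * C₀.T e₁ e₁ e₂) (3 * C₀.T e₁ e₂ e₂) = 0 ∧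
  inv2 (C₀.T p e₁ e₁) (C₀.T p e₁ e₂) (C₀.T p e₂ e₂) (C₀.F e₁) (3 * C₀.T e₁ e₁ e₂) (C₀.F e₂) = 0

/-- The surface contains no plane. -/
def NoPlane : Prop := ∀ x y z : Fin 4 → K, LinearIndependent K ![x, y, z] →
  ∃ α β γ : K, C₀.F (α • x + β • y + γ • z) ≠ 0

/-- Linear combination of four vectors. -/
def comb (a u v e : Fin 4 → K) (x : Fin 4 → K) : Fin 4 → K := x 0 • a + x 1 • u + x 2 • v + x 3 • e

theorem eq_zero_of_forall_eval (P : K[X]) (h : ∀ t, P.eval t = 0) : P = 0 :=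
  Polynomial.funext fun t => by simp [h t]

/-- Tangent sections at smooth points: the linear algebra. -/
theorem frame_li {a u v e : Fin 4 → K} (h0 : C₀.T a a a = 0) (hu : C₀.T a a u = 0) (hv : C₀.T a a v = 0)
    (he : C₀.T a a e ≠ 0) (hq : LinearIndependent K ![a, u, v]) :
    LinearIndependent K ![a, u, v, e] := by
  refine Fintype.linearIndependent_iff.2 fun c hc => ?_
  rw [Fin.sum_univ_four] at hc
  have h3 := congrArg (C₀.T a a) hc
  simp [h0, hu, hv, he] at h3
  have := Fintype.linearIndependent_iff.1 hq ![c 0, c 1, c 2]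
    (by simpa [Fin.sum_univ_three, h3] using hc)
  intro i
  fin_cases i
  · exact this 0
  · exact this 1
  · exact this 2
  · exact h3

/-- Two nonzero independent tangent directions spanning a non-degenerate form. -/
theorem li_of_disc {a u v : Fin 4 → K} (ha : a ≠ 0) (h0 : C₀.T a a a = 0) (hu : C₀.T a a u = 0) (hv : C₀.T a a v = 0)
    (hd : C₀.T a u u * C₀.T a v v - C₀.T a u v ^ 2 ≠ 0) : LinearIndependent K ![a, u, v] := by
  refine Fintype.linearIndependent_iff.2 fun c hc => ?_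
  simp only [Fin.sum_univ_three, Matrix.cons_val_zero, Matrix.cons_val_one, Matrix.cons_val] at hc
  have e1 := congrArg (C₀.T a u) hc
  have e2 := congrArg (C₀.T a v) hc
  simp only [map_add, map_smul, map_zero, smul_eq_mul, C₀.swap23 a u a, C₀.swap23 a v a, hu, hv,
    C₀.swap23 a v u] at e1 e2
  have h1 : c 1 = 0 := (mul_eq_zero.1 (show c 1 * (C₀.T a u u * C₀.T a v v - C₀.T a u v ^ 2) = 0 by
    linear_combination C₀.T a v v * e1 - C₀.T a u v * e2)).resolve_right hd
  have h2 : c 2 = 0 := (mul_eq_zero.1 (show c 2 * (C₀.T a u u * C₀.T a v v - C₀.T a u v ^ 2) = 0 by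
    linear_combination C₀.T a u u * e2 - C₀.T a u v * e1)).resolve_right hd
  rw [h1, h2, zero_smul, zero_smul, add_zero, add_zero] at hc
  intro i
  fin_cases i
  · exact (smul_eq_zero.1 hc).resolve_right ha
  · exact h1
  · exact h2

/-- The relations along the first asymptotic line at a hyperbolic point. -/
theorem hyperbolic_line (hbad : AllBad C₀) (a u v e : Fin 4 → K) (h0 : C₀.T a a a = 0) (hu : C₀.T a a u = 0)
    (hv : C₀.T a a v = 0) (hl : C₀.T a a e ≠ 0) (huu : C₀.T a u u = 0) (hvv : C₀.T a v v = 0)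
    (hb : C₀.T a u v ≠ 0) (hFu : C₀.F u = 0) (hFv : C₀.F v = 0) (huuv : C₀.T u u v = 0) (huvv : C₀.T u v v = 0)
    (haue : C₀.T a u e = 0) (have' : C₀.T a v e = 0) (huve : C₀.T u v e = 0) :
    C₀.T v v e = 0 ∧ (C₀.T u u e = 0 → C₀.T v e e = 0 ∧ C₀.T u e e = 0 ∧ C₀.F e = 0) := by
  set l := C₀.T a a e with hldef
  set β := C₀.T a u v with hβdef
  set ρ := C₀.T a e e with hρ
  set j := C₀.T u u e with hj
  set kk := C₀.T v v e with hk
  set c := C₀.T u e e with hc
  set d := C₀.T v e e with hd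
  set f := C₀.F e with hf
  have key : ∀ s : K, (4 * s ^ 2 * β ^ 2 * (ρ + s * c)) ^ 2 * (-6 * s * β * j) -
      2 * (β * (l - j * s ^ 2)) * ((4 * s ^ 2 * β ^ 2 * (ρ + s * c)) * (12 * s ^ 2 * β ^ 2 * c) -
        2 * (β * (l - j * s ^ 2)) *
          (-6 * s * β * kk * (l + j * s ^ 2) ^ 2 + 12 * s ^ 2 * β ^ 2 * (l + j * s ^ 2) * d
            - 8 * s ^ 3 * β ^ 3 * f)) = 0 := by
    intro s
    set p := a + s • u
    set e₂ := (l + j * s ^ 2) • v + (-(2 * s * β)) • e with he₂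
    have huuu : C₀.T u u u = 0 := hFu
    have hvvv : C₀.T v v v = 0 := hFv
    have hp : C₀.T p p p = 0 := by
      show C₀.F (a + s • u) = 0
      rw [Tri.F_add_smul, hu, huu, hFu, show C₀.F a = 0 from h0]
      ring
    have t1 : C₀.T p p u = 0 := by
      simp [p, hu, huu, huuu, C₀.swap12 u a u]
    have tv : C₀.T p p v = 2 * s * β := by
      simp [p, hv, huuv, C₀.swap12 u a v, hβdef]; ring
    have te : C₀.T p p e = l + j * s ^ 2 := by
      simp [p, haue, C₀.swap12 u a e, hldef, hj]; ring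
    have t2 : C₀.T p p e₂ = 0 := by
      simp only [he₂, map_add, map_smul, smul_eq_mul, tv, te]; ring
    have hA : C₀.T p u u = 0 := by simp [p, huu, huuu]
    have hB : C₀.T p u e₂ = β * (l - j * s ^ 2) := by
      simp only [p, he₂, map_add, map_smul, LinearMap.add_apply, LinearMap.smul_apply, smul_eq_mul, huuv, haue,
        ← hβdef, ← hj]
      ring
    have hD : C₀.T p e₂ e₂ = 4 * s ^ 2 * β ^ 2 * (ρ + s * c) := by
      simp only [p, he₂, map_add, map_smul, LinearMap.add_apply, LinearMap.smul_apply, smul_eq_mul, hvv, huvv,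
        C₀.swap23 a e v, C₀.swap23 u e v, have', huve, ← hρ, ← hc]
      ring
    have hc2 : 3 * C₀.T e₂ u u = -6 * s * β * j := by
      rw [C₀.rev]
      simp only [he₂, map_add, map_smul, smul_eq_mul, huuv, ← hj]
      ring
    have hc1 : 3 * C₀.T e₂ e₂ u = 12 * s ^ 2 * β ^ 2 * c := by
      rw [C₀.rev]
      simp only [he₂, map_add, map_smul, LinearMap.add_apply, LinearMap.smul_apply, smul_eq_mul, huvv,
        C₀.swap23 u e v, huve, ← hc]
      ring
    have hc0 : C₀.F e₂ = -6 * s * β * kk * (l + j * s ^ 2) ^ 2 + 12 * s ^ 2 * β ^ 2 * (l + j * s ^ 2) * d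
        - 8 * s ^ 3 * β ^ 3 * f := by
      rw [he₂, Tri.F_two, hFv, ← hk, ← hd, ← hf]
      ring
    obtain ⟨z, hz⟩ : ∃ z, C₀.T p p z ≠ 0 := by
      rcases eq_or_ne s 0 with hs | hs
      · exact ⟨e, by rw [te, hs]; simpa using hl⟩
      · exact ⟨v, by rw [tv]; exact mul_ne_zero (mul_ne_zero two_ne_zero hs) hb⟩
    have := (hbad p e₂ u z hp t2 t1 hz).1
    rw [inv1, hD, hA, C₀.swap23 p e₂ u, hB, hc1, hc2, hc0] at this
    linear_combination this
  have hk0 : kk = 0 := by
    let D' : K[X] := C (4 * β ^ 2) * (C ρ + X * C c)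
    let B' : K[X] := C β * (C l - C j * X ^ 2)
    let R' : K[X] := C l + C j * X ^ 2
    let P : K[X] := (D' * X ^ 2) ^ 2 * C (-6 * β * j) - 2 * B' * ((D' * X ^ 2) * (C (12 * β ^ 2 * c) * X) -
      2 * B' * (C (-6 * β * kk) * R' ^ 2 + C (12 * β ^ 2 * d) * R' * X - C (8 * β ^ 3 * f) * X ^ 2))
    have hP : X * P = 0 := eq_zero_of_forall_eval _ fun s => by
      simp only [P, D', B', R', eval_mul, eval_sub, eval_add, eval_pow, eval_C, eval_X, eval_ofNat]
      linear_combination key s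
    have h0' : P.eval 0 = 0 := by rw [(mul_eq_zero.1 hP).resolve_left X_ne_zero, eval_zero]
    simp only [P, D', B', R', eval_mul, eval_sub, eval_add, eval_pow, eval_C, eval_X, eval_ofNat] at h0'
    have : β ^ 3 * l ^ 4 * kk = 0 := by linear_combination (-1 / 24 : K) * h0'
    exact (mul_eq_zero.1 this).resolve_left (mul_ne_zero (pow_ne_zero _ hb) (pow_ne_zero _ hl))
  refine ⟨hk0, fun hj0 => ?_⟩
  let P : K[X] := C (48 * β ^ 4 * l ^ 3 * d) * X ^ 2 + C (-32 * β ^ 5 * l ^ 2 * f) * X ^ 3 +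
    C (-96 * β ^ 5 * l * ρ * c) * X ^ 4 + C (-96 * β ^ 5 * l * c ^ 2) * X ^ 5
  have hP : P = 0 := eq_zero_of_forall_eval _ fun s => by
    have := key s
    rw [hj0, hk0] at this
    simp only [P, eval_mul, eval_add, eval_pow, eval_C, eval_X]
    linear_combination this
  have h2 := congrArg (coeff · 2) hP
  have h3 := congrArg (coeff · 3) hP
  have h5 := congrArg (coeff · 5) hP
  simp only [P, coeff_add, coeff_C_mul_X_pow, coeff_zero] at h2 h3 h5
  simp [hb, hl] at h2 h3 h5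
  exact ⟨h2, h5, h3⟩

/-- There is no hyperbolic point. -/
theorem no_hyperbolic_aux (hbad : AllBad C₀) (hnp : NoPlane C₀) (a u v e : Fin 4 → K) (ha : a ≠ 0)
    (h0 : C₀.T a a a = 0) (hu : C₀.T a a u = 0) (hv : C₀.T a a v = 0) (hl : C₀.T a a e ≠ 0)
    (huu : C₀.T a u u = 0) (hvv : C₀.T a v v = 0) (hb : C₀.T a u v ≠ 0) : False := by
  set β := C₀.T a u v with hβ
  have hFu : C₀.F u = 0 := by
    have := (hbad a u v e h0 hu hv hl).1
    rw [inv1, huu, hvv, ← hβ] at this
    exact (mul_eq_zero.1 (show β ^ 2 * C₀.F u = 0 by linear_combination this / 4)).resolve_left (pow_ne_zero _ hb)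
  have hFv : C₀.F v = 0 := by
    have := (hbad a v u e h0 hv hu hl).1
    rw [inv1, huu, hvv, C₀.swap23 a v u, ← hβ] at this
    exact (mul_eq_zero.1 (show β ^ 2 * C₀.F v = 0 by linear_combination this / 4)).resolve_left (pow_ne_zero _ hb)
  -- normalisations
  set u' := u + (-(C₀.T u u v) / (2 * β)) • a with hu'
  set v' := v + (-(C₀.T u v v) / (2 * β)) • a with hv'
  have au : C₀.T a a u' = 0 := by simp [hu', hu, h0]
  have av : C₀.T a a v' = 0 := by simp [hv', hv, h0]
  have auu : C₀.T a u' u' = 0 := by simp [hu', huu, hu, h0, C₀.swap23 a u a]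
  have avv : C₀.T a v' v' = 0 := by simp [hv', hvv, hv, h0, C₀.swap23 a v a]
  have auv : C₀.T a u' v' = β := by simp [hu', hv', hv, h0, C₀.swap23 a u a, hu, hβ]
  have Fu' : C₀.F u' = 0 := by
    rw [hu', Tri.F_add_smul, hFu, C₀.rev u u a, huu, C₀.rev u a a, hu, show C₀.F a = 0 from h0]; ring
  have Fv' : C₀.F v' = 0 := by
    rw [hv', Tri.F_add_smul, hFv, C₀.rev v v a, hvv, C₀.rev v a a, hv, show C₀.F a = 0 from h0]; ring
  have uuv : C₀.T u' u' v' = 0 := by
    simp only [hu', hv', map_add, map_smul, LinearMap.add_apply, LinearMap.smul_apply, smul_eq_mul,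
      C₀.swap12 u a, C₀.rev u u a, huu, C₀.swap23 a u a, hu, h0, hv, ← hβ]
    field_simp
    ring
  have uvv : C₀.T u' v' v' = 0 := by
    simp only [hu', hv', map_add, map_smul, LinearMap.add_apply, LinearMap.smul_apply, smul_eq_mul,
      C₀.swap23 u v a, C₀.swap12 u a, hvv, C₀.swap23 a v a, C₀.swap23 a u a, hu, h0, hv, ← hβ]
    field_simp
    ring
  have av'a : C₀.T a v' a = 0 := by rw [C₀.swap23]; exact av
  have au'a : C₀.T a u' a = 0 := by rw [C₀.swap23]; exact au
  set e' := e + (-(C₀.T u' v' e) / β) • a + (-(C₀.T a v' e) / β) • u' + (-(C₀.T a u' e) / β) • v' with he'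
  have ale : C₀.T a a e' = C₀.T a a e := by simp [he', h0, au, av]
  have aue : C₀.T a u' e' = 0 := by
    simp only [he', map_add, map_smul, smul_eq_mul, au'a, auu, auv]
    field_simp
    ring
  have ave : C₀.T a v' e' = 0 := by
    simp only [he', map_add, map_smul, smul_eq_mul, av'a, avv, C₀.swap23 a v' u', auv]
    field_simp
    ring
  have uve : C₀.T u' v' e' = 0 := by
    simp only [he', map_add, map_smul, smul_eq_mul, show C₀.T u' v' a = β from by rw [C₀.swap23, C₀.swap12, auv],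
      C₀.swap23 u' v' u', uuv, uvv]
    field_simp
    ring
  have hl' : C₀.T a a e' ≠ 0 := by rwa [ale]
  have hb' : C₀.T a u' v' ≠ 0 := by rwa [auv]
  obtain ⟨vve, h1⟩ := hyperbolic_line C₀ hbad a u' v' e' h0 au av hl' auu avv hb' Fu' Fv' uuv uvv aue ave uve
  obtain ⟨uue, -⟩ := hyperbolic_line C₀ hbad a v' u' e' h0 av au hl' avv auu (by rwa [C₀.swap23])
    Fv' Fu' (by rw [C₀.rev]; exact uvv) (by rw [C₀.rev]; exact uuv) ave aue (by rw [C₀.swap12]; exact uve)
  obtain ⟨vee, uee, Fe⟩ := h1 uue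
  have hli := frame_li C₀ h0 au av hl' (li_of_disc C₀ ha h0 au av (by
    rw [auu, avv, auv]; simpa using hb))
  have hli3 : LinearIndependent K ![u', v', e'] := hli.comp Fin.succ (Fin.succ_injective 3) |> fun h => by
    convert h using 1
    ext i : 1
    fin_cases i <;> rfl
  obtain ⟨x, y, z, hxyz⟩ := hnp u' v' e' hli3
  apply hxyz
  rw [Tri.F_add_smul, Tri.F_two, Fu', Fv', Fe, uuv, uvv]
  simp only [map_add, map_smul, LinearMap.add_apply, LinearMap.smul_apply, smul_eq_mul, C₀.swap12 v' u', uue, vve,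
    uve, uee, vee]
  ring

/-- At every smooth point the second fundamental form is degenerate. -/
theorem no_hyperbolic [IsAlgClosed K] (hbad : AllBad C₀) (hnp : NoPlane C₀) (p e₁ e₂ z : Fin 4 → K)
    (h0 : C₀.T p p p = 0) (h1 : C₀.T p p e₁ = 0) (h2 : C₀.T p p e₂ = 0) (hz : C₀.T p p z ≠ 0) :
    C₀.T p e₁ e₁ * C₀.T p e₂ e₂ - C₀.T p e₁ e₂ ^ 2 = 0 := by
  by_contra hd
  have hp : p ≠ 0 := fun h => hz (by simp [h])
  obtain ⟨a₁, b₁, a₂, b₂, hf⟩ := binary_quadratic (C₀.T p e₁ e₁) (2 * C₀.T p e₁ e₂) (C₀.T p e₂ e₂)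
  have hA : C₀.T p e₁ e₁ = a₁ * a₂ := by linear_combination hf 1 0
  have hD : C₀.T p e₂ e₂ = b₁ * b₂ := by linear_combination hf 0 1
  have hB : 2 * C₀.T p e₁ e₂ = a₁ * b₂ + a₂ * b₁ := by linear_combination hf 1 1 - hA - hD
  set u := b₁ • e₁ + (-a₁) • e₂
  set v := b₂ • e₁ + (-a₂) • e₂
  refine no_hyperbolic_aux C₀ hbad hnp p u v z hp h0 (by simp [u, h1, h2]) (by simp [v, h1, h2]) hz ?_ ?_ ?_
  · simp only [u, map_add, map_smul, LinearMap.add_apply, LinearMap.smul_apply, smul_eq_mul, C₀.swap23 p e₂ e₁]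
    linear_combination b₁ ^ 2 * hA + a₁ ^ 2 * hD - b₁ * a₁ * hB
  · simp only [v, map_add, map_smul, LinearMap.add_apply, LinearMap.smul_apply, smul_eq_mul, C₀.swap23 p e₂ e₁]
    linear_combination b₂ ^ 2 * hA + a₂ ^ 2 * hD - b₂ * a₂ * hB
  · have e : C₀.T p u v = 2 * (C₀.T p e₁ e₁ * C₀.T p e₂ e₂ - C₀.T p e₁ e₂ ^ 2) := by
      simp only [u, v, map_add, map_smul, LinearMap.add_apply, LinearMap.smul_apply, smul_eq_mul,
        C₀.swap23 p e₂ e₁]
      linear_combination (b₁ * b₂ - 2 * C₀.T p e₂ e₂) * hA - a₁ * a₂ * hD + (a₁ * a₂ - 0) * hD -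
        (a₁ * a₂) * hD + (C₀.T p e₁ e₂) * hB
    rw [e]
    exact mul_ne_zero two_ne_zero hd

theorem expand4 (a u v e : Fin 4 → K) (x y z : Fin 4 → K) :
    C₀.T (comb a u v e x) (comb a u v e y) (comb a u v e z) =
      x 0 * y 0 * z 0 * C₀.T a a a + x 1 * y 1 * z 1 * C₀.T u u u + x 2 * y 2 * z 2 * C₀.T v v v
      + x 3 * y 3 * z 3 * C₀.T e e e
      + (x 0 * y 0 * z 1 + x 0 * y 1 * z 0 + x 1 * y 0 * z 0) * C₀.T a a u
      + (x 0 * y 0 * z 2 + x 0 * y 2 * z 0 + x 2 * y 0 * z 0) * C₀.T a a v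
      + (x 0 * y 0 * z 3 + x 0 * y 3 * z 0 + x 3 * y 0 * z 0) * C₀.T a a e
      + (x 0 * y 1 * z 1 + x 1 * y 0 * z 1 + x 1 * y 1 * z 0) * C₀.T a u u
      + (x 1 * y 1 * z 2 + x 1 * y 2 * z 1 + x 2 * y 1 * z 1) * C₀.T u u v
      + (x 1 * y 1 * z 3 + x 1 * y 3 * z 1 + x 3 * y 1 * z 1) * C₀.T u u e
      + (x 0 * y 2 * z 2 + x 2 * y 0 * z 2 + x 2 * y 2 * z 0) * C₀.T a v v
      + (x 1 * y 2 * z 2 + x 2 * y 1 * z 2 + x 2 * y 2 * z 1) * C₀.T u v v
      + (x 2 * y 2 * z 3 + x 2 * y 3 * z 2 + x 3 * y 2 * z 2) * C₀.T v v e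
      + (x 0 * y 3 * z 3 + x 3 * y 0 * z 3 + x 3 * y 3 * z 0) * C₀.T a e e
      + (x 1 * y 3 * z 3 + x 3 * y 1 * z 3 + x 3 * y 3 * z 1) * C₀.T u e e
      + (x 2 * y 3 * z 3 + x 3 * y 2 * z 3 + x 3 * y 3 * z 2) * C₀.T v e e
      + (x 0 * (y 1 * z 2 + y 2 * z 1) + x 1 * (y 0 * z 2 + y 2 * z 0) + x 2 * (y 0 * z 1 + y 1 * z 0)) * C₀.T a u v
      + (x 0 * (y 1 * z 3 + y 3 * z 1) + x 1 * (y 0 * z 3 + y 3 * z 0) + x 3 * (y 0 * z 1 + y 1 * z 0)) * C₀.T a u e
      + (x 0 * (y 2 * z 3 + y 3 * z 2) + x 2 * (y 0 * z 3 + y 3 * z 0) + x 3 * (y 0 * z 2 + y 2 * z 0)) * C₀.T a v e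
      + (x 1 * (y 2 * z 3 + y 3 * z 2) + x 2 * (y 1 * z 3 + y 3 * z 1) + x 3 * (y 1 * z 2 + y 2 * z 1)) * C₀.T u v e := by
  simp only [comb, map_add, map_smul, LinearMap.add_apply, LinearMap.smul_apply, smul_eq_mul,
    C₀.swap12 u a, C₀.swap12 v a, C₀.swap12 e a, C₀.swap12 v u, C₀.swap12 e u, C₀.swap12 e v,
    fun x => C₀.swap23 x u a, fun x => C₀.swap23 x v a, fun x => C₀.swap23 x e a,
    fun x => C₀.swap23 x v u, fun x => C₀.swap23 x e u, fun x => C₀.swap23 x e v]
  ring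

/-- The torsal normal form is impossible. -/
theorem no_torsal
    (ND : ∀ p e₁ e₂ z : Fin 4 → K, C₀.T p p p = 0 → C₀.T p p e₁ = 0 → C₀.T p p e₂ = 0 → C₀.T p p z ≠ 0 →
      C₀.T p e₁ e₁ * C₀.T p e₂ e₂ - C₀.T p e₁ e₂ ^ 2 = 0)
    (hnp : NoPlane C₀) (hcone : ∀ w : Fin 4 → K, w ≠ 0 → ∃ x y, C₀.T x y w ≠ 0)
    (a u v e : Fin 4 → K) (hli : LinearIndependent K ![a, u, v, e])
    (h0 : C₀.T a a a = 0) (hu : C₀.T a a u = 0) (hv : C₀.T a a v = 0) (hl : C₀.T a a e ≠ 0)
    (hlam : C₀.T a u u ≠ 0) (huv : C₀.T a u v = 0) (hue : C₀.T a u e = 0) (hvv : C₀.T a v v = 0)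
    (huuu : C₀.T u u u = 0) (huuv : C₀.T u u v = 0) (huue : C₀.T u u e = 0) (huvv : C₀.T u v v = 0)
    (hvvv : C₀.T v v v = 0) : False := by
  set l := C₀.T a a e with hldef
  set lam := C₀.T a u u with hlamdef
  set β := C₀.T a v e with hβ
  set ρ := C₀.T a e e with hρ
  set b := C₀.T u v e with hb
  set a₂ := C₀.T v v e with ha₂
  set c := C₀.T u e e with hc
  set d := C₀.T v e e with hd
  set f := C₀.T e e e with hf
  let κ := comb a u v e
  have ev : ∀ x y z, C₀.T (κ x) (κ y) (κ z) = _ := expand4 C₀ a u v e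
  simp only [h0, hu, hv, ← hldef, ← hlamdef, huv, hue, hvv, huuu, huuv, huue, huvv, hvvv, ← hβ, ← hρ, ← hb, ← ha₂,
    ← hc, ← hd, ← hf, mul_zero, add_zero, zero_add] at ev
  -- the tangent plane is constant along the residual line
  have hB : ∀ t, lam * (b + t * a₂) = 0 := by
    intro t
    have := ND (κ ![0, 1, t, 0]) (κ ![0, 0, 1, 0]) (κ ![-(2 * t * b + t ^ 2 * a₂), 0, 0, lam]) (κ ![1, 0, 0, 0])
      (by simp [ev]) (by simp [ev]) (by simp [ev]; ring) (by simp [ev, hlam])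
    have hB : C₀.T (κ ![0, 1, t, 0]) (κ ![0, 0, 1, 0]) (κ ![-(2 * t * b + t ^ 2 * a₂), 0, 0, lam]) = 0 :=
      eq_zero_of_pow_eq_zero (n := 2) (by
        rw [show C₀.T (κ ![0, 1, t, 0]) (κ ![0, 0, 1, 0]) (κ ![0, 0, 1, 0]) = 0 from by simp [ev]] at this
        linear_combination -this)
    simp [ev] at hB
    linear_combination hB
  have hb0 : b = 0 := (mul_eq_zero.1 (show lam * b = 0 by linear_combination hB 0)).resolve_left hlam
  have ha0 : a₂ = 0 :=
    (mul_eq_zero.1 (show lam * a₂ = 0 by linear_combination hB 1 - hB 0)).resolve_left hlam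
  simp only [hb0, ha0, mul_zero, add_zero] at ev
  by_cases hd0 : d = 0
  swap
  · have key : ∀ U, d * (d * U * lam - c * β) = 0 := by
      intro U
      obtain ⟨V, hV⟩ : ∃ V, 3 * c * U + 3 * d * V + f = 0 := ⟨-(3 * c * U + f) / (3 * d), by field_simp; ring⟩
      set p := κ ![0, U, V, 1]
      set P := U ^ 2 * lam + 2 * V * β + ρ
      have := ND p (κ ![0, d, -c, 0]) (κ ![d, 0, -P, 0]) (κ ![0, 0, 1, 0])
        (by simp [p, ev]; linear_combination hV) (by simp [p, ev]; ring) (by simp [p, P, ev]; ring)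
        (by simp [p, ev, hd0])
      have hA : C₀.T p (κ ![0, d, -c, 0]) (κ ![0, d, -c, 0]) = 0 := by simp [p, ev]
      rw [hA] at this
      have hB : C₀.T p (κ ![0, d, -c, 0]) (κ ![d, 0, -P, 0]) = 0 :=
        eq_zero_of_pow_eq_zero (n := 2) (by linear_combination -this)
      simp [p, ev] at hB
      linear_combination hB
    exact mul_ne_zero (mul_ne_zero hd0 hd0) hlam (show d * d * lam = 0 by linear_combination key 1 - key 0)
  simp only [hd0, mul_zero, add_zero] at ev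
  have hβ0 : β ≠ 0 := by
    intro hβ0
    simp only [hβ0, mul_zero, add_zero] at ev
    obtain ⟨x, y, hxy⟩ := hcone v (hli.ne_zero (2 : Fin 4))
    let B : Module.Basis (Fin 4) K (Fin 4 → K) := basisOfLinearIndependentOfCardEqFinrank hli (by simp)
    have hB : ∀ x, κ (fun i => B.coord i x) = x := fun x => by
      conv_rhs => rw [← B.sum_repr x, Fin.sum_univ_four]
      simp [κ, comb, B]
    rw [← hB x, ← hB y, show v = κ ![0, 0, 1, 0] from by simp [κ, comb]] at hxy
    simp [ev] at hxy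
  by_cases hc0 : c = 0
  swap
  · obtain ⟨U, hU⟩ : ∃ U, 3 * c * U + f = 0 := ⟨-f / (3 * c), by field_simp; ring⟩
    set p := κ ![0, U, 0, 1]
    set P := U ^ 2 * lam + ρ
    have := ND p (κ ![0, 0, 1, 0]) (κ ![c, -P, 0, 0]) (κ ![0, 1, 0, 0])
      (by simp [p, ev]; linear_combination hU) (by simp [p, ev]) (by simp [p, P, ev]; ring)
      (by simp [p, ev, hc0])
    rw [show C₀.T p (κ ![0, 0, 1, 0]) (κ ![0, 0, 1, 0]) = 0 from by simp [p, ev]] at this
    have hB : C₀.T p (κ ![0, 0, 1, 0]) (κ ![c, -P, 0, 0]) = 0 :=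
      eq_zero_of_pow_eq_zero (n := 2) (by linear_combination -this)
    simp [p, ev, hc0, hβ0] at hB
  simp only [hc0, mul_zero, add_zero] at ev
  have hf0 : f ≠ 0 := by
    intro hf0
    obtain ⟨x, y, z, hxyz⟩ := hnp u v e (hli.comp Fin.succ (Fin.succ_injective 3) |> fun h => by
      convert h using 1
      ext i : 1
      fin_cases i <;> rfl)
    apply hxyz
    rw [show x • u + y • v + z • e = κ ![0, x, y, z] from by simp [κ, comb]]
    show C₀.T _ _ _ = 0
    simp [ev, hf0]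
  obtain ⟨V, hV⟩ : ∃ V, 3 * l + 6 * β * V + 3 * ρ + f = 0 :=
    ⟨-(3 * l + 3 * ρ + f) / (6 * β), by field_simp; ring⟩
  set p := κ ![1, 0, V, 1]
  set P := 2 * l + 2 * β * V + ρ
  have := ND p (κ ![0, 1, 0, 0]) (κ ![2 * β, 0, -P, 0]) (κ ![0, 0, 1, 0])
    (by simp [p, ev]; linear_combination hV) (by simp [p, ev]) (by simp [p, P, ev]; ring)
    (by simp [p, ev]; ring_nf; exact hβ0)
  simp [p, P, ev] at this
  have : lam * (β ^ 2 * f) = 0 := by
    linear_combination (3 / 4 * lam) * this.resolve_left hlam + lam * β ^ 2 * hV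
  exact mul_ne_zero hlam (mul_ne_zero (pow_ne_zero _ hβ0) hf0) this

/-- There is no parabolic point. -/
theorem no_parabolic [IsAlgClosed K] (hbad : AllBad C₀) (hnp : NoPlane C₀)
    (hcone : ∀ w : Fin 4 → K, w ≠ 0 → ∃ x y, C₀.T x y w ≠ 0) (a u v e : Fin 4 → K) (hli : LinearIndependent K ![a, u, v])
    (h0 : C₀.T a a a = 0) (hu : C₀.T a a u = 0) (hv : C₀.T a a v = 0) (hl : C₀.T a a e ≠ 0)
    (huv : C₀.T a u v = 0) (hvv : C₀.T a v v = 0) (hlam : C₀.T a u u ≠ 0) : False := by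
  have ND := no_hyperbolic C₀ hbad hnp
  set lam := C₀.T a u u with hlamdef
  obtain ⟨b1, b2⟩ := hbad a u v e h0 hu hv hl
  rw [inv1, huv, hvv, ← hlamdef] at b1
  rw [inv2, huv, hvv, ← hlamdef] at b2
  have huvv : C₀.T u v v = 0 :=
    (mul_eq_zero.1 (show lam ^ 2 * C₀.T u v v = 0 by linear_combination b1 / 3)).resolve_left (pow_ne_zero _ hlam)
  have hFv : C₀.F v = 0 :=
    (mul_eq_zero.1 (show lam ^ 2 * C₀.F v = 0 by linear_combination b2)).resolve_left (pow_ne_zero _ hlam)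
  set u' := u + (-(C₀.F u) / (3 * lam)) • a with hu'
  set v' := v + (-(C₀.T u u v) / lam) • a with hv'
  have aua : C₀.T a u a = 0 := by rw [C₀.swap23]; exact hu
  have ava : C₀.T a v a = 0 := by rw [C₀.swap23]; exact hv
  have au : C₀.T a a u' = 0 := by simp [hu', hu, h0]
  have av : C₀.T a a v' = 0 := by simp [hv', hv, h0]
  have auu : C₀.T a u' u' = lam := by simp [hu', hu, aua, h0, hlamdef]
  have auv : C₀.T a u' v' = 0 := by simp [hu', hv', huv, hv, aua, h0]
  have avv : C₀.T a v' v' = 0 := by simp [hv', hvv, hv, ava, h0]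
  have avu : C₀.T a v' u' = 0 := by rw [C₀.swap23]; exact auv
  have Fu' : C₀.F u' = 0 := by
    rw [hu', Tri.F_add_smul, C₀.rev u u a, ← hlamdef, C₀.rev u a a, hu, show C₀.F a = 0 from h0]
    field_simp; ring
  have Fv' : C₀.F v' = 0 := by
    rw [hv', Tri.F_add_smul, hFv, C₀.rev v v a, hvv, C₀.rev v a a, hv, show C₀.F a = 0 from h0]; ring
  have uuv : C₀.T u' u' v' = 0 := by
    simp only [hu', hv', map_add, map_smul, LinearMap.add_apply, LinearMap.smul_apply, smul_eq_mul,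
      C₀.swap12 u a, C₀.rev u u a, ← hlamdef, huv, aua, h0, hv]
    field_simp
    ring
  have uvv : C₀.T u' v' v' = 0 := by
    simp only [hu', hv', map_add, map_smul, LinearMap.add_apply, LinearMap.smul_apply, smul_eq_mul,
      C₀.swap23 u v a, C₀.swap12 u a, huv, huvv, hvv, ava, aua, h0, hv]
    ring
  set e₀ := e + (-(C₀.T a u' e) / lam) • u' with he₀
  set e' := e₀ + (-(C₀.T u' u' e₀) / lam) • a with he'
  have au'a : C₀.T a u' a = 0 := by rw [C₀.swap23]; exact au
  have ae : C₀.T a a e' = C₀.T a a e := by simp [he', he₀, au, h0]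
  have aue : C₀.T a u' e' = 0 := by
    simp only [he', he₀, map_add, map_smul, smul_eq_mul, au'a, auu]
    field_simp
    ring
  have uue : C₀.T u' u' e' = 0 := by
    simp only [he', map_add, map_smul, smul_eq_mul, C₀.rev u' u' a, auu]
    field_simp
    ring
  have hli' : LinearIndependent K ![a, u', v', e'] := by
    refine frame_li C₀ h0 au av (by rwa [ae]) ?_
    refine Fintype.linearIndependent_iff.2 fun x hx => ?_
    have := Fintype.linearIndependent_iff.1 hli
      ![x 0 + x 1 * (-(C₀.F u) / (3 * lam)) + x 2 * (-(C₀.T u u v) / lam), x 1, x 2] (by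
        rw [← hx, hu', hv']
        simp only [Fin.sum_univ_three, Matrix.cons_val_zero, Matrix.cons_val_one, Matrix.cons_val]
        module)
    have i1 : x 1 = 0 := this 1
    have i2 : x 2 = 0 := this 2
    intro i
    fin_cases i
    · simpa [i1, i2] using this 0
    · exact i1
    · exact i2
  exact no_torsal C₀ ND hnp hcone a u' v' e' hli' h0 au av (by rwa [ae]) (by rw [auu]; exact hlam) auv aue avv
    Fu' uuv uue uvv Fv'

/-- Not every point is flat. -/
theorem no_flat [IsAlgClosed K] (hnp : NoPlane C₀)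
    (flat : ∀ p x y z : Fin 4 → K, C₀.T p p p = 0 → C₀.T p p x = 0 → C₀.T p p y = 0 → C₀.T p p z ≠ 0 →
      C₀.T p x y = 0)
    (a e₁ e₂ e : Fin 4 → K) (hli : LinearIndependent K ![a, e₁, e₂]) (h0 : C₀.T a a a = 0)
    (h1 : C₀.T a a e₁ = 0) (h2 : C₀.T a a e₂ = 0) (hl : C₀.T a a e ≠ 0) : False := by
  obtain ⟨α, β, γ, hg⟩ := hnp a e₁ e₂ hli
  set u := α • a + β • e₁ + γ • e₂
  have hu : C₀.T a a u = 0 := by simp [u, h0, h1, h2]
  have huu : C₀.T a u u = 0 := flat a u u e h0 hu hu hl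
  set u' := u + (-(C₀.T a u e) / C₀.T a a e) • a with hu'
  have au : C₀.T a a u' = 0 := by simp [hu', hu, h0]
  have auu : C₀.T a u' u' = 0 := flat a u' u' e h0 au au hl
  have au'a : C₀.T a u' a = 0 := by rw [C₀.swap23]; exact au
  have aue : C₀.T a u' e = 0 := by
    simp only [hu', map_add, map_smul, LinearMap.add_apply, LinearMap.smul_apply, smul_eq_mul]
    field_simp
    ring
  have Fu' : C₀.F u' ≠ 0 := by
    rw [hu', Tri.F_add_smul, C₀.rev u u a, huu, C₀.rev u a a, hu, show C₀.F a = 0 from h0]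
    simpa using hg
  set g := C₀.T u' u' u' with hgdef
  have hg0 : g ≠ 0 := Fu'
  set e₀ := e + (-(C₀.T u' u' e) / g) • u' with he₀
  set e' := e₀ + (-(C₀.T a e₀ e₀) / (2 * C₀.T a a e)) • a with he'
  have ae₀ : C₀.T a a e₀ = C₀.T a a e := by simp [he₀, au]
  have ae : C₀.T a a e' = C₀.T a a e := by simp [he', ae₀, h0]
  have aue' : C₀.T a u' e' = 0 := by simp [he', he₀, aue, auu, au'a]
  have uue : C₀.T u' u' e' = 0 := by
    simp only [he', he₀, map_add, map_smul, smul_eq_mul, C₀.rev u' u' a, auu, ← hgdef]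
    field_simp
    ring
  have aee : C₀.T a e' e' = 0 := by
    simp only [he', map_add, map_smul, LinearMap.add_apply, LinearMap.smul_apply, smul_eq_mul,
      C₀.swap23 a e₀ a, ae₀, h0]
    field_simp
    ring
  set l := C₀.T a a e' with hldef
  have hl' : l ≠ 0 := by rwa [ae]
  set c := C₀.T u' e' e' with hc
  set f := C₀.T e' e' e' with hf
  let κ := comb a u' 0 e'
  have ev : ∀ x y z, C₀.T (κ x) (κ y) (κ z) = _ := expand4 C₀ a u' 0 e'
  simp only [h0, au, auu, aue', aee, uue, ← hldef, ← hgdef, ← hc, ← hf, map_zero, LinearMap.zero_apply, mul_zero,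
    add_zero, zero_add] at ev
  let G : K[X] := C g * X ^ 3 + C (3 * c) * X + C f
  let N : K[X] := C (-(g ^ 2)) * X ^ 4 + C (-(6 * g * c)) * X ^ 2 + C (-(4 * g * f)) * X + C (3 * c ^ 2)
  have hG : G ≠ 0 := fun h => hg0 (by simpa [G, coeff_X, coeff_C] using congrArg (coeff · 3) h)
  have hN : N ≠ 0 := fun h => hg0 (by
    have h' := congrArg (coeff · 4) h
    simp only [N, coeff_add, coeff_C_mul_X_pow, coeff_C_mul_X, coeff_C, coeff_zero] at h'
    norm_num at h'
    exact h')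
  obtain ⟨U, hU⟩ := exists_avoid (G * N) (mul_ne_zero hG hN)
  simp only [G, N, eval_mul, eval_add, eval_pow, eval_C, eval_X, mul_ne_zero_iff] at hU
  obtain ⟨x, hx⟩ := IsAlgClosed.exists_pow_nat_eq (-(g * U ^ 3 + 3 * c * U + f) / (3 * l)) two_pos
  have hx' : 3 * l * x ^ 2 + (g * U ^ 3 + 3 * c * U + f) = 0 := by
    rw [hx]; field_simp; ring
  have hx0 : x ≠ 0 := fun h => hU.1 (by rw [h] at hx'; linear_combination hx')
  have := flat (κ ![x, U, 0, 1]) (κ ![-(g * U ^ 2 + c), 2 * x * l, 0, 0]) (κ ![-(g * U ^ 2 + c), 2 * x * l, 0, 0])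
    (κ ![1, 0, 0, 0]) (by simp [ev]; linear_combination hx') (by simp [ev]; ring) (by simp [ev]; ring)
    (by simp [ev, hl', hx0])
  simp [ev] at this
  refine hU.2 ?_
  have h3 : l * ((g * U ^ 2 + c) ^ 2 * 3 - 4 * g * U * (g * U ^ 3 + 3 * c * U + f)) = 0 := by
    linear_combination 3 * this - 4 * g * U * l * hx'
  linear_combination (mul_eq_zero.1 h3).resolve_left hl'

/-- A smooth point, a tangent pair with non-zero invariant. -/
theorem exists_good [IsAlgClosed K] (hnp : NoPlane C₀) (hcone : ∀ w : Fin 4 → K, w ≠ 0 → ∃ x y, C₀.T x y w ≠ 0)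
    (hsm : ∃ a z, C₀.T a a a = 0 ∧ C₀.T a a z ≠ 0) : ¬ AllBad C₀ := by
  intro hbad
  obtain ⟨a, e, h0, hl⟩ := hsm
  have hpar : ∀ p x y z : Fin 4 → K, C₀.T p p p = 0 → C₀.T p p x = 0 → C₀.T p p y = 0 → C₀.T p p z ≠ 0 →
      C₀.T p x x ≠ 0 → LinearIndependent K ![p, x, y] → False := by
    intro p x y z hp hx hy hz hA hli
    have hd := no_hyperbolic C₀ hbad hnp p x y z hp hx hy hz
    set v := C₀.T p x x • y + (-(C₀.T p x y)) • x with hv
    refine no_parabolic C₀ hbad hnp hcone p x v z ?_ hp hx (by simp [hv, hx, hy]) hz ?_ ?_ hA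
    · refine Fintype.linearIndependent_iff.2 fun c hc => ?_
      have := Fintype.linearIndependent_iff.1 hli ![c 0, c 1 + c 2 * (-(C₀.T p x y)), c 2 * C₀.T p x x] (by
        rw [← hc, hv]
        simp only [Fin.sum_univ_three, Matrix.cons_val_zero, Matrix.cons_val_one, Matrix.cons_val]
        module)
      have i2 : c 2 = 0 := (mul_eq_zero.1 (this 2)).resolve_right hA
      intro i
      fin_cases i
      · exact this 0
      · simpa [i2] using this 1
      · exact i2
    · simp [hv]; ring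
    · simp only [hv, map_add, map_smul, LinearMap.add_apply, LinearMap.smul_apply, smul_eq_mul, C₀.swap23 p y x]
      linear_combination C₀.T p x x * hd
  have flat : ∀ p x y z : Fin 4 → K, C₀.T p p p = 0 → C₀.T p p x = 0 → C₀.T p p y = 0 → C₀.T p p z ≠ 0 →
      C₀.T p x y = 0 := by
    have sq : ∀ p x z : Fin 4 → K, C₀.T p p p = 0 → C₀.T p p x = 0 → C₀.T p p z ≠ 0 → C₀.T p x x = 0 := by
      intro p x z hp hx hz
      by_contra hA
      have hpa : C₀.T p x p = 0 := by rw [C₀.swap23]; exact hx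
      have hli2 : LinearIndependent K ![p, x] := by
        refine LinearIndependent.pair_iff.2 fun r s h => ?_
        have h' := congrArg (C₀.T p x) h
        simp [hpa, hA] at h'
        rw [h', zero_smul, add_zero] at h
        exact ⟨(smul_eq_zero.1 h).resolve_right fun h => hz (by simp [h]), h'⟩
      obtain ⟨g₁, g₂, hg⟩ := exists_completion hli2
      by_cases h1 : C₀.T p p g₁ = 0
      · exact hpar p x g₁ z hp hx h1 hz hA (hg.comp ![0, 1, 2] (by decide) |> fun h => by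
          convert h using 1
          ext i : 1
          fin_cases i <;> rfl)
      · refine hpar p x (C₀.T p p g₁ • g₂ + (-(C₀.T p p g₂)) • g₁) z hp hx (by simp; ring) hz hA ?_
        refine Fintype.linearIndependent_iff.2 fun c hc => ?_
        have := Fintype.linearIndependent_iff.1 hg
          ![c 0, c 1, c 2 * (-(C₀.T p p g₂)), c 2 * C₀.T p p g₁] (by
            rw [← hc]
            simp only [Fin.sum_univ_three, Fin.sum_univ_four, Matrix.cons_val_zero, Matrix.cons_val_one,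
              Matrix.cons_val]
            module)
        have i2 : c 2 = 0 := (mul_eq_zero.1 (this 3)).resolve_right h1
        intro i
        fin_cases i
        · exact this 0
        · exact this 1
        · exact i2
    intro p x y z hp hx hy hz
    have := sq p (x + y) z hp (by simp [hx, hy]) hz
    simp only [map_add, LinearMap.add_apply, sq p x z hp hx hz, sq p y z hp hy hz, C₀.swap23 p y x] at this
    linear_combination this / 2
  have ha : a ≠ 0 := fun h => hl (by simp [h])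
  have hli2 : LinearIndependent K ![a, e] := by
    refine LinearIndependent.pair_iff.2 fun r s h => ?_
    have h' := congrArg (C₀.T a a) h
    simp [h0, hl] at h'
    rw [h', zero_smul, add_zero] at h
    exact ⟨(smul_eq_zero.1 h).resolve_right ha, h'⟩
  obtain ⟨g₁, g₂, hg⟩ := exists_completion hli2
  set e₁ := g₁ + (-(C₀.T a a g₁) / C₀.T a a e) • e
  set e₂ := g₂ + (-(C₀.T a a g₂) / C₀.T a a e) • e
  refine no_flat C₀ hnp flat a e₁ e₂ e ?_ h0 (by simp [e₁, hl]) (by simp [e₂, hl]) hl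
  refine Fintype.linearIndependent_iff.2 fun c hc => ?_
  have := Fintype.linearIndependent_iff.1 hg
    ![c 0, c 1 * (-(C₀.T a a g₁) / C₀.T a a e) + c 2 * (-(C₀.T a a g₂) / C₀.T a a e), c 1, c 2] (by
      rw [← hc]
      simp only [e₁, e₂, Fin.sum_univ_three, Fin.sum_univ_four, Matrix.cons_val_zero, Matrix.cons_val_one,
        Matrix.cons_val]
      module)
  intro i
  fin_cases i
  · exact this 0
  · exact this 2
  · exact this 3

end Groth.Agent.CubicFive
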