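import Groth.Agent.Cubics.Pfaffian
import Groth.Agent.Cubics.GoodPoint

/-!
# Linear Pfaffian representations over an extension of degree at most three
-/

namespace Groth.Agent.CubicFive

open Groth.Agent.CubicODP

section Avoid

variable {k K : Type*} [Field k] [CharZero k] [Field K] [Algebra k K]

/-- A rational line all whose intersection points with the surface avoid a given surface. -/
theorem exists_line_avoid (F : MvPolynomial (Fin 4) K) (hirr : Irreducible F) (W : MvPolynomial (Fin 4) K)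
    (hnd' : ¬ F ∣ W) (q : Fin 4 → k)
    (hcub : ∀ t : K, MvPolynomial.eval (fun i => t * algebraMap k K (q i)) F =
      t ^ 3 * MvPolynomial.eval (fun i => algebraMap k K (q i)) F)
    (hq : MvPolynomial.eval (fun i => algebraMap k K (q i)) F ≠ 0) :
    ∃ x : Fin 4 → k, ∀ t : K, MvPolynomial.eval (fun i => algebraMap k K (x i) + t * algebraMap k K (q i)) F = 0 →
      MvPolynomial.eval (fun i => algebraMap k K (x i) + t * algebraMap k K (q i)) W ≠ 0 := by
  classical
  have hq0 : q ≠ 0 := by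
    intro h
    apply hq
    have h0 := hcub 0
    simp only [zero_mul, ne_eq, OfNat.ofNat_ne_zero, not_false_eq_true, zero_pow] at h0
    simpa [h] using h0
  obtain ⟨i₀, hi₀⟩ := Function.ne_iff.1 hq0
  -- a basis starting with `q`
  obtain ⟨r₁, hr₁⟩ := exists_linearIndependent_snoc_of_lt_finrank
    (v := ![q]) (linearIndependent_unique_iff.2 (by simpa using hq0)) (by simp : (1 : ℕ) < Module.finrank k (Fin 4 → k))
  obtain ⟨r₂, hr₂⟩ := exists_linearIndependent_snoc_of_lt_finrank hr₁ (by simp)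
  obtain ⟨r₃, hr₃⟩ := exists_linearIndependent_snoc_of_lt_finrank hr₂ (by simp)
  let b : Module.Basis (Fin 4) k (Fin 4 → k) := basisOfLinearIndependentOfCardEqFinrank hr₃ (by simp)
  have hb0 : b 0 = q := by
    simp only [b, coe_basisOfLinearIndependentOfCardEqFinrank]
    rfl
  let M : Matrix (Fin 4) (Fin 4) K := fun i j => algebraMap k K (b j i)
  let N : Matrix (Fin 4) (Fin 4) K := fun i j => algebraMap k K (b.coord i (Pi.single j 1))
  have hMN : M * N = 1 := by
    ext i j
    have h := congrArg (fun v => algebraMap k K (v i)) (b.sum_repr (Pi.single j 1))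
    simp only [Finset.sum_apply, Pi.smul_apply, smul_eq_mul, map_sum, map_mul] at h
    rw [Matrix.mul_apply, Matrix.one_apply]
    simp only [M, N, Module.Basis.coord_apply]
    rw [show (if i = j then (1 : K) else 0) = algebraMap k K ((Pi.single j (1 : k) : Fin 4 → k) i) from by
      rw [Pi.single_apply]; split_ifs <;> simp, ← h]
    exact Finset.sum_congr rfl fun l _ => mul_comm _ _
  have hNM : N * M = 1 := mul_eq_one_comm.1 hMN
  let sub : Matrix (Fin 4) (Fin 4) K → MvPolynomial (Fin 4) K →ₐ[K] MvPolynomial (Fin 4) K := fun A =>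
    MvPolynomial.bind₁ fun i => lin (A i)
  have hsub : ∀ A s f, MvPolynomial.eval s (sub A f) = MvPolynomial.eval (A.mulVec s) f := by
    intro A s f
    change MvPolynomial.eval₂Hom (RingHom.id K) s (MvPolynomial.bind₁ (fun i => lin (A i)) f) = _
    rw [MvPolynomial.eval₂Hom_bind₁]
    change MvPolynomial.eval (fun i => MvPolynomial.eval s (lin (A i))) f = _
    simp only [eval_lin]
    rfl
  haveI : Infinite K := .of_injective _ (algebraMap k K).injective
  let σ : MvPolynomial (Fin 4) K ≃ₐ[K] MvPolynomial (Fin 4) K := AlgEquiv.ofAlgHom (sub M) (sub N)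
    (AlgHom.ext fun f => MvPolynomial.funext fun s => by
      rw [AlgHom.comp_apply, hsub, hsub, Matrix.mulVec_mulVec, hNM, Matrix.one_mulVec]; rfl)
    (AlgHom.ext fun f => MvPolynomial.funext fun s => by
      rw [AlgHom.comp_apply, hsub, hsub, Matrix.mulVec_mulVec, hMN, Matrix.one_mulVec]; rfl)
  let Φ : MvPolynomial (Fin 4) K ≃ₐ[K] Polynomial (MvPolynomial (Fin 3) K) :=
    σ.trans (MvPolynomial.finSuccEquiv K 3)
  set P := Φ F with hP
  set Q := Φ W with hQ
  have hev : ∀ f t (s : Fin 3 → K), ((Φ f).map (MvPolynomial.eval s)).eval t =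
      MvPolynomial.eval (M.mulVec (Fin.cons t s)) f := fun f t s => by
    rw [show Φ f = MvPolynomial.finSuccEquiv K 3 (sub M f) from rfl, ← MvPolynomial.eval_eq_eval_mv_eval', hsub]
  have hirrP : Irreducible P := (MulEquiv.irreducible_iff Φ.toMulEquiv).2 hirr
  have hdeg : P.natDegree ≠ 0 := by
    intro h
    have h1 := hev F 1 0
    have h0 := hev F 0 0
    rw [← hP, Polynomial.eq_C_of_natDegree_eq_zero h, Polynomial.map_C, Polynomial.eval_C] at h1 h0
    have e : ∀ t : K, M.mulVec (Fin.cons t 0) = fun i => t * algebraMap k K (q i) := fun t => funext fun i => by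
      simp [Matrix.mulVec, dotProduct, Fin.sum_univ_succ, M, hb0, mul_comm]
    rw [h1, e, e, hcub, hcub] at h0
    simp at h0
    exact hq (by simpa using h0)
  have hnd : ¬ P ∣ Q := fun hd => hnd' (by
    have := map_dvd Φ.symm hd
    rwa [hP, hQ, Φ.symm_apply_apply, Φ.symm_apply_apply] at this)
  let L := FractionRing (MvPolynomial (Fin 3) K)
  have hprim := hirrP.isPrimitive hdeg
  have hco : IsCoprime (P.map (algebraMap _ L)) (Q.map (algebraMap _ L)) :=
    ((hprim.irreducible_iff_irreducible_map_fraction_map).1 hirrP).coprime_iff_not_dvd.2 fun h =>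
      hnd (hprim.dvd_of_fraction_map_dvd_fraction_map h)
  obtain ⟨A, B, hAB⟩ := hco
  obtain ⟨⟨c₁, hc₁⟩, hA⟩ := IsLocalization.integerNormalization_map_to_map (nonZeroDivisors (MvPolynomial (Fin 3) K)) A
  obtain ⟨⟨c₂, hc₂⟩, hB⟩ := IsLocalization.integerNormalization_map_to_map (nonZeroDivisors (MvPolynomial (Fin 3) K)) B
  set A' := IsLocalization.integerNormalization (nonZeroDivisors (MvPolynomial (Fin 3) K)) A
  set B' := IsLocalization.integerNormalization (nonZeroDivisors (MvPolynomial (Fin 3) K)) B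
  have hbez : Polynomial.C c₂ * A' * P + Polynomial.C c₁ * B' * Q = Polynomial.C (c₁ * c₂) := by
    apply Polynomial.map_injective _ (IsFractionRing.injective (MvPolynomial (Fin 3) K) L)
    simp only [Polynomial.map_add, Polynomial.map_mul, Polynomial.map_C, hA, hB, Algebra.smul_def,
      Polynomial.algebraMap_apply, map_mul, Submonoid.smul_def]
    linear_combination (Polynomial.C (algebraMap (MvPolynomial (Fin 3) K) L c₁) *
      Polynomial.C (algebraMap (MvPolynomial (Fin 3) K) L c₂)) * hAB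
  have hne : c₁ * c₂ ≠ 0 :=
    mul_ne_zero (nonZeroDivisors.ne_zero hc₁) (nonZeroDivisors.ne_zero hc₂)
  obtain ⟨s, hs⟩ : ∃ s : Fin 3 → k, MvPolynomial.eval (fun i => algebraMap k K (s i)) (c₁ * c₂) ≠ 0 := by
    by_contra h
    push Not at h
    refine hne (MvPolynomial.funext_set (fun _ => Set.range (algebraMap k K))
      (fun _ => Set.infinite_range_of_injective (algebraMap k K).injective) fun x hx => ?_)
    choose s hs using fun i => hx i (Set.mem_univ i)
    rw [map_zero, ← show (fun i => algebraMap k K (s i)) = x from funext hs]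
    exact h s
  refine ⟨∑ i : Fin 3, s i • b i.succ, fun t hFt hWt => hs ?_⟩
  have e : M.mulVec (Fin.cons t fun i => algebraMap k K (s i)) =
      fun i => algebraMap k K ((∑ l : Fin 3, s l • b l.succ) i) + t * algebraMap k K (q i) := funext fun i => by
    simp [Matrix.mulVec, dotProduct, Fin.sum_univ_succ, M, hb0, mul_comm]
    ring
  have := congrArg (fun R => (R.map (MvPolynomial.eval fun i => algebraMap k K (s i))).eval t) hbez
  simp only [hP, hQ, Polynomial.map_add, Polynomial.map_mul, Polynomial.map_C, Polynomial.eval_add,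
    Polynomial.eval_mul, Polynomial.eval_C, hev, e, hFt, hWt, mul_zero, add_zero] at this
  exact this.symm

end Avoid

section Witness

variable {k : Type*} [Field k]

/-- Polarisation of a cubic form, with values in an algebra. -/
noncomputable def pol {R : Type*} [CommRing R] [Algebra k R] (F : MvPolynomial (Fin 4) k) (x y z : Fin 4 → R) : R :=
  MvPolynomial.aeval (x + y + z) F - MvPolynomial.aeval (x + y) F - MvPolynomial.aeval (x + z) F
    - MvPolynomial.aeval (y + z) F + MvPolynomial.aeval x F + MvPolynomial.aeval y F + MvPolynomial.aeval z F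

/-- A tangent vector at `P`, depending polynomially on `P`. -/
noncomputable def tang {R : Type*} [CommRing R] [Algebra k R] (F : MvPolynomial (Fin 4) k) (P z y : Fin 4 → R) :
    Fin 4 → R := fun i => pol F P P z * y i - pol F P P y * z i

/-- The two invariants of the tangent section at `P` in the directions `tang y₁`, `tang y₂`. -/
noncomputable def wit {R : Type*} [CommRing R] [Algebra k R] (F : MvPolynomial (Fin 4) k)
    (P z y₁ y₂ : Fin 4 → R) : R × R :=
  let e₁ := tang F P z y₁
  let e₂ := tang F P z y₂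
  (inv1 (pol F P e₁ e₁) (pol F P e₁ e₂) (pol F P e₂ e₂) (pol F e₁ e₁ e₁) (3 * pol F e₁ e₁ e₂) (3 * pol F e₁ e₂ e₂),
    inv2 (pol F P e₁ e₁) (pol F P e₁ e₂) (pol F P e₂ e₂) (pol F e₁ e₁ e₁) (3 * pol F e₁ e₁ e₂) (pol F e₂ e₂ e₂))

variable {R S : Type*} [CommRing R] [Algebra k R] [CommRing S] [Algebra k S]

theorem pol_map (φ : R →ₐ[k] S) (F : MvPolynomial (Fin 4) k) (x y z : Fin 4 → R) :
    φ (pol F x y z) = pol F (φ ∘ x) (φ ∘ y) (φ ∘ z) := by
  simp only [pol, map_add, map_sub, MvPolynomial.comp_aeval_apply]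
  simp only [Function.comp_def, Pi.add_def, map_add]

theorem tang_map (φ : R →ₐ[k] S) (F : MvPolynomial (Fin 4) k) (P z y : Fin 4 → R) :
    φ ∘ tang F P z y = tang F (φ ∘ P) (φ ∘ z) (φ ∘ y) := by
  funext i
  simp [tang, pol_map, Function.comp_def]

theorem wit_map (φ : R →ₐ[k] S) (F : MvPolynomial (Fin 4) k) (P z y₁ y₂ : Fin 4 → R) :
    (φ (wit F P z y₁ y₂).1, φ (wit F P z y₁ y₂).2) = wit F (φ ∘ P) (φ ∘ z) (φ ∘ y₁) (φ ∘ y₂) := by
  simp [wit, inv1, inv2, pol_map, tang_map, map_ofNat]

variable {E : Type*} [Field E] [CharZero E] [Algebra k E]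

theorem pol_eq {F : MvPolynomial (Fin 4) k} {D : Tri E 4} (hD : ∀ v, MvPolynomial.aeval v F = D.F v)
    (x y z : Fin 4 → E) : pol F x y z = 6 * D.T x y z := by
  simp only [pol, hD, Tri.F, map_add, LinearMap.add_apply]
  rw [D.swap12 y x x, D.swap23 x y x, D.swap12 y x y, D.rev y y x,
    D.swap12 z x x, D.swap23 x z x, D.swap12 z x z, D.rev z z x,
    D.swap12 z y y, D.swap23 y z y, D.swap12 z y z, D.rev z z y,
    D.swap23 x z y, D.swap12 y x z, D.swap23 y z x, D.swap12 y x z, D.swap12 z x y, D.swap23 x z y,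
    D.swap23 z y x, D.swap12 z x y, D.swap23 x z y]
  ring

theorem wit_eq {F : MvPolynomial (Fin 4) k} {D : Tri E 4} (hD : ∀ v, MvPolynomial.aeval v F = D.F v)
    (p z y₁ y₂ : Fin 4 → E) (e₁ e₂ : Fin 4 → E) (he₁ : e₁ = tang F p z y₁) (he₂ : e₂ = tang F p z y₂) :
    wit F p z y₁ y₂ = (216 * inv1 (D.T p e₁ e₁) (D.T p e₁ e₂) (D.T p e₂ e₂) (D.F e₁) (3 * D.T e₁ e₁ e₂)
        (3 * D.T e₁ e₂ e₂),
      216 * inv2 (D.T p e₁ e₁) (D.T p e₁ e₂) (D.T p e₂ e₂) (D.F e₁) (3 * D.T e₁ e₁ e₂) (D.F e₂)) := by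
  simp only [wit, ← he₁, ← he₂, pol_eq hD, inv1, inv2, Tri.F]
  refine Prod.ext ?_ ?_ <;> simp only <;> ring

/-- Five points from a point where an invariant does not vanish. -/
theorem five_of_inv (D : Tri E 4) {p e₁ e₂ z : Fin 4 → E} (h0 : D.T p p p = 0) (h1 : D.T p p e₁ = 0)
    (h2 : D.T p p e₂ = 0) (hz : D.T p p z ≠ 0)
    (hw : ¬ (inv1 (D.T p e₁ e₁) (D.T p e₁ e₂) (D.T p e₂ e₂) (D.F e₁) (3 * D.T e₁ e₁ e₂) (3 * D.T e₁ e₂ e₂) = 0 ∧
      inv2 (D.T p e₁ e₁) (D.T p e₁ e₂) (D.T p e₂ e₂) (D.F e₁) (3 * D.T e₁ e₁ e₂) (D.F e₂) = 0)) :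
    ∃ ps : Fin 5 → Fin 4 → E, (∀ j, D.F (ps j) = 0) ∧
      ∀ j : Fin 5, LinearIndependent E fun i : Fin 4 => ps (j.succAbove i) := by
  have hp : p ≠ 0 := fun h => hz (by simp [h])
  have q1 : D.T p e₁ p = 0 := by rw [D.swap23]; exact h1
  have q2 : D.T p e₂ p = 0 := by rw [D.swap23]; exact h2
  have hli3 : LinearIndependent E ![p, e₁, e₂] := by
    refine Fintype.linearIndependent_iff.2 fun c hc => ?_
    simp only [Fin.sum_univ_three, Matrix.cons_val_zero, Matrix.cons_val_one, Matrix.cons_val] at hc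
    have c2 : c 2 = 0 := by
      by_contra hc2
      refine hw ?_
      obtain ⟨α, μ, rfl⟩ : ∃ α μ : E, e₂ = α • p + μ • e₁ := ⟨-(c 0 / c 2), -(c 1 / c 2), by
        have := congrArg (fun v => (c 2)⁻¹ • v) hc
        simp only [smul_add, smul_smul, inv_mul_cancel₀ hc2, one_smul, smul_zero] at this
        rw [eq_neg_of_add_eq_zero_right this]
        module⟩
      have F1 : D.T e₁ e₁ p = D.T p e₁ e₁ := D.rev _ _ _
      simp only [inv1, inv2, Tri.F, map_add, map_smul, LinearMap.add_apply, LinearMap.smul_apply, smul_eq_mul,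
        D.swap12 e₁ p, F1, q1, h1, h0]
      constructor <;> ring
    have c1 : c 1 = 0 := by
      by_contra hc1
      refine hw ?_
      obtain ⟨α, μ, rfl⟩ : ∃ α μ : E, e₁ = α • p + μ • e₂ := ⟨-(c 0 / c 1), -(c 2 / c 1), by
        rw [c2, zero_smul, add_zero] at hc
        have := congrArg (fun v => (c 1)⁻¹ • v) hc
        simp only [smul_add, smul_smul, inv_mul_cancel₀ hc1, one_smul, smul_zero] at this
        rw [eq_neg_of_add_eq_zero_right this, c2]
        module⟩
      have F1 : D.T e₂ e₂ p = D.T p e₂ e₂ := D.rev _ _ _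
      simp only [inv1, inv2, Tri.F, map_add, map_smul, LinearMap.add_apply, LinearMap.smul_apply, smul_eq_mul,
        D.swap12 e₂ p, F1, q2, h2, h0]
      constructor <;> ring
    rw [c1, c2, zero_smul, zero_smul, add_zero, add_zero] at hc
    intro i
    fin_cases i
    · exact (smul_eq_zero.1 hc).resolve_right hp
    · exact c1
    · exact c2
  obtain ⟨ps, -, hps, hgen⟩ := smooth_five D p e₁ e₂ z (frame_li D h0 h1 h2 hz hli3) h0 h1 h2
    (fun hq => hw (by
      have hA : D.T p e₁ e₁ = 0 := by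
        simpa [Polynomial.coeff_X, Polynomial.coeff_C] using congrArg (Polynomial.coeff · 2) hq
      have hB : D.T p e₁ e₂ = 0 := by
        simpa [Polynomial.coeff_X, Polynomial.coeff_C] using congrArg (Polynomial.coeff · 1) hq
      have hD : D.T p e₂ e₂ = 0 := by
        simpa [Polynomial.coeff_X, Polynomial.coeff_C] using congrArg (Polynomial.coeff · 0) hq
      simp [inv1, inv2, hA, hB, hD]))
    (fun ⟨α, β, hab⟩ => hw (by
      have hev := fun t : E => congrArg (Polynomial.eval t) hab
      simp only [Polynomial.eval_add, Polynomial.eval_mul, Polynomial.eval_pow, Polynomial.eval_C,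
        Polynomial.eval_X] at hev
      set A := D.T p e₁ e₁
      set B := D.T p e₁ e₂
      set C := D.T p e₂ e₂
      have c0 : D.F e₂ = β * C := by linear_combination hev 0
      have c3 : D.F e₁ = α * A := by
        linear_combination (hev 2 - 3 * hev 1 + 3 * hev 0 - hev (-1)) / 6
      have c2 : 3 * D.T e₁ e₁ e₂ = 2 * α * B + β * A := by
        linear_combination (hev 1 + hev (-1) - 2 * hev 0) / 2
      have c1 : 3 * D.T e₁ e₂ e₂ = α * C + 2 * β * B := by
        linear_combination (hev 1 - hev (-1)) / 2 - (hev 2 - 3 * hev 1 + 3 * hev 0 - hev (-1)) / 6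
      rw [c0, c1, c2, c3]
      constructor <;> simp only [inv1, inv2] <;> ring))
  exact ⟨ps, hps, hgen⟩

end Witness

end Groth.Agent.CubicFive
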