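import Groth.Agent.Cubics.Descent
import Mathlib.FieldTheory.IsAlgClosed.Basic
import Mathlib.FieldTheory.IntermediateField.Adjoin.Basic

/-!
# Pfaffian representations over the field of a point of a rational line section
-/

namespace Groth.Agent.CubicFive

open Groth.Agent.CubicODP

variable {k : Type*} [Field k] [CharZero k]

theorem eval_map_eq_aeval {E : Type*} [CommRing E] [Algebra k E] (F : MvPolynomial (Fin 4) k) (v : Fin 4 → E) :
    MvPolynomial.eval v (MvPolynomial.map (algebraMap k E) F) = MvPolynomial.aeval v F := by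
  rw [MvPolynomial.eval_map, MvPolynomial.aeval_def]

/-- An irreducible cubic surface contains no plane. -/
theorem noPlane_of_irreducible {K : Type*} [Field K] [CharZero K] (F : MvPolynomial (Fin 4) K) (hirr : Irreducible F)
    (D : Tri K 4) (hD : ∀ v, MvPolynomial.eval v F = D.F v) : NoPlane D := by
  intro x y z hli
  by_contra hall
  push Not at hall
  obtain ⟨w, hw⟩ := exists_linearIndependent_snoc_of_lt_finrank hli (by simp)
  let b : Module.Basis (Fin 4) K (Fin 4 → K) := basisOfLinearIndependentOfCardEqFinrank hw (by simp)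
  have hsum : ∀ v, (b.coord 0 v • x + b.coord 1 v • y + b.coord 2 v • z) + b.coord 3 v • w = v := fun v => by
    conv_rhs => rw [← b.sum_repr v, Fin.sum_univ_four]
    simp only [b, coe_basisOfLinearIndependentOfCardEqFinrank]
    rfl
  let co : Fin 4 → MvPolynomial (Fin 4) K := fun j => lin fun i => b.coord j (Pi.single i 1)
  let X' : Fin 4 → MvPolynomial (Fin 4) K := fun i =>
    co 0 * MvPolynomial.C (x i) + co 1 * MvPolynomial.C (y i) + co 2 * MvPolynomial.C (z i)
  let E' : Fin 4 → MvPolynomial (Fin 4) K := fun i => MvPolynomial.C (w i)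
  let br : MvPolynomial (Fin 4) K := MvPolynomial.C (1 / 2 : K) * pol F X' X' E' +
    co 3 * (MvPolynomial.C (1 / 2 : K) * pol F X' E' E') + co 3 ^ 2 * MvPolynomial.C (D.F w)
  have hD' : ∀ v, MvPolynomial.aeval v F = D.F v := fun v => by
    rw [← hD v, MvPolynomial.aeval_def, ← MvPolynomial.eval_map]; simp
  have hbr : ∀ v, MvPolynomial.eval v br = 3 * D.T (b.coord 0 v • x + b.coord 1 v • y + b.coord 2 v • z)
      (b.coord 0 v • x + b.coord 1 v • y + b.coord 2 v • z) w +
      3 * b.coord 3 v * D.T (b.coord 0 v • x + b.coord 1 v • y + b.coord 2 v • z) w w +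
      b.coord 3 v ^ 2 * D.F w := by
    intro v
    have hX : MvPolynomial.eval v ∘ X' = b.coord 0 v • x + b.coord 1 v • y + b.coord 2 v • z := funext fun i => by
      simp only [Function.comp_apply, X', co, map_add, map_mul, MvPolynomial.eval_C, eval_lin_coord, Pi.add_apply,
        Pi.smul_apply, smul_eq_mul]
    have hE : MvPolynomial.eval v ∘ E' = w := funext fun i => by simp [E']
    have hp : ∀ a b c, MvPolynomial.eval v (pol F a b c) =
        6 * D.T (MvPolynomial.eval v ∘ a) (MvPolynomial.eval v ∘ b) (MvPolynomial.eval v ∘ c) := fun a b c =>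
      (pol_map (MvPolynomial.aeval v) F a b c).trans (pol_eq hD' _ _ _)
    simp only [br, map_add, map_mul, map_pow, MvPolynomial.eval_C, co, eval_lin_coord, hp, hX, hE]
    ring
  have hF : F = co 3 * br := MvPolynomial.funext fun v => by
    rw [map_mul, hbr, hD]
    conv_lhs => rw [← hsum v, Tri.F_add_smul, hall]
    simp only [co, eval_lin_coord]
    ring
  rcases hirr.isUnit_or_isUnit hF with hu | hu <;>
    have hu' := hu.map (MvPolynomial.eval (0 : Fin 4 → K))
  · simp [co, constantCoeff_lin] at hu'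
  · rw [hbr] at hu'
    simp [Tri.F] at hu'

/-- A cubic surface which is not a cone stays so after field extension. -/
theorem notCone_extend {K : Type*} [Field K] [CharZero K] [Algebra k K] (F : MvPolynomial (Fin 4) k)
    (hcone : ¬ ∃ v : Fin 4 → k, v ≠ 0 ∧ ∑ i : Fin 4, v i • MvPolynomial.pderiv i F = 0) (D : Tri K 4)
    (hD : ∀ v i, MvPolynomial.eval v (MvPolynomial.pderiv i (MvPolynomial.map (algebraMap k K) F)) =
      3 * D.T v v (Pi.single i 1)) (w : Fin 4 → K) (hw : w ≠ 0) : ∃ x y, D.T x y w ≠ 0 := by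
  by_contra hall
  push Not at hall
  have hz : ∑ i, MvPolynomial.C (w i) * MvPolynomial.map (algebraMap k K) (MvPolynomial.pderiv i F) = 0 :=
    MvPolynomial.funext fun x => by
      rw [map_sum, map_zero, ← mul_zero (3 : K), ← hall x x, ← sum_single (D.T x x) w, Finset.mul_sum]
      refine Finset.sum_congr rfl fun i _ => ?_
      rw [map_mul, MvPolynomial.eval_C, ← MvPolynomial.pderiv_map, hD, smul_eq_mul]
      ring
  obtain ⟨i₀, hi₀⟩ := Function.ne_iff.1 hw
  let bK := Module.Free.chooseBasis k K
  obtain ⟨j, hj⟩ : ∃ j, bK.coord j (w i₀) ≠ 0 := by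
    by_contra h
    push Not at h
    exact hi₀ (bK.forall_coord_eq_zero_iff.1 h)
  refine hcone ⟨fun i => bK.coord j (w i), fun h => hj (congrFun h i₀), MvPolynomial.ext _ _ fun m => ?_⟩
  have := congrArg (fun q => bK.coord j (MvPolynomial.coeff m q)) hz
  simp only [MvPolynomial.coeff_sum, MvPolynomial.coeff_C_mul, MvPolynomial.coeff_map, MvPolynomial.coeff_zero,
    map_sum, map_zero] at this
  rw [MvPolynomial.coeff_sum, MvPolynomial.coeff_zero, ← this]
  refine Finset.sum_congr rfl fun i _ => ?_
  rw [MvPolynomial.coeff_smul, smul_eq_mul, mul_comm (w i), ← Algebra.smul_def, map_smul, smul_eq_mul]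
  ring

universe v

variable (F : MvPolynomial (Fin 4) k)

/-- A rational line every point of whose section gives a linear Pfaffian representation. -/
theorem exists_good_line (hF : F.IsHomogeneous 3)
    (hirr : Irreducible (MvPolynomial.map (algebraMap k (AlgebraicClosure k)) F))
    (hcone : ¬ ∃ v : Fin 4 → k, v ≠ 0 ∧ ∑ i : Fin 4, v i • MvPolynomial.pderiv i F = 0) :
    ∃ P : Polynomial k, P.natDegree = 3 ∧
      ∀ (E : Type v) [Field E] [CharZero E] [Algebra k E] (_ : E →ₐ[k] AlgebraicClosure k) (t : E),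
        Polynomial.aeval t P = 0 → ∃ M : Matrix (Fin 6) (Fin 6) (MvPolynomial (Fin 4) E),
          (∀ i j, (M i j).IsHomogeneous 1) ∧ M.transpose = -M ∧ (∀ i, M i i = 0) ∧
            ∃ c : E, c ≠ 0 ∧ M.det = MvPolynomial.C c * (MvPolynomial.map (algebraMap k E) F) ^ 2 := by
  classical
  let K := AlgebraicClosure k
  set FK := MvPolynomial.map (algebraMap k K) F with hFKdef
  obtain ⟨D₀, hC, -⟩ := exists_tri F hF
  obtain ⟨D, hD, hDp⟩ := exists_tri FK (hF.map _)
  have hD' : ∀ v, MvPolynomial.aeval v F = D.F v := fun v => (eval_map_eq_aeval F v).symm.trans (hD v)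
  -- a rational point off the surface
  obtain ⟨q, hq⟩ : ∃ q : Fin 4 → k, D₀.F q ≠ 0 := by
    by_contra h
    push Not at h
    have : F = 0 := MvPolynomial.funext fun v => by rw [hC, h, map_zero]
    exact hirr.ne_zero (by rw [hFKdef, this, map_zero])
  have hfun : ∀ v : Fin 4 → k, D.F (fun i => algebraMap k K (v i)) = algebraMap k K (D₀.F v) := fun v => by
    rw [← hD', ← hC]
    exact MvPolynomial.aeval_algebraMap_apply _ _ _
  set qK : Fin 4 → K := fun i => algebraMap k K (q i) with hqKdef
  have hqK : D.F qK ≠ 0 := by rw [hqKdef, hfun]; exact (map_ne_zero _).2 hq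
  have hcub : ∀ t : K, MvPolynomial.eval (fun i => t * algebraMap k K (q i)) FK =
      t ^ 3 * MvPolynomial.eval (fun i => algebraMap k K (q i)) FK := fun t => by
    rw [hD, hD, show (fun i => t * algebraMap k K (q i)) = t • qK from rfl, Tri.F_smul]
  -- a smooth point
  let W₀ : MvPolynomial (Fin 4) K := ∑ i, MvPolynomial.C (qK i) * MvPolynomial.pderiv i FK
  have hW₀ : ∀ v, MvPolynomial.eval v W₀ = 3 * D.T v v qK := fun v => by
    rw [map_sum, ← sum_single (D.T v v) qK, Finset.mul_sum]
    refine Finset.sum_congr rfl fun i _ => ?_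
    rw [map_mul, MvPolynomial.eval_C, hDp, smul_eq_mul]
    ring
  obtain ⟨r, hr⟩ : ∃ r : Fin 4 → K, MvPolynomial.eval r FK = 0 ∧ MvPolynomial.eval r W₀ ≠ 0 := by
    by_contra h
    push Not at h
    have hnd : ¬ FK ∣ W₀ := by
      rintro ⟨g, hg⟩
      let Q : Polynomial K :=
        Polynomial.C (D.F qK) * Polynomial.X * MvPolynomial.aeval (fun i => Polynomial.C (qK i) * Polynomial.X) g -
          Polynomial.C (3 * D.F qK)
      have hQ : Polynomial.X ^ 2 * Q = 0 := eq_zero_of_forall_eval _ fun t => by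
        have h2 := hW₀ (t • qK)
        rw [hg, map_mul, hD, Tri.F_smul] at h2
        simp only [map_smul, LinearMap.smul_apply, smul_eq_mul, Tri.F] at h2
        have hev : (MvPolynomial.aeval (fun i => Polynomial.C (qK i) * Polynomial.X) g).eval t =
            MvPolynomial.eval (t • qK) g := by
          rw [← Polynomial.coe_aeval_eq_eval, MvPolynomial.comp_aeval_apply, MvPolynomial.aeval_eq_eval]
          exact congrArg (fun v => MvPolynomial.eval v g) (funext fun i => by
            simp only [map_mul, Polynomial.aeval_C, Polynomial.aeval_X, Pi.smul_apply, smul_eq_mul,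
              Algebra.algebraMap_self_apply]
            ring)
        simp only [Q, Polynomial.eval_mul, Polynomial.eval_pow, Polynomial.eval_sub, Polynomial.eval_C,
          Polynomial.eval_X, hev, Tri.F]
        linear_combination h2
      have h0 : Q.eval 0 = 0 := by
        rw [(mul_eq_zero.1 hQ).resolve_left (pow_ne_zero _ Polynomial.X_ne_zero), Polynomial.eval_zero]
      simp [Q, hqK] at h0
    obtain ⟨x, hx⟩ := exists_line_avoid FK hirr W₀ hnd q hcub (by rw [hD]; exact hqK)
    set xK : Fin 4 → K := fun i => algebraMap k K (x i)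
    obtain ⟨t, ht⟩ := IsAlgClosed.exists_root
      (Polynomial.C (D.F qK) * Polynomial.X ^ 3 + Polynomial.C (3 * D.T xK qK qK) * Polynomial.X ^ 2 +
        Polynomial.C (3 * D.T xK xK qK) * Polynomial.X + Polynomial.C (D.F xK))
      (by rw [Polynomial.degree_cubic hqK]; norm_num)
    simp only [Polynomial.IsRoot.def, Polynomial.eval_add, Polynomial.eval_mul, Polynomial.eval_pow,
      Polynomial.eval_C, Polynomial.eval_X] at ht
    have h0 : MvPolynomial.eval (fun i => algebraMap k K (x i) + t * algebraMap k K (q i)) FK = 0 := by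
      rw [hD, show (fun i => algebraMap k K (x i) + t * algebraMap k K (q i)) = xK + t • qK from rfl,
        Tri.F_add_smul]
      linear_combination ht
    exact hx t h0 (h _ h0)
  obtain ⟨hr0, hr1⟩ := hr
  rw [hD] at hr0
  rw [hW₀] at hr1
  have hgood := exists_good D (noPlane_of_irreducible FK hirr D hD) (notCone_extend F hcone D hDp)
    ⟨r, qK, hr0, fun h => hr1 (by rw [h, mul_zero])⟩
  simp only [AllBad, not_forall] at hgood
  obtain ⟨p, e₁, e₂, z, hp, h1, h2, hz, hinv⟩ := hgood
  let sel : Bool → K × K → K := fun i x => bif i then x.1 else x.2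
  have hwitK : ∀ v z' y₁ y₂ : Fin 4 → K, wit F v z' y₁ y₂ = (_, _) := fun v z' y₁ y₂ =>
    wit_eq hD' v z' y₁ y₂ _ _ rfl rfl
  have hpz : (wit F p z e₁ e₂).1 ≠ 0 ∨ (wit F p z e₁ e₂).2 ≠ 0 := by
    have t : ∀ e, D.T p p e = 0 → tang F p z e = (6 * D.T p p z) • e := fun e he => funext fun i => by
      simp [tang, pol_eq hD', he]
    rw [wit_eq hD' p z e₁ e₂ _ _ (t e₁ h1).symm (t e₂ h2).symm, ← not_and_or]
    rintro ⟨i1, i2⟩
    refine hinv ?_
    set c := 6 * D.T p p z
    have hc : c ^ 7 * 216 ≠ 0 := mul_ne_zero (pow_ne_zero _ (mul_ne_zero (by norm_num) hz)) (by norm_num)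
    constructor
    · refine (mul_eq_zero.1 ?_).resolve_left hc
      rw [← i1]
      simp only [inv1, Tri.F, map_smul, LinearMap.smul_apply, smul_eq_mul]
      ring
    · refine (mul_eq_zero.1 ?_).resolve_left hc
      rw [← i2]
      simp only [inv2, Tri.F, map_smul, LinearMap.smul_apply, smul_eq_mul]
      ring
  obtain ⟨i, hi⟩ : ∃ i, sel i (wit F p z e₁ e₂) ≠ 0 := hpz.elim (fun h => ⟨true, h⟩) fun h => ⟨false, h⟩
  -- rational parameters
  let R₂ := MvPolynomial (Fin 3 × Fin 4) K
  let selR : R₂ × R₂ → R₂ := fun x => bif i then x.1 else x.2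
  let Φ : R₂ := selR (wit F (fun l => MvPolynomial.C (p l)) (fun l => MvPolynomial.X (0, l))
    (fun l => MvPolynomial.X (1, l)) (fun l => MvPolynomial.X (2, l)))
  have hΦ : ∀ s : Fin 3 × Fin 4 → K, MvPolynomial.eval s Φ =
      sel i (wit F p (fun l => s (0, l)) (fun l => s (1, l)) (fun l => s (2, l))) := fun s => by
    have := wit_map ((MvPolynomial.aeval s : R₂ →ₐ[K] K).restrictScalars k) F (fun l => MvPolynomial.C (p l))
      (fun l => MvPolynomial.X (0, l)) (fun l => MvPolynomial.X (1, l)) (fun l => MvPolynomial.X (2, l))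
    simp only [AlgHom.coe_restrictScalars', MvPolynomial.aeval_eq_eval, Function.comp_def, MvPolynomial.eval_C,
      MvPolynomial.eval_X] at this
    rw [← this]
    cases i <;> rfl
  obtain ⟨s, hs⟩ : ∃ s : Fin 3 × Fin 4 → k, MvPolynomial.eval (fun l => algebraMap k K (s l)) Φ ≠ 0 := by
    by_contra h
    push Not at h
    refine hi ?_
    have hΦ0 : Φ = 0 := MvPolynomial.funext_set (fun _ => Set.range (algebraMap k K))
      (fun _ => Set.infinite_range_of_injective (algebraMap k K).injective) fun x hx => by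
        choose s hs using fun i => hx i (Set.mem_univ i)
        rw [map_zero, ← show (fun i => algebraMap k K (s i)) = x from funext hs]
        exact h s
    have := hΦ (fun l => ![z, e₁, e₂] l.1 l.2)
    rw [hΦ0, map_zero] at this
    exact this.symm
  rw [hΦ] at hs
  let par : Fin 3 → Fin 4 → k := fun j l => s (j, l)
  let R₁ := MvPolynomial (Fin 4) K
  let selR₁ : R₁ × R₁ → R₁ := fun x => bif i then x.1 else x.2
  let W : R₁ := selR₁ (wit F (fun l => MvPolynomial.X l) (fun l => algebraMap k R₁ (par 0 l))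
    (fun l => algebraMap k R₁ (par 1 l)) (fun l => algebraMap k R₁ (par 2 l)))
  have hW : ∀ v, MvPolynomial.eval v W = sel i (wit F v (fun l => algebraMap k K (par 0 l))
      (fun l => algebraMap k K (par 1 l)) (fun l => algebraMap k K (par 2 l))) := fun v => by
    have := wit_map ((MvPolynomial.aeval v : R₁ →ₐ[K] K).restrictScalars k) F (fun l => MvPolynomial.X l)
      (fun l => algebraMap k R₁ (par 0 l)) (fun l => algebraMap k R₁ (par 1 l)) (fun l => algebraMap k R₁ (par 2 l))
    simp only [Function.comp_def, AlgHom.commutes] at this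
    simp only [AlgHom.coe_restrictScalars', MvPolynomial.aeval_eq_eval, MvPolynomial.eval_X] at this
    have hc : ∀ c, MvPolynomial.eval v (algebraMap k R₁ c) = algebraMap k K c :=
      ((MvPolynomial.aeval v : R₁ →ₐ[K] K).restrictScalars k).commutes
    simp only [hc] at this
    rw [← this]
    cases i <;> rfl
  obtain ⟨x, hx⟩ := exists_line_avoid FK hirr W (fun ⟨g, hg⟩ => hs (by
      rw [← hW, hg, map_mul, hD, show D.F p = 0 from hp, zero_mul])) q hcub
    (by rw [hD]; exact hqK)
  let P : Polynomial k := MvPolynomial.aeval (fun l => Polynomial.C (x l) + Polynomial.X * Polynomial.C (q l)) F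
  refine ⟨P, ?_, ?_⟩
  · rw [show P = Polynomial.C (D₀.F q) * Polynomial.X ^ 3 + Polynomial.C (3 * D₀.T x q q) * Polynomial.X ^ 2 +
        Polynomial.C (3 * D₀.T x x q) * Polynomial.X + Polynomial.C (D₀.F x) from
      Polynomial.funext fun t => by
        rw [show P.eval t = MvPolynomial.eval (x + t • q) F from by
          rw [← Polynomial.coe_aeval_eq_eval, MvPolynomial.comp_aeval_apply, MvPolynomial.aeval_eq_eval]
          exact congrArg (fun v => MvPolynomial.eval v F) (funext fun i => by simp; ring), hC, Tri.F_add_smul]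
        simp only [Polynomial.eval_add, Polynomial.eval_mul, Polynomial.eval_pow, Polynomial.eval_C, Polynomial.eval_X]
        ring]
    exact Polynomial.natDegree_cubic hq
  intro E _ _ _ ι t ht
  obtain ⟨DE, hDE, -⟩ := exists_tri (MvPolynomial.map (algebraMap k E) F) (hF.map _)
  have hDE' : ∀ v, MvPolynomial.aeval v F = DE.F v := fun v => (eval_map_eq_aeval F v).symm.trans (hDE v)
  set a : Fin 4 → E := fun l => algebraMap k E (x l) + t * algebraMap k E (q l) with ha
  have hFa : MvPolynomial.aeval a F = 0 := by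
    rw [← ht, MvPolynomial.comp_aeval_apply]
    exact congrArg (fun v => MvPolynomial.aeval v F) (funext fun l => by simp [ha]; ring)
  set zE : Fin 4 → E := fun l => algebraMap k E (par 0 l)
  set y₁ : Fin 4 → E := fun l => algebraMap k E (par 1 l)
  set y₂ : Fin 4 → E := fun l => algebraMap k E (par 2 l)
  have hιa : ι ∘ a = fun l => algebraMap k K (x l) + ι t * algebraMap k K (q l) := funext fun l => by
    simp [ha]; rfl
  have hwE : ¬ ((wit F a zE y₁ y₂).1 = 0 ∧ (wit F a zE y₁ y₂).2 = 0) := by
    rintro ⟨w1, w2⟩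
    refine hx (ι t) ?_ ?_
    · rw [← hιa, eval_map_eq_aeval]
      change MvPolynomial.aeval (fun l => ι (a l)) F = 0
      rw [← MvPolynomial.comp_aeval_apply, hFa, map_zero]
    · have := wit_map ι F a zE y₁ y₂
      rw [w1, w2, map_zero] at this
      simp only [zE, y₁, y₂, Function.comp_def, AlgHom.commutes] at this
      rw [hW, ← hιa, show (ι ∘ a) = fun l => ι (a l) from rfl, ← this]
      cases i <;> rfl
  set e₁' := tang F a zE y₁ with he₁
  set e₂' := tang F a zE y₂ with he₂
  have te : ∀ y, tang F a zE y = (6 * DE.T a a zE) • y + (-(6 * DE.T a a y)) • zE := fun y => funext fun l => by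
    simp [tang, pol_eq hDE']
    ring
  have t0 : ∀ y, DE.T a a (tang F a zE y) = 0 := fun y => by rw [te]; simp; ring
  rw [wit_eq hDE' a zE y₁ y₂ e₁' e₂' he₁ he₂] at hwE
  obtain ⟨z', hz'⟩ : ∃ z', DE.T a a z' ≠ 0 := by
    by_contra h
    push Not at h
    refine hwE ?_
    have z1 : e₁' = 0 := by rw [he₁, te, h, h]; simp
    rw [z1]
    simp [inv1, inv2, Tri.F]
  obtain ⟨ps, hps, hgen⟩ := five_of_inv DE (by rw [← hFa, hDE']; rfl) (t0 y₁) (t0 y₂) hz' fun h => hwE (by
    obtain ⟨i1, i2⟩ := h
    simp only [← he₁, ← he₂] at i1 i2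
    simp [i1, i2])
  exact pfaffian_of_five _ (hF.map _) ps (fun j => by rw [hDE, hps]) hgen

theorem exists_real_root (P : Polynomial ℝ) (h : P.natDegree = 3) : ∃ x, P.IsRoot x := by
  have ha : P.coeff 3 ≠ 0 := by
    rw [← h]; exact Polynomial.leadingCoeff_ne_zero.2 fun h0 => by simp [h0] at h
  set a := P.coeff 3
  set b := P.coeff 2 / a
  set c := P.coeff 1 / a
  set d := P.coeff 0 / a
  have hev : ∀ x, P.eval x = a * (x ^ 3 + b * x ^ 2 + c * x + d) := fun x => by
    rw [Polynomial.eval_eq_sum_range, h]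
    simp only [Finset.sum_range_succ, Finset.sum_range_zero, b, c, d]
    field_simp
    ring
  set g : ℝ → ℝ := fun x => x ^ 3 + b * x ^ 2 + c * x + d
  set M := 1 + |b| + |c| + |d|
  have hM : 1 ≤ M := by simp only [M]; linarith [abs_nonneg b, abs_nonneg c, abs_nonneg d]
  have h1 : 0 ≤ g M := by
    have := neg_abs_le b; have := neg_abs_le c; have := neg_abs_le d
    have e : M ^ 2 * 1 ≤ M ^ 3 - (|b| + |c| + |d|) * M ^ 2 := by simp only [M]; ring_nf; exact le_refl _
    simp only [g]
    nlinarith [mul_le_mul_of_nonneg_right (neg_abs_le b) (sq_nonneg M), mul_nonneg (abs_nonneg c) (sub_nonneg.2 hM),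
      mul_nonneg (abs_nonneg d) (sub_nonneg.2 hM), sq_nonneg M]
  have h2 : g (-M) ≤ 0 := by
    have e : M ^ 2 * 1 ≤ M ^ 3 - (|b| + |c| + |d|) * M ^ 2 := by simp only [M]; ring_nf; exact le_refl _
    simp only [g]
    nlinarith [mul_le_mul_of_nonneg_right (le_abs_self b) (sq_nonneg M), mul_nonneg (abs_nonneg c) (sub_nonneg.2 hM),
      mul_nonneg (abs_nonneg d) (sub_nonneg.2 hM), sq_nonneg M, neg_abs_le c, le_abs_self d]
  obtain ⟨x, -, hx⟩ := intermediate_value_Icc (by linarith : -M ≤ M) (by fun_prop : ContinuousOn g (Set.Icc (-M) M))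
    ⟨h2, h1⟩
  exact ⟨x, by rw [Polynomial.IsRoot.def, hev]; simp only [g] at hx; rw [hx, mul_zero]⟩

end Groth.Agent.CubicFive
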