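import Groth.Agent.Cubics.Forms
import Mathlib.LinearAlgebra.Dual.Lemmas

/-! Eckardt points of cubic surfaces and their reflections. -/

namespace Groth.Agent.Cubics

open Module

variable {n : ℕ} (C₀ : Tri n)

/-- `T(e,·,·)` vanishes on the tangent hyperplane at `e`. -/
def IsEck (e : Vec n) : Prop :=
  C₀.F e = 0 ∧ ∀ x y, C₀.T e e x = 0 → C₀.T e e y = 0 → C₀.T e x y = 0

/-- Three distinct lines on the hypersurface through `e`. -/
def ThreeLines (e : Vec n) : Prop :=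
  ∃ U : Fin 3 → Submodule ℂ (Vec n), Function.Injective U ∧
    ∀ i : Fin 3, Module.finrank ℂ ↥(U i) = 2 ∧ e ∈ U i ∧ ∀ u ∈ U i, C₀.F u = 0

/-- A reflection preserving the form. -/
def IsRefl (A : Matrix (Fin n) (Fin n) ℂ) (e : Vec n) : Prop :=
  ∃ φ : Vec n →ₗ[ℂ] ℂ, (∀ x, A.mulVec x = x + φ x • e) ∧ φ e = -2 ∧
    ∀ x, C₀.T e x x = -φ x * C₀.T e e x

variable {C₀}

theorem threeLines_iff {f : MvPolynomial (Fin n) ℂ} (hF : ∀ v, MvPolynomial.eval v f = C₀.F v)
    (e : Vec n) :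
    (∃ U : Fin 3 → Submodule ℂ (Vec n), Function.Injective U ∧
      ∀ i : Fin 3, Module.finrank ℂ ↥(U i) = 2 ∧ e ∈ U i ∧ ∀ u ∈ U i, MvPolynomial.eval u f = 0)
      ↔ ThreeLines C₀ e := by
  simp only [ThreeLines, hF]

theorem exists_unit_dir (hs : C₀.Smooth) {e : Vec n} (he : e ≠ 0) (h0 : C₀.F e = 0) :
    ∃ o, C₀.T e e o = 1 := by
  obtain ⟨x, hx⟩ := hs e he h0
  exact ⟨(C₀.T e e x)⁻¹ • x, by simp [hx]⟩

theorem smul_ne_self {e x : Vec n} (h : x ∉ Submodule.span ℂ {e}) {a b : ℂ}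
    (hab : a • e + b • x = 0) (he : e ≠ 0) : a = 0 ∧ b = 0 := by
  have hb : b = 0 := by
    by_contra hb
    refine h (Submodule.mem_span_singleton.2 ⟨-(b⁻¹ * a), ?_⟩)
    have : x = -(b⁻¹ • (a • e)) := by
      rw [eq_neg_iff_add_eq_zero, ← smul_right_inj hb, smul_add, smul_smul b b⁻¹, mul_inv_cancel₀ hb,
        one_smul, smul_zero, add_comm, hab]
    rw [this, neg_smul, mul_smul]
  subst hb
  rw [zero_smul, add_zero, smul_eq_zero] at hab
  exact ⟨hab.resolve_right he, rfl⟩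

theorem exists_phi (hs : C₀.Smooth) {e : Vec n} (he : e ≠ 0) (hE : IsEck C₀ e) :
    ∃ φ : Vec n →ₗ[ℂ] ℂ, φ e = -2 ∧ ∀ x, C₀.T e x x = -φ x * C₀.T e e x := by
  obtain ⟨o, ho⟩ := exists_unit_dir hs he hE.1
  refine ⟨(-2 : ℂ) • (C₀.T e).flip o + C₀.T e o o • C₀.T e e, ?_, fun x => ?_⟩
  · have h0 : C₀.T e e e = 0 := hE.1
    simp [ho, h0]
  · have h0 : C₀.T e e (x - C₀.T e e x • o) = 0 := by simp [ho]
    have := hE.2 _ _ h0 h0
    simp only [map_sub, map_smul, LinearMap.sub_apply, LinearMap.smul_apply, smul_eq_mul] at this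
    simp only [LinearMap.add_apply, LinearMap.smul_apply, LinearMap.flip_apply, smul_eq_mul]
    linear_combination this + C₀.T e e x * C₀.swap23 e o x

theorem IsEck.of_phi {e : Vec n} (h0 : C₀.F e = 0) (φ : Vec n →ₗ[ℂ] ℂ)
    (hφ : ∀ x, C₀.T e x x = -φ x * C₀.T e e x) : IsEck C₀ e := by
  refine ⟨h0, fun x y hx hy => ?_⟩
  have h1 := hφ (x + y)
  simp only [map_add, LinearMap.add_apply, hφ x, hφ y, hx, hy] at h1
  linear_combination (1 / 2 : ℂ) * h1 + (1 / 2 : ℂ) * C₀.swap23 e x y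

theorem refl_invariant {e : Vec n} (φ : Vec n →ₗ[ℂ] ℂ)
    (hφ : ∀ x, C₀.T e x x = -φ x * C₀.T e e x) (x : Vec n) :
    C₀.F (x + φ x • e) = C₀.F x + φ x ^ 3 * C₀.F e := by
  rw [Tri.F_add_smul, C₀.rev x x e, C₀.rev x e e, hφ x]
  ring

theorem IsRefl.invariant {A : Matrix (Fin n) (Fin n) ℂ} {e : Vec n} (h : IsRefl C₀ A e)
    (h0 : C₀.F e = 0) (x : Vec n) : C₀.F (A.mulVec x) = C₀.F x := by
  obtain ⟨φ, hA, -, hφ⟩ := h
  rw [hA, refl_invariant φ hφ, h0]; ring

theorem IsRefl.sq {A : Matrix (Fin n) (Fin n) ℂ} {e : Vec n} (h : IsRefl C₀ A e) : A * A = 1 := by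
  obtain ⟨φ, hA, he, -⟩ := h
  refine Matrix.mulVec_injective (funext fun x => ?_)
  rw [← Matrix.mulVec_mulVec, Matrix.one_mulVec, hA (A.mulVec x), hA x, map_add, map_smul, he]
  simp only [smul_eq_mul]
  module

theorem IsRefl.unique (hs : C₀.Smooth) {A B : Matrix (Fin n) (Fin n) ℂ} {e : Vec n} (he : e ≠ 0)
    (h0 : C₀.F e = 0) (hA : IsRefl C₀ A e) (hB : IsRefl C₀ B e) : A = B := by
  obtain ⟨o, ho⟩ := exists_unit_dir hs he h0
  obtain ⟨φ, hA, -, hφ⟩ := hA
  obtain ⟨ψ, hB, -, hψ⟩ := hB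
  have key : ∀ x, C₀.T e e x = 1 → φ x = ψ x := fun x hx => by
    have := (hφ x).symm.trans (hψ x)
    rw [hx] at this
    simpa using this
  have hall : ∀ x, φ x = ψ x := fun x => by
    have h1 := key (x + (1 - C₀.T e e x) • o) (by simp [ho])
    simp only [map_add, map_smul, key o ho] at h1
    exact add_right_cancel h1
  refine Matrix.mulVec_injective (funext fun x => ?_)
  rw [hA, hB, hall]

theorem IsRefl.smul {A : Matrix (Fin n) (Fin n) ℂ} {e : Vec n} (h : IsRefl C₀ A e) {d : ℂ}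
    (hd : d ≠ 0) : IsRefl C₀ A (d • e) := by
  obtain ⟨φ, hA, he, hφ⟩ := h
  refine ⟨d⁻¹ • φ, fun x => ?_, ?_, fun x => ?_⟩
  · rw [hA, LinearMap.smul_apply, smul_eq_mul, smul_smul]
    congr 2
    field_simp
  · rw [LinearMap.smul_apply, map_smul, he, smul_eq_mul, smul_eq_mul]
    field_simp
  · simp only [map_smul, LinearMap.smul_apply, smul_eq_mul, hφ x]
    field_simp

theorem IsRefl.conj {A B : Matrix (Fin n) (Fin n) ℂ} {e e' : Vec n} (hA : IsRefl C₀ A e)
    (h0 : C₀.F e = 0) (hB : IsRefl C₀ B e') : IsRefl C₀ (A * B * A) (A.mulVec e') := by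
  obtain ⟨ψ, hB, hψe, hψ⟩ := hB
  have hsq : ∀ x, A.mulVec (A.mulVec x) = x := fun x => by
    rw [Matrix.mulVec_mulVec, hA.sq, Matrix.one_mulVec]
  have hT := C₀.map_T (Matrix.mulVecLin A) 1 fun x => by
    rw [Matrix.mulVecLin_apply, hA.invariant h0, one_mul]
  simp only [Matrix.mulVecLin_apply, one_mul] at hT
  refine ⟨ψ ∘ₗ Matrix.mulVecLin A, fun x => ?_, ?_, fun x => ?_⟩
  · rw [← Matrix.mulVec_mulVec, ← Matrix.mulVec_mulVec, hB, Matrix.mulVec_add, Matrix.mulVec_smul,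
      hsq, LinearMap.comp_apply, Matrix.mulVecLin_apply]
  · rw [LinearMap.comp_apply, Matrix.mulVecLin_apply, hsq, hψe]
  · rw [LinearMap.comp_apply, Matrix.mulVecLin_apply]
    conv_lhs => rw [← hsq x, hT]
    conv_rhs => enter [2]; rw [← hsq x, hT]
    exact hψ _

theorem IsEck.map {e : Vec n} (hE : IsEck C₀ e)
    {A : Matrix (Fin n) (Fin n) ℂ} (hA : A * A = 1) (hinv : ∀ x, C₀.F (A.mulVec x) = C₀.F x) :
    IsEck C₀ (A.mulVec e) := by
  have hsq : ∀ x, A.mulVec (A.mulVec x) = x := fun x => by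
    rw [Matrix.mulVec_mulVec, hA, Matrix.one_mulVec]
  have hT := C₀.map_T (Matrix.mulVecLin A) 1 fun x => by
    rw [Matrix.mulVecLin_apply, hinv, one_mul]
  simp only [Matrix.mulVecLin_apply, one_mul] at hT
  refine ⟨by rw [hinv, hE.1], fun x y hx hy => ?_⟩
  rw [← hsq x, ← hsq y, hT] at *
  exact hE.2 _ _ hx hy

theorem exists_isRefl (hs : C₀.Smooth) {e : Vec n} (he : e ≠ 0) (hE : IsEck C₀ e) :
    ∃ A, IsRefl C₀ A e := by
  obtain ⟨φ, hφe, hφ⟩ := exists_phi hs he hE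
  refine ⟨LinearMap.toMatrix' (LinearMap.id + φ.smulRight e), φ, fun x => ?_, hφe, hφ⟩
  rw [LinearMap.toMatrix'_mulVec]
  rfl

theorem IsRefl.finrank_ker {A : Matrix (Fin n) (Fin n) ℂ} {e : Vec n} (h : IsRefl C₀ A e)
    (he : e ≠ 0) :
    finrank ℂ ↥(LinearMap.ker (Matrix.toLin' A - LinearMap.id)) + 1 = n := by
  obtain ⟨φ, hA, hφe, -⟩ := h
  have : LinearMap.ker (Matrix.toLin' A - LinearMap.id) = LinearMap.ker φ := by
    ext x
    rw [LinearMap.mem_ker, LinearMap.mem_ker, LinearMap.sub_apply, Matrix.toLin'_apply, hA,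
      LinearMap.id_apply, add_sub_cancel_left, smul_eq_zero, or_iff_left he]
  rw [this, Module.Dual.finrank_ker_add_one_of_ne_zero, Module.finrank_fin_fun]
  intro h0
  rw [h0] at hφe
  norm_num at hφe

theorem IsRefl.mulVec_self {A : Matrix (Fin n) (Fin n) ℂ} {e : Vec n} (h : IsRefl C₀ A e) :
    A.mulVec e = -e := by
  obtain ⟨φ, hA, hφe, -⟩ := h
  rw [hA, hφe]; module

/-- An involution with a hyperplane of fixed vectors preserving the form is a reflection. -/
theorem isRefl_of_invol {C₀ : Tri 4} (hs : C₀.Smooth) {A : Matrix (Fin 4) (Fin 4) ℂ} {e : Vec 4}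
    (he : e ≠ 0) (h0 : C₀.F e = 0) (_hsq : A * A = 1)
    (hker : finrank ℂ ↥(LinearMap.ker (Matrix.toLin' A - LinearMap.id)) = 3)
    (hAe : A.mulVec e = -e) {c : ℂ} (hc : ∀ x, C₀.F (A.mulVec x) = c * C₀.F x) :
    IsRefl C₀ A e := by
  set B := Matrix.toLin' A - LinearMap.id with hB
  have hBe : B e = (-2 : ℂ) • e := by
    rw [hB, LinearMap.sub_apply, Matrix.toLin'_apply, hAe, LinearMap.id_apply]; module
  have hrange : LinearMap.range B = Submodule.span ℂ {e} := by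
    symm
    refine Submodule.eq_of_le_of_finrank_le ?_ ?_
    · rw [Submodule.span_singleton_le_iff_mem]
      exact ⟨(-2 : ℂ)⁻¹ • e, by rw [map_smul, hBe, smul_smul]; norm_num⟩
    · rw [finrank_span_singleton he]
      have := B.finrank_range_add_finrank_ker
      rw [show finrank ℂ ↥(LinearMap.ker B) = 3 from hker,
        show finrank ℂ (Vec 4) = 4 from Module.finrank_fin_fun ℂ] at this
      change finrank ℂ ↥(LinearMap.range B) ≤ 1
      omega
  obtain ⟨i, hi⟩ := Function.ne_iff.1 he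
  let φ : Vec 4 →ₗ[ℂ] ℂ := (e i)⁻¹ • (LinearMap.proj i ∘ₗ B)
  have hA : ∀ x, A.mulVec x = x + φ x • e := fun x => by
    obtain ⟨t, ht⟩ := Submodule.mem_span_singleton.1
      (show B x ∈ Submodule.span ℂ {e} from hrange ▸ LinearMap.mem_range_self B x)
    have : φ x = t := by
      simp only [φ, LinearMap.smul_apply, LinearMap.comp_apply, LinearMap.proj_apply, ← ht,
        Pi.smul_apply, smul_eq_mul]
      field_simp [show e i ≠ 0 from hi]
    rw [this, ht, hB, LinearMap.sub_apply, Matrix.toLin'_apply, LinearMap.id_apply]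
    abel
  have hφe : φ e = -2 := by
    simp only [φ, LinearMap.smul_apply, LinearMap.comp_apply, LinearMap.proj_apply, hBe,
      Pi.smul_apply, smul_eq_mul]
    field_simp [show e i ≠ 0 from hi]
  have hE : ∀ x (s : ℂ), 3 * (φ x - s) * C₀.T e x x + 3 * (φ x - s) ^ 2 * C₀.T e e x + C₀.F x
      = c * (C₀.F x + 3 * s * C₀.T e x x + 3 * s ^ 2 * C₀.T e e x) := fun x s => by
    have h := hc (x + s • e)
    rw [Matrix.mulVec_add, Matrix.mulVec_smul, hAe, hA,
      show x + φ x • e + s • -e = x + (φ x - s) • e by module, Tri.F_add_smul, Tri.F_add_smul,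
      C₀.rev x x e, C₀.rev x e e, h0] at h
    linear_combination h
  obtain ⟨o, ho⟩ := exists_unit_dir hs he h0
  have hc1 : c = 1 := by
    have e1 := hE o 1; have e2 := hE o (-1); have e3 := hE o 0
    rw [ho] at e1 e2 e3
    linear_combination (-1 / 6 : ℂ) * e1 + (-1 / 6 : ℂ) * e2 + (1 / 3 : ℂ) * e3
  refine ⟨φ, hA, hφe, fun x => ?_⟩
  have e1 := hE x 1; have e2 := hE x (-1)
  rw [hc1] at e1 e2
  linear_combination (-1 / 12 : ℂ) * e1 + (1 / 12 : ℂ) * e2

section lines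

variable {C₀ : Tri 4}

theorem line_conds {e u : Vec 4} {U : Submodule ℂ (Vec 4)} (heU : e ∈ U) (huU : u ∈ U)
    (h : ∀ w ∈ U, C₀.F w = 0) : C₀.T e e u = 0 ∧ C₀.T e u u = 0 := by
  have h1 := h _ (U.add_mem heU (U.smul_mem (1 : ℂ) huU))
  have h2 := h _ (U.add_mem heU (U.smul_mem (-1 : ℂ) huU))
  rw [Tri.F_add_smul, h e heU, h u huU] at h1 h2
  exact ⟨by linear_combination (1 / 6 : ℂ) * h1 - (1 / 6 : ℂ) * h2,
    by linear_combination (1 / 6 : ℂ) * h1 + (1 / 6 : ℂ) * h2⟩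

theorem span_pair_eq {e u : Vec 4} {U : Submodule ℂ (Vec 4)} (hU : finrank ℂ U = 2) (he : e ≠ 0)
    (heU : e ∈ U) (huU : u ∈ U) (hu : u ∉ Submodule.span ℂ {e}) :
    Submodule.span ℂ {e, u} = U := by
  have hle : Submodule.span ℂ {e, u} ≤ U := by
    rw [Submodule.span_le]; exact Set.insert_subset heU (Set.singleton_subset_iff.2 huU)
  refine Submodule.eq_of_le_of_finrank_le hle ?_
  have : finrank ℂ (Submodule.span ℂ {e}) < finrank ℂ (Submodule.span ℂ ({e, u} : Set (Vec 4))) :=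
    Submodule.finrank_lt_finrank_of_lt (lt_of_le_not_ge
      (Submodule.span_mono (Set.singleton_subset_iff.2 (Set.mem_insert _ _)))
      fun hge => hu (hge (Submodule.subset_span (Set.mem_insert_of_mem _ rfl))))
  rw [finrank_span_singleton he] at this
  omega

theorem finrank_tangent (hs : C₀.Smooth) {e : Vec 4} (he : e ≠ 0) (h0 : C₀.F e = 0) :
    finrank ℂ (LinearMap.ker (C₀.T e e)) = 3 := by
  obtain ⟨o, ho⟩ := exists_unit_dir hs he h0
  have := Module.Dual.finrank_ker_add_one_of_ne_zero (f := C₀.T e e) fun h => by simp [h] at ho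
  rw [Module.finrank_fin_fun] at this
  omega

theorem IsEck.of_threeLines (hs : C₀.Smooth) {e : Vec 4} (he : e ≠ 0) (h : ThreeLines C₀ e) :
    IsEck C₀ e := by
  obtain ⟨U, hinj, hU⟩ := h
  have h0 : C₀.F e = 0 := (hU 0).2.2 e (hU 0).2.1
  have hex : ∀ i, ∃ u ∈ U i, u ∉ Submodule.span ℂ {e} := fun i => by
    by_contra! hcon
    have := Submodule.finrank_mono (show U i ≤ Submodule.span ℂ {e} from hcon)
    rw [(hU i).1, finrank_span_singleton he] at this
    omega
  choose u huU hue using hex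
  have hsp : ∀ i, Submodule.span ℂ {e, u i} = U i := fun i =>
    span_pair_eq (hU i).1 he (hU i).2.1 (huU i) (hue i)
  have hne : ∀ i j, i ≠ j → u i ∉ U j := fun i j hij hm => hij <| hinj <|
    (hsp i).symm.trans (span_pair_eq (hU j).1 he (hU j).2.1 hm (hue i))
  set H := LinearMap.ker (C₀.T e e) with hH
  have hle : ∀ i, U i ≤ H := fun i x hx => (line_conds (hU i).2.1 hx (hU i).2.2).1
  have heq : U 0 ⊔ U 1 = H := by
    refine Submodule.eq_of_le_of_finrank_le (sup_le (hle 0) (hle 1)) ?_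
    have : finrank ℂ (U 0) < finrank ℂ ↥(U 0 ⊔ U 1) := Submodule.finrank_lt_finrank_of_lt
      (left_lt_sup.2 fun hge => hne 1 0 (by decide) (hge (huU 1)))
    rw [(hU 0).1] at this
    rw [hH, finrank_tangent hs he h0]
    omega
  have dec : ∀ x ∈ H, ∃ s a b : ℂ, x = s • e + a • u 0 + b • u 1 := by
    intro x hx
    rw [← heq, ← hsp 0, ← hsp 1, Submodule.mem_sup] at hx
    obtain ⟨y, hy, z, hz, rfl⟩ := hx
    obtain ⟨s, a, rfl⟩ := Submodule.mem_span_pair.1 hy
    obtain ⟨s', b, rfl⟩ := Submodule.mem_span_pair.1 hz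
    exact ⟨s + s', a, b, by module⟩
  obtain ⟨s, a, b, h2⟩ := dec (u 2) (hle 2 (huU 2))
  have ha : a ≠ 0 := fun ha => hne 2 1 (by decide) <| by
    rw [h2, ha, zero_smul, add_zero, ← hsp 1]
    exact Submodule.mem_span_pair.2 ⟨s, b, rfl⟩
  have hb : b ≠ 0 := fun hb => hne 2 0 (by decide) <| by
    rw [h2, hb, zero_smul, add_zero, ← hsp 0]
    exact Submodule.mem_span_pair.2 ⟨s, a, rfl⟩
  have l0 := line_conds (hU 0).2.1 (huU 0) (hU 0).2.2
  have l1 := line_conds (hU 1).2.1 (huU 1) (hU 1).2.2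
  have l2 := (line_conds (hU 2).2.1 (huU 2) (hU 2).2.2).2
  have hee : C₀.T e e e = 0 := h0
  have h01 : C₀.T e (u 0) (u 1) = 0 := by
    rw [h2] at l2
    simp only [map_add, map_smul, LinearMap.add_apply, LinearMap.smul_apply, smul_eq_mul, hee,
      l0.1, l1.1, l0.2, l1.2, C₀.swap23 e (u 0) e, C₀.swap23 e (u 1) e,
      C₀.swap23 e (u 1) (u 0)] at l2
    have : 2 * a * b * C₀.T e (u 0) (u 1) = 0 := by linear_combination l2
    simpa [ha, hb] using this
  refine ⟨h0, fun x y hx hy => ?_⟩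
  obtain ⟨s, a, b, rfl⟩ := dec x hx
  obtain ⟨s', a', b', rfl⟩ := dec y hy
  simp only [map_add, map_smul, LinearMap.add_apply, LinearMap.smul_apply, smul_eq_mul, hee,
    l0.1, l1.1, l0.2, l1.2, C₀.swap23 e (u 0) e, C₀.swap23 e (u 1) e,
    C₀.swap23 e (u 1) (u 0), h01]
  ring

/-- Smoothness: the tangent section at an Eckardt point has no double line. -/
theorem noDouble (hs : C₀.Smooth) {e : Vec 4} (he : e ≠ 0) (hE : IsEck C₀ e) {w : Vec 4}
    (hw : w ∉ Submodule.span ℂ {e}) (hwH : C₀.T e e w = 0) (_hw0 : C₀.F w = 0) :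
    ∃ h, C₀.T e e h = 0 ∧ C₀.T w w h ≠ 0 := by
  by_contra! hcon
  obtain ⟨o, ho⟩ := exists_unit_dir hs he hE.1
  obtain ⟨t, ht⟩ := exists_quad_root 1 (2 * C₀.T e w o) (C₀.T w w o) one_ne_zero
  have hH : ∀ h, C₀.T e e h = 0 → C₀.T (w + t • e) (w + t • e) h = 0 := fun h hh => by
    simp only [map_add, map_smul, LinearMap.add_apply, LinearMap.smul_apply, smul_eq_mul,
      C₀.swap12 w e h, hE.2 w h hwH hh, hcon h hh, hh]
    ring
  have hall : ∀ x, C₀.T (w + t • e) (w + t • e) x = 0 := fun x => by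
    have h1 := hH (x - C₀.T e e x • o) (by simp [ho])
    have h2 : C₀.T (w + t • e) (w + t • e) o = 0 := by
      simp only [map_add, map_smul, LinearMap.add_apply, LinearMap.smul_apply, smul_eq_mul,
        C₀.swap12 w e o, ho]
      linear_combination ht
    rw [map_sub, map_smul, h2, smul_zero, sub_zero] at h1
    exact h1
  have hv : w + t • e ≠ 0 := fun h => hw <| Submodule.mem_span_singleton.2
    ⟨-t, by rw [neg_smul]; exact (eq_neg_of_add_eq_zero_left h).symm⟩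
  obtain ⟨x, hx⟩ := hs _ hv (hall _)
  exact hx (hall x)

theorem IsEck.threeLines (hs : C₀.Smooth) {e : Vec 4} (he : e ≠ 0) (hE : IsEck C₀ e) :
    ThreeLines C₀ e := by
  have hee : C₀.T e e e = 0 := hE.1
  set H := LinearMap.ker (C₀.T e e) with hH
  have hfin := finrank_tangent hs he hE.1
  obtain ⟨x, hxH, hxe⟩ : ∃ x ∈ H, x ∉ Submodule.span ℂ {e} := by
    by_contra! hcon
    have := Submodule.finrank_mono (show H ≤ Submodule.span ℂ {e} from hcon)
    rw [hH, hfin, finrank_span_singleton he] at this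
    omega
  set P := Submodule.span ℂ ({e, x} : Set (Vec 4)) with hP
  have hPH : P ≤ H := Submodule.span_le.2 (Set.insert_subset hee (Set.singleton_subset_iff.2 hxH))
  have hP2 : finrank ℂ P = 2 := by
    rw [hP, ← Matrix.range_cons_cons_empty e x (fun i : Fin 0 => i.elim0),
      finrank_span_eq_card]
    · simp
    · exact LinearIndependent.pair_iff.2 fun a b h => smul_ne_self hxe h he
  obtain ⟨y, hyH, hyP⟩ : ∃ y ∈ H, y ∉ P := by
    by_contra! hcon
    have := Submodule.finrank_mono (show H ≤ P from hcon)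
    rw [hH, hfin, hP2] at this
    omega
  have hind : ∀ {s a b : ℂ}, s • e + a • x + b • y = 0 → a = 0 ∧ b = 0 := by
    intro s a b h
    have hb : b = 0 := by
      by_contra hb
      refine hyP (Submodule.mem_span_pair.2 ⟨-(b⁻¹ * s), -(b⁻¹ * a), ?_⟩)
      have : b • y = -(s • e + a • x) := eq_neg_of_add_eq_zero_right h
      calc -(b⁻¹ * s) • e + -(b⁻¹ * a) • x = b⁻¹ • (-(s • e + a • x)) := by module
        _ = y := by rw [← this, smul_smul, inv_mul_cancel₀ hb, one_smul]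
    subst hb
    rw [zero_smul, add_zero] at h
    exact ⟨(smul_ne_self hxe h he).2, rfl⟩
  have hall : ∀ z ∈ H, ∃ s a b : ℂ, z = s • e + a • x + b • y := by
    have : P ⊔ Submodule.span ℂ {y} = H := by
      refine Submodule.eq_of_le_of_finrank_le
        (sup_le hPH ((Submodule.span_singleton_le_iff_mem _ _).2 hyH)) ?_
      have : finrank ℂ P < finrank ℂ ↥(P ⊔ Submodule.span ℂ {y}) :=
        Submodule.finrank_lt_finrank_of_lt (left_lt_sup.2 fun h =>
          hyP (h (Submodule.mem_span_singleton_self y)))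
      rw [hH, hfin]
      omega
    intro z hz
    rw [← this, Submodule.mem_sup] at hz
    obtain ⟨p, hp, q, hq, rfl⟩ := hz
    obtain ⟨s, a, rfl⟩ := Submodule.mem_span_pair.1 hp
    obtain ⟨b, rfl⟩ := Submodule.mem_span_singleton.1 hq
    exact ⟨s, a, b, rfl⟩
  -- a basis with `F a = 0`
  obtain ⟨a, b, ha0, haH, hbH, hind', hall'⟩ : ∃ a b, C₀.F a = 0 ∧ C₀.T e e a = 0 ∧ C₀.T e e b = 0 ∧
      (∀ {s p q : ℂ}, s • e + p • a + q • b = 0 → p = 0 ∧ q = 0) ∧
      ∀ z ∈ H, ∃ s p q : ℂ, z = s • e + p • a + q • b := by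
    by_cases hy0 : C₀.F y = 0
    · refine ⟨y, x, hy0, hyH, hxH, fun {s p q} h => ?_, fun z hz => ?_⟩
      · exact (hind (s := s) (a := q) (b := p) (by rw [← h]; abel)).symm
      · obtain ⟨s, p, q, rfl⟩ := hall z hz
        exact ⟨s, q, p, by abel⟩
    · obtain ⟨r, hr⟩ := exists_cubic_root (C₀.F y) (3 * C₀.T x y y) (3 * C₀.T x x y) (C₀.F x) hy0
      refine ⟨x + r • y, y, ?_, ?_, hyH, fun {s p q} h => ?_, fun z hz => ?_⟩
      · rw [Tri.F_add_smul]; linear_combination hr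
      · rw [map_add, map_smul, show C₀.T e e x = 0 from hxH, show C₀.T e e y = 0 from hyH]; simp
      · obtain ⟨h1, h2⟩ := hind (s := s) (a := p) (b := p * r + q) (by rw [← h]; module)
        refine ⟨h1, ?_⟩
        rw [h1, zero_mul, zero_add] at h2
        exact h2
      · obtain ⟨s, p, q, rfl⟩ := hall z hz
        exact ⟨s, p, q - p * r, by module⟩
  have hTee : ∀ {v}, C₀.T e e v = 0 → C₀.T v v e = 0 := fun hv => by
    rw [C₀.rev]; exact hE.2 _ _ hv hv
  have hae : a ∉ Submodule.span ℂ {e} := fun h => by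
    obtain ⟨s, hs'⟩ := Submodule.mem_span_singleton.1 h
    exact one_ne_zero (hind' (s := -s) (p := 1) (q := 0) (by rw [← hs']; module)).1
  have hβ : C₀.T a a b ≠ 0 := by
    intro hβ
    obtain ⟨h, hh, hne⟩ := noDouble hs he hE hae haH ha0
    obtain ⟨s, p, q, rfl⟩ := hall' h hh
    refine hne ?_
    have : C₀.T a a a = 0 := ha0
    simp [map_add, map_smul, hTee haH, this, hβ]
  set β := C₀.T a a b with hβdef
  set γ := C₀.T a b b with hγdef
  obtain ⟨r₁, hr₁⟩ := exists_quad_root (3 * β) (3 * γ) (C₀.F b) (mul_ne_zero three_ne_zero hβ)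
  set r₂ := -γ / β - r₁ with hr₂def
  have hF : ∀ s : ℂ, C₀.F (s • a + b) = 3 * s ^ 2 * β + 3 * s * γ + C₀.F b := fun s => by
    have := C₀.F_two a b s 1
    rw [one_smul, ha0] at this
    rw [this, hβdef, hγdef]; ring
  have hz₁ : C₀.F (r₁ • a + b) = 0 := by rw [hF]; linear_combination hr₁
  have hz₂ : C₀.F (r₂ • a + b) = 0 := by
    rw [hF, hr₂def]
    field_simp
    linear_combination β * hr₁
  have hvH : ∀ s : ℂ, C₀.T e e (s • a + b) = 0 := fun s => by simp [haH, hbH]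
  have hve : ∀ s : ℂ, s • a + b ∉ Submodule.span ℂ {e} := fun s h => by
    obtain ⟨t, ht⟩ := Submodule.mem_span_singleton.1 h
    exact one_ne_zero (hind' (s := -t) (p := s) (q := 1) (by rw [neg_smul, ht]; module)).2
  have hne : r₁ ≠ r₂ := fun heq => by
    obtain ⟨h, hh, hne⟩ := noDouble hs he hE (hve r₁) (hvH r₁) hz₁
    obtain ⟨s, p, q, rfl⟩ := hall' h hh
    have h2 : 2 * r₁ * β + γ = 0 := by
      rw [hr₂def] at heq
      field_simp at heq
      linear_combination heq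
    have ha' : C₀.T (r₁ • a + b) (r₁ • a + b) a = 0 := by
      have : C₀.T a a a = 0 := ha0
      simp only [map_add, map_smul, LinearMap.add_apply, LinearMap.smul_apply, smul_eq_mul, this,
        C₀.rev b b a, C₀.swap23 a b a, C₀.swap12 b a a, ← hβdef, ← hγdef]
      linear_combination h2
    have hb' : C₀.T (r₁ • a + b) (r₁ • a + b) b = 0 := by
      have : C₀.F (r₁ • a + b) = r₁ * C₀.T (r₁ • a + b) (r₁ • a + b) a
          + C₀.T (r₁ • a + b) (r₁ • a + b) b := by
        show C₀.T (r₁ • a + b) (r₁ • a + b) (r₁ • a + b) = _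
        rw [map_add, map_smul, smul_eq_mul]
      rw [hz₁, ha', mul_zero, zero_add] at this
      exact this.symm
    refine hne ?_
    rw [map_add, map_add, map_smul, map_smul, map_smul, hTee (hvH r₁), ha', hb']
    simp
  let w : Fin 3 → Vec 4 := ![a, r₁ • a + b, r₂ • a + b]
  have hw : ∀ i, C₀.F (w i) = 0 ∧ C₀.T e e (w i) = 0 ∧ w i ∉ Submodule.span ℂ {e} := by
    intro i
    fin_cases i
    · exact ⟨ha0, haH, hae⟩
    · exact ⟨hz₁, hvH r₁, hve r₁⟩
    · exact ⟨hz₂, hvH r₂, hve r₂⟩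
  refine ⟨fun i => Submodule.span ℂ {e, w i}, fun i j hij => ?_, fun i => ⟨?_, ?_, ?_⟩⟩
  · have hm : w i ∈ Submodule.span ℂ ({e, w j} : Set (Vec 4)) := by
      rw [show Submodule.span ℂ ({e, w j} : Set (Vec 4)) = Submodule.span ℂ {e, w i} from hij.symm]
      exact Submodule.subset_span (Set.mem_insert_of_mem _ rfl)
    obtain ⟨s, t, hst⟩ := Submodule.mem_span_pair.1 hm
    fin_cases i <;> fin_cases j <;> (first | rfl | (exfalso; simp only [w, Fin.reduceFinMk, Matrix.cons_val] at hst))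
    · obtain ⟨h1, h2⟩ := hind' (s := s) (p := t * r₁ - 1) (q := t)
        (by rw [← sub_eq_zero] at hst; rw [← hst]; module)
      rw [h2] at h1; norm_num at h1
    · obtain ⟨h1, h2⟩ := hind' (s := s) (p := t * r₂ - 1) (q := t)
        (by rw [← sub_eq_zero] at hst; rw [← hst]; module)
      rw [h2] at h1; norm_num at h1
    · obtain ⟨h1, h2⟩ := hind' (s := s) (p := t - r₁) (q := -1)
        (by rw [← sub_eq_zero] at hst; rw [← hst]; module)
      norm_num at h2
    · obtain ⟨h1, h2⟩ := hind' (s := s) (p := t * r₂ - r₁) (q := t - 1)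
        (by rw [← sub_eq_zero] at hst; rw [← hst]; module)
      rw [sub_eq_zero] at h2; subst h2; exact hne (by linear_combination -h1)
    · obtain ⟨h1, h2⟩ := hind' (s := s) (p := t - r₂) (q := -1)
        (by rw [← sub_eq_zero] at hst; rw [← hst]; module)
      norm_num at h2
    · obtain ⟨h1, h2⟩ := hind' (s := s) (p := t * r₁ - r₂) (q := t - 1)
        (by rw [← sub_eq_zero] at hst; rw [← hst]; module)
      rw [sub_eq_zero] at h2; subst h2; exact hne (by linear_combination h1)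
  · show finrank ℂ (Submodule.span ℂ ({e, w i} : Set (Vec 4))) = 2
    rw [← Matrix.range_cons_cons_empty e (w i) (fun i : Fin 0 => i.elim0), finrank_span_eq_card]
    · simp
    · exact LinearIndependent.pair_iff.2 fun a b h => smul_ne_self (hw i).2.2 h he
  · exact Submodule.subset_span (Set.mem_insert _ _)
  · intro u hu
    obtain ⟨s, t, rfl⟩ := Submodule.mem_span_pair.1 hu
    rw [Tri.F_two, hE.1, (hw i).2.1, (hw i).1, hE.2 _ _ (hw i).2.1 (hw i).2.1]
    ring

/-- The line through two Eckardt points. -/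
theorem line_facts {e e' : Vec 4} (hE : IsEck C₀ e) (hE' : IsEck C₀ e') :
    (C₀.T e e e' = 0 ↔ C₀.T e e' e' = 0) ∧
      ∀ s t : ℂ, C₀.F (s • e + t • e') = 3 * s * t * (s * C₀.T e e e' + t * C₀.T e e' e') := by
  refine ⟨⟨fun h => hE.2 _ _ h h, fun h => ?_⟩, fun s t => ?_⟩
  · have h' : C₀.T e' e' e = 0 := by rw [C₀.rev]; exact h
    have := hE'.2 _ _ h' h'
    rwa [C₀.rot] at this
  · rw [Tri.F_two, hE.1, hE'.1]; ring

end lines

end Groth.Agent.Cubics
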