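import Groth.Agent.Cubics.FivePoints

/-!
# Five points in general position from a rational point which is not a T-point
-/

namespace Groth.Agent.CubicFive

open Groth.Agent.CubicODP

variable {k : Type*} [Field k] [CharZero k]

/-- A linear form with given coefficients. -/
noncomputable def lin {R : Type*} [CommRing R] (c : Fin 4 → R) : MvPolynomial (Fin 4) R :=
  ∑ i, MvPolynomial.C (c i) * MvPolynomial.X i

theorem isHomogeneous_lin {R : Type*} [CommRing R] (c : Fin 4 → R) : (lin c).IsHomogeneous 1 :=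
  MvPolynomial.IsHomogeneous.sum _ _ _ fun _ _ => MvPolynomial.isHomogeneous_C_mul_X _ _

theorem eval_lin {R : Type*} [CommRing R] (c y : Fin 4 → R) :
    MvPolynomial.eval y (lin c) = ∑ i, c i * y i := by
  simp [lin]

theorem constantCoeff_lin {R : Type*} [CommRing R] (c : Fin 4 → R) :
    MvPolynomial.constantCoeff (lin c) = 0 := by
  simp [lin]

theorem sum_single {M : Type*} [AddCommGroup M] [Module k M] (f : (Fin 4 → k) →ₗ[k] M) (x : Fin 4 → k) :
    ∑ i, x i • f (Pi.single i 1) = f x := by
  conv_rhs => rw [pi_eq_sum_univ' x, map_sum]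
  exact Finset.sum_congr rfl fun i _ => (map_smul f _ _).symm

omit [CharZero k] in
theorem map_eq_aeval {K : Type*} [CommRing K] [Algebra k K] (p : MvPolynomial (Fin 4) k) :
    MvPolynomial.map (algebraMap k K) p = MvPolynomial.aeval (fun i => (MvPolynomial.X i : MvPolynomial (Fin 4) K)) p := by
  induction p using MvPolynomial.induction_on with
  | C c => simp [MvPolynomial.algebraMap_apply]
  | add p q hp hq => simp only [map_add, hp, hq]
  | mul_X p i hp => simp only [map_mul, MvPolynomial.map_X, MvPolynomial.aeval_X, hp]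

/-- Five rational points in general position, one of them the given one. -/
theorem five_points (F : MvPolynomial (Fin 4) k) (hF : F.IsHomogeneous 3)
    (hirr : Irreducible (MvPolynomial.map (algebraMap k (AlgebraicClosure k)) F))
    (hcone : ¬ ∃ v : Fin 4 → k, v ≠ 0 ∧ ∑ i : Fin 4, v i • MvPolynomial.pderiv i F = 0)
    (a : Fin 4 → k) (ha : a ≠ 0) (hFa : MvPolynomial.eval a F = 0)
    (ℓ : MvPolynomial (Fin 4) (AlgebraicClosure k))
    (hℓ : ℓ = ∑ i : Fin 4, MvPolynomial.C (algebraMap k (AlgebraicClosure k)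
      (MvPolynomial.eval a (MvPolynomial.pderiv i F))) * MvPolynomial.X i)
    (hT : ¬ ∃ L₁ L₂ L₃ : MvPolynomial (Fin 4) (AlgebraicClosure k), L₁.IsHomogeneous 1 ∧ L₂.IsHomogeneous 1 ∧
      L₃.IsHomogeneous 1 ∧ MvPolynomial.map (algebraMap k (AlgebraicClosure k)) F - L₁ * L₂ * L₃ ∈ Ideal.span {ℓ}) :
    ∃ p : Fin 5 → (Fin 4 → k), p 0 = a ∧ (∀ j : Fin 5, MvPolynomial.eval (p j) F = 0) ∧
      ∀ j : Fin 5, LinearIndependent k (fun i : Fin 4 => p (j.succAbove i)) := by
  classical
  obtain ⟨C₀, hC, hD⟩ := exists_tri F hF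
  have h0 : C₀.T a a a = 0 := by
    have := hC a
    rw [hFa] at this
    exact this.symm
  suffices ∃ p : Fin 5 → Fin 4 → k, p 0 = a ∧ (∀ j, C₀.F (p j) = 0) ∧
      ∀ j : Fin 5, LinearIndependent k fun i : Fin 4 => p (j.succAbove i) by
    obtain ⟨p, hp0, hp, hpl⟩ := this
    exact ⟨p, hp0, fun j => by rw [hC, hp], hpl⟩
  by_cases hla : ∀ x, C₀.T a a x = 0
  · refine singular_five C₀ a ha hla ?_ ?_
    · by_contra h
      push Not at h
      refine hcone ⟨a, ha, MvPolynomial.funext fun x => ?_⟩
      rw [map_sum, map_zero, ← mul_zero (3 : k), ← h x, show C₀.T a x x = C₀.T x x a from C₀.rev _ _ _,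
        ← sum_single (C₀.T x x) a, Finset.mul_sum]
      refine Finset.sum_congr rfl fun i _ => ?_
      rw [MvPolynomial.smul_eval, hD, smul_eq_mul]
      ring
    · intro lam L _ h
      let P : MvPolynomial (Fin 4) k := lin fun i => 3 * (lam - L) (Pi.single i 1)
      let Qd : MvPolynomial (Fin 4) k :=
        ∑ i, MvPolynomial.X i * lin fun j => C₀.T a (Pi.single i 1) (Pi.single j 1)
      have hP : ∀ x, MvPolynomial.eval x P = 3 * (lam x - L x) := fun x => by
        rw [eval_lin, ← LinearMap.sub_apply, ← sum_single (lam - L) x, Finset.mul_sum]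
        exact Finset.sum_congr rfl fun i _ => by rw [smul_eq_mul]; ring
      have hQd : ∀ x, MvPolynomial.eval x Qd = C₀.T a x x := fun x => by
        rw [map_sum]
        conv_rhs => rw [← sum_single (C₀.T a) x, LinearMap.sum_apply]
        refine Finset.sum_congr rfl fun i _ => ?_
        rw [map_mul, MvPolynomial.eval_X, eval_lin, LinearMap.smul_apply,
          ← sum_single (C₀.T a (Pi.single i 1)) x, smul_eq_mul]
        exact congrArg _ (Finset.sum_congr rfl fun j _ => by rw [smul_eq_mul]; ring)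
      have hprod : F = P * Qd := MvPolynomial.funext fun x => by rw [map_mul, hP, hQd, hC, h x]
      rcases hirr.isUnit_or_isUnit (by rw [hprod, map_mul]) with hu | hu <;>
        have hu' := hu.map MvPolynomial.constantCoeff <;>
        rw [MvPolynomial.constantCoeff_map] at hu'
      · rw [constantCoeff_lin, map_zero] at hu'
        exact not_isUnit_zero hu'
      · rw [map_sum, Finset.sum_eq_zero fun i _ => by
          rw [map_mul, MvPolynomial.constantCoeff_X, zero_mul], map_zero] at hu'
        exact not_isUnit_zero hu'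
  push Not at hla
  obtain ⟨e, he⟩ := hla
  have hli₂ : LinearIndependent k ![a, e] := by
    refine LinearIndependent.pair_iff.2 fun x y h => ?_
    have h' := congrArg (C₀.T a a) h
    rw [map_add, map_smul, map_smul, h0, smul_zero, zero_add, smul_eq_mul, map_zero, mul_eq_zero] at h'
    have hy := h'.resolve_right he
    rw [hy, zero_smul, add_zero] at h
    exact ⟨(smul_eq_zero.1 h).resolve_right ha, hy⟩
  obtain ⟨g₁, g₂, hg⟩ := exists_completion hli₂
  set e₁ := g₁ - (C₀.T a a g₁ / C₀.T a a e) • e with he₁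
  set e₂ := g₂ - (C₀.T a a g₂ / C₀.T a a e) • e with he₂
  have h1 : C₀.T a a e₁ = 0 := by rw [he₁, map_sub, map_smul, smul_eq_mul]; field_simp; ring
  have h2 : C₀.T a a e₂ = 0 := by rw [he₂, map_sub, map_smul, smul_eq_mul]; field_simp; ring
  have hli : LinearIndependent k ![a, e₁, e₂, e] := by
    refine Fintype.linearIndependent_iff.2 fun c hc => ?_
    have := Fintype.linearIndependent_iff.1 hg ![c 0,
      c 3 - c 1 * (C₀.T a a g₁ / C₀.T a a e) - c 2 * (C₀.T a a g₂ / C₀.T a a e), c 1, c 2] (by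
        rw [← hc, he₁, he₂]
        simp only [Fin.sum_univ_four, Matrix.cons_val_zero, Matrix.cons_val_one, Matrix.cons_val]
        module)
    have h30 : c 1 = 0 := this 2
    have h20 : c 2 = 0 := this 3
    intro i
    fin_cases i
    · exact this 0
    · exact h30
    · exact h20
    · simpa [h30, h20] using this 1
  let b : Module.Basis (Fin 4) k (Fin 4 → k) :=
    basisOfLinearIndependentOfCardEqFinrank (b := ![a, e₁, e₂, e]) hli (by simp)
  have hb : ∀ i, b i = ![a, e₁, e₂, e] i := fun i =>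
    congrFun (coe_basisOfLinearIndependentOfCardEqFinrank _ _) i
  have hsum : ∀ x, b.coord 0 x • a + b.coord 1 x • e₁ + b.coord 2 x • e₂ + b.coord 3 x • e = x := fun x => by
    conv_rhs => rw [← b.sum_repr x, Fin.sum_univ_four, hb, hb, hb, hb]
    rfl
  have hl : ∀ x, C₀.T a a x = b.coord 3 x * C₀.T a a e := fun x => by
    conv_lhs => rw [← hsum x]
    simp [h0, h1, h2]
  -- the restriction of `F` to the tangent plane
  let A := C₀.T a e₁ e₁
  let B := C₀.T a e₁ e₂
  let D := C₀.T a e₂ e₂
  let G : MvPolynomial (Fin 3) k :=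
    3 * MvPolynomial.X 0 * (MvPolynomial.C A * MvPolynomial.X 1 ^ 2 +
        2 * MvPolynomial.C B * MvPolynomial.X 1 * MvPolynomial.X 2 + MvPolynomial.C D * MvPolynomial.X 2 ^ 2) +
      (MvPolynomial.C (C₀.F e₁) * MvPolynomial.X 1 ^ 3 +
        MvPolynomial.C (3 * C₀.T e₁ e₁ e₂) * MvPolynomial.X 1 ^ 2 * MvPolynomial.X 2 +
        MvPolynomial.C (3 * C₀.T e₁ e₂ e₂) * MvPolynomial.X 1 * MvPolynomial.X 2 ^ 2 +
        MvPolynomial.C (C₀.F e₂) * MvPolynomial.X 2 ^ 3)
  let ψ : Fin 4 → MvPolynomial (Fin 3) k := fun i =>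
    MvPolynomial.C (a i) * MvPolynomial.X 0 + MvPolynomial.C (e₁ i) * MvPolynomial.X 1 +
      MvPolynomial.C (e₂ i) * MvPolynomial.X 2
  have hG : MvPolynomial.bind₁ ψ F = G := MvPolynomial.funext fun z => by
    rw [show MvPolynomial.eval z (MvPolynomial.bind₁ ψ F) =
        MvPolynomial.eval (fun i => MvPolynomial.eval z (ψ i)) F from MvPolynomial.eval₂Hom_bind₁ _ _ _ _, hC,
      show (fun i => MvPolynomial.eval z (ψ i)) = (z 1 • e₁ + z 2 • e₂) + z 0 • a from
        funext fun i => by simp [ψ]; ring,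
      Tri.F_add_smul, Tri.F_two]
    have h01 : ∀ x, C₀.T x a a = C₀.T a a x := fun x => C₀.rev _ _ _
    rw [h01, show C₀.F a = 0 from h0]
    simp only [G, A, B, D, map_add, map_mul, map_pow, map_ofNat, MvPolynomial.eval_C, MvPolynomial.eval_X,
      map_smul, LinearMap.add_apply, LinearMap.smul_apply, smul_eq_mul, h1, h2]
    rw [show C₀.T e₁ e₁ a = C₀.T a e₁ e₁ from C₀.rev _ _ _, show C₀.T e₂ e₂ a = C₀.T a e₂ e₂ from C₀.rev _ _ _,
      show C₀.T e₁ e₂ a = C₀.T a e₁ e₂ from by rw [C₀.rev, C₀.swap23],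
      show C₀.T e₂ e₁ a = C₀.T a e₁ e₂ from C₀.rev _ _ _]
    ring
  -- a factorisation over the algebraic closure contradicts the hypothesis
  let am := algebraMap k (AlgebraicClosure k)
  have key : ∀ l₁ l₂ l₃ : Fin 3 → AlgebraicClosure k, ¬ ∀ Z : Fin 3 → AlgebraicClosure k,
      MvPolynomial.aeval Z G = (∑ j, l₁ j * Z j) * (∑ j, l₂ j * Z j) * ∑ j, l₃ j * Z j := by
    intro l₁ l₂ l₃ h
    let co : Fin 4 → Fin 4 → AlgebraicClosure k := fun j i => am (b.coord j (Pi.single i 1))
    let L : (Fin 3 → AlgebraicClosure k) → MvPolynomial (Fin 4) (AlgebraicClosure k) := fun l =>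
      lin fun i => ∑ j : Fin 3, l j * co j.castSucc i
    refine hT ⟨L l₁, L l₂, L l₃, isHomogeneous_lin _, isHomogeneous_lin _, isHomogeneous_lin _, ?_⟩
    let φ : Fin 4 → MvPolynomial (Fin 4) (AlgebraicClosure k) := fun i =>
      MvPolynomial.C (am (a i)) * lin (co 0) + MvPolynomial.C (am (e₁ i)) * lin (co 1) +
        MvPolynomial.C (am (e₂ i)) * lin (co 2)
    have hprod : L l₁ * L l₂ * L l₃ = MvPolynomial.aeval φ F := MvPolynomial.funext fun y => by
      have := MvPolynomial.comp_aeval_apply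
        ((MvPolynomial.aeval y : MvPolynomial (Fin 4) (AlgebraicClosure k) →ₐ[AlgebraicClosure k]
          AlgebraicClosure k).restrictScalars k) (f := φ) F
      change MvPolynomial.eval y (MvPolynomial.aeval φ F) = _ at this
      rw [this]
      set Z : Fin 3 → AlgebraicClosure k := fun j => MvPolynomial.eval y (lin (co j.castSucc)) with hZ
      have hφ : (fun i => MvPolynomial.aeval Z (ψ i)) =
          fun i => MvPolynomial.eval y (φ i) := funext fun i => by
        simp [ψ, φ, hZ, am]
      have hL : ∀ l, MvPolynomial.eval y (L l) = ∑ j, l j * Z j := fun l => by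
        simp only [L, hZ, eval_lin, Finset.sum_mul, Finset.mul_sum, mul_assoc]
        exact Finset.sum_comm
      rw [map_mul, map_mul, hL, hL, hL, ← h Z, ← hG, MvPolynomial.aeval_bind₁, hφ]
      rfl
    rw [hprod, ← Ideal.Quotient.eq]
    have hW : lin (co 3) ∈ Ideal.span {ℓ} := by
      rw [Ideal.mem_span_singleton]
      refine ⟨MvPolynomial.C (am (3 * C₀.T a a e))⁻¹, ?_⟩
      have hℓ' : ℓ = MvPolynomial.C (am (3 * C₀.T a a e)) * lin (co 3) := by
        rw [hℓ, lin, Finset.mul_sum]
        refine Finset.sum_congr rfl fun i _ => ?_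
        rw [← mul_assoc, ← map_mul, hD, hl]
        simp only [co, am, map_mul]
        ring
      rw [hℓ', mul_right_comm, ← map_mul, mul_inv_cancel₀, map_one, one_mul]
      exact (map_ne_zero _).2 (mul_ne_zero three_ne_zero he)
    have hX : ∀ i, Ideal.Quotient.mk (Ideal.span {ℓ}) (φ i) =
        Ideal.Quotient.mk (Ideal.span {ℓ}) (MvPolynomial.X i) := fun i => by
      rw [Ideal.Quotient.eq]
      have : MvPolynomial.X i = φ i + MvPolynomial.C (am (e i)) * lin (co 3) :=
        MvPolynomial.funext fun y => by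
          simp only [φ, map_add, map_mul, MvPolynomial.eval_X, MvPolynomial.eval_C, eval_lin, Finset.mul_sum,
            ← Finset.sum_add_distrib]
          rw [Fintype.sum_eq_single i]
          · have := congrArg (fun v => am (v i)) (hsum (Pi.single i 1))
            simp [am, co] at this ⊢
            linear_combination (-y i) * this
          · intro l hl
            have := congrArg (fun v => am (v i)) (hsum (Pi.single l 1))
            simp [am, co, Pi.single_eq_of_ne hl.symm] at this ⊢
            linear_combination y l * this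
      rw [this, sub_add_cancel_left, Ideal.neg_mem_iff]
      exact Ideal.mul_mem_left _ _ hW
    have hmap : MvPolynomial.map am F = MvPolynomial.aeval (fun i => MvPolynomial.X i) F := map_eq_aeval F
    rw [show MvPolynomial.map (algebraMap k (AlgebraicClosure k)) F = _ from hmap]
    have e1 := MvPolynomial.comp_aeval_apply (Ideal.Quotient.mkₐ k (Ideal.span {ℓ})) (f := φ) F
    have e2 := MvPolynomial.comp_aeval_apply (Ideal.Quotient.mkₐ k (Ideal.span {ℓ}))
      (f := fun i => MvPolynomial.X i) F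
    simp only [Ideal.Quotient.mkₐ_eq_mk] at e1 e2
    rw [e1, e2]
    exact congrArg (fun f => MvPolynomial.aeval f F) (funext fun i => (hX i).symm)
  refine smooth_five C₀ a e₁ e₂ e hli h0 h1 h2 (fun hq => ?_) (fun hn => ?_)
  · have hA : A = 0 := by
      simpa [Polynomial.coeff_X, Polynomial.coeff_C] using congrArg (Polynomial.coeff · 2) hq
    have hB : B = 0 := by
      simpa [Polynomial.coeff_X, Polynomial.coeff_C] using congrArg (Polynomial.coeff · 1) hq
    have hD0 : D = 0 := by
      simpa [Polynomial.coeff_X, Polynomial.coeff_C] using congrArg (Polynomial.coeff · 0) hq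
    obtain ⟨l₁, m₁, l₂, m₂, l₃, m₃, hh⟩ := binary_cubic (am (C₀.F e₁)) (am (3 * C₀.T e₁ e₁ e₂))
      (am (3 * C₀.T e₁ e₂ e₂)) (am (C₀.F e₂))
    refine key ![0, l₁, m₁] ![0, l₂, m₂] ![0, l₃, m₃] fun Z => ?_
    simp [G, Fin.sum_univ_three, hA, hB, hD0, ← hh (Z 1) (Z 2), am]
  · obtain ⟨α, β, hab⟩ := hn
    have hev := fun t : k => congrArg (Polynomial.eval t) hab
    simp only [Polynomial.eval_add, Polynomial.eval_mul, Polynomial.eval_pow, Polynomial.eval_C,
      Polynomial.eval_X] at hev
    have c0 : C₀.F e₂ = β * D := by linear_combination hev 0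
    have c3 : C₀.F e₁ = α * A := by
      linear_combination (hev 2 - 3 * hev 1 + 3 * hev 0 - hev (-1)) / 6
    have c2 : 3 * C₀.T e₁ e₁ e₂ = 2 * α * B + β * A := by
      linear_combination (hev 1 + hev (-1) - 2 * hev 0) / 2
    have c1 : 3 * C₀.T e₁ e₂ e₂ = α * D + 2 * β * B := by
      linear_combination (hev 1 - hev (-1)) / 2 - (hev 2 - 3 * hev 1 + 3 * hev 0 - hev (-1)) / 6
    obtain ⟨l₂, m₂, l₃, m₃, hh⟩ := binary_quadratic (am A) (2 * am B) (am D)
    refine key ![3, am α, am β] ![0, l₂, m₂] ![0, l₃, m₃] fun Z => ?_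
    simp [G, Fin.sum_univ_three, c0, c1, c2, c3, am, map_ofNat]
    linear_combination (3 * Z 0 + algebraMap k (AlgebraicClosure k) α * Z 1 +
      algebraMap k (AlgebraicClosure k) β * Z 2) * hh (Z 1) (Z 2)

end Groth.Agent.CubicFive
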