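import Groth.Agent.CubicODP.Forms
import Mathlib

/-!
# Five rational points in general position on a cubic surface with a rational point
-/

namespace Groth.Agent.CubicFive

open Groth.Agent.CubicODP Polynomial

variable {k : Type*} [Field k]

/-- Five vectors with a relation without zero coefficient, four of them independent. -/
theorem general_of_relation {p : Fin 5 → Fin 4 → k} {c : Fin 5 → k} (hc : ∀ i, c i ≠ 0)
    (hsum : ∑ i, c i • p i = 0) (j₀ : Fin 5) (h : LinearIndependent k fun i : Fin 4 => p (j₀.succAbove i)) :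
    ∀ j : Fin 5, LinearIndependent k fun i : Fin 4 => p (j.succAbove i) := by
  intro j
  have hall : ∀ i : Fin 5, p i ∈ Submodule.span k (Set.range fun i : Fin 4 => p (j.succAbove i)) := by
    intro i
    rcases eq_or_ne i j with rfl | hij
    · rw [Fin.sum_univ_succAbove _ i] at hsum
      have : p i = -(c i)⁻¹ • ∑ l, c (i.succAbove l) • p (i.succAbove l) := by
        rw [eq_neg_of_add_eq_zero_right hsum, smul_neg, neg_smul, neg_neg, smul_smul, inv_mul_cancel₀ (hc i),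
          one_smul]
      rw [this]
      exact Submodule.smul_mem _ _ (Submodule.sum_mem _ fun l _ =>
        Submodule.smul_mem _ _ (Submodule.subset_span ⟨l, rfl⟩))
    · obtain ⟨l, rfl⟩ := Fin.exists_succAbove_eq hij
      exact Submodule.subset_span ⟨l, rfl⟩
  refine linearIndependent_of_top_le_span_of_card_eq_finrank ?_ (by simp)
  rw [← h.span_eq_top_of_card_eq_finrank (by simp)]
  exact Submodule.span_le.2 (Set.range_subset_iff.2 fun i => hall _)

theorem exists_combination {x y z r : Fin 4 → k} (h : r ∈ Submodule.span k (Set.range ![x, y, z])) :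
    ∃ α β γ : k, α • x + β • y + γ • z = r := by
  obtain ⟨c, hc⟩ := (Submodule.mem_span_range_iff_exists_fun k).1 h
  exact ⟨c 0, c 1, c 2, by simpa [Fin.sum_univ_three] using hc⟩

/-- Finitely many polynomials can be avoided simultaneously. -/
theorem exists_avoid [CharZero k] (P : k[X]) (hP : P ≠ 0) : ∃ t, P.eval t ≠ 0 := by
  by_contra h
  push Not at h
  exact hP (Polynomial.funext fun t => by simp [h t])

/-- The differential equation `D' q = n D q'`. -/
theorem eq_C_mul_pow [CharZero k] {D q : k[X]} (n : ℕ) (hq : q ≠ 0)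
    (h : derivative D * q = (n : k[X]) * D * derivative q) : ∃ β : k, D = C β * q ^ n := by
  have key : ∀ D : k[X], D ≠ 0 → derivative D * q = (n : k[X]) * D * derivative q →
      D.natDegree = n * q.natDegree := by
    intro D hD h
    set N := D.natDegree
    set M := q.natDegree
    rcases Nat.eq_zero_or_pos (N + M) with h0 | h0
    · have h1 : N = 0 := by omega
      have h2 : M = 0 := by omega
      rw [h1, h2, mul_zero]
    have e1 : (derivative D * q).coeff (N + M - 1) = (N : k) * D.leadingCoeff * q.leadingCoeff := by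
      rcases Nat.eq_zero_or_pos N with hN | hN
      · rw [derivative_of_natDegree_zero hN, zero_mul, coeff_zero, hN, Nat.cast_zero, zero_mul, zero_mul]
      · rw [show N + M - 1 = (N - 1) + M by omega,
          coeff_mul_add_eq_of_natDegree_le (natDegree_derivative_le D) le_rfl, coeff_derivative,
          show N - 1 + 1 = N by omega, ← Polynomial.leadingCoeff, ← Nat.cast_add_one,
          show N - 1 + 1 = N by omega, show q.coeff q.natDegree = q.leadingCoeff from rfl]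
        ring
    have e2 : ((n : k[X]) * D * derivative q).coeff (N + M - 1) =
        (n : k) * (M : k) * D.leadingCoeff * q.leadingCoeff := by
      rw [mul_assoc, ← map_natCast (C : k →+* k[X]), coeff_C_mul]
      rcases Nat.eq_zero_or_pos M with hM | hM
      · rw [derivative_of_natDegree_zero hM, mul_zero, coeff_zero, hM, Nat.cast_zero]
        simp
      · rw [show N + M - 1 = N + (M - 1) by omega,
          coeff_mul_add_eq_of_natDegree_le le_rfl (natDegree_derivative_le q), coeff_derivative,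
          show M - 1 + 1 = M by omega, ← Polynomial.leadingCoeff, ← Nat.cast_add_one,
          show M - 1 + 1 = M by omega, show q.coeff M = q.leadingCoeff from rfl]
        ring
    rw [h, e2] at e1
    have hne : D.leadingCoeff * q.leadingCoeff ≠ 0 :=
      mul_ne_zero (leadingCoeff_ne_zero.2 hD) (leadingCoeff_ne_zero.2 hq)
    have : ((n * M : ℕ) : k) = (N : k) := by
      rw [Nat.cast_mul]
      exact mul_right_cancel₀ hne (by linear_combination e1)
    exact (Nat.cast_injective this).symm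
  rcases eq_or_ne D 0 with rfl | hD
  · exact ⟨0, by simp⟩
  let β := D.leadingCoeff / q.leadingCoeff ^ n
  refine ⟨β, sub_eq_zero.1 ?_⟩
  by_contra hne
  have hdeg := key D hD h
  have h' : derivative (D - C β * q ^ n) * q = (n : k[X]) * (D - C β * q ^ n) * derivative q := by
    rw [derivative_sub, derivative_C_mul, derivative_pow, map_natCast]
    rcases n with _ | n
    · simpa using h
    · rw [Nat.add_sub_cancel]; push_cast at h ⊢
      linear_combination h
  have hdeg' := key _ hne h'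
  have hβ : β ≠ 0 := div_ne_zero (leadingCoeff_ne_zero.2 hD) (pow_ne_zero _ (leadingCoeff_ne_zero.2 hq))
  have hlt : (D - C β * q ^ n).degree < D.degree := by
    refine degree_sub_lt_left ?_ hD ?_
    · rw [degree_eq_natDegree hD, degree_eq_natDegree (mul_ne_zero (by simpa using hβ) (pow_ne_zero _ hq)),
        natDegree_C_mul hβ, natDegree_pow, hdeg]
    · rw [leadingCoeff_mul, leadingCoeff_C, leadingCoeff_pow,
        div_mul_cancel₀ _ (pow_ne_zero _ (leadingCoeff_ne_zero.2 hq))]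
  rw [degree_eq_natDegree hne, degree_eq_natDegree hD, hdeg, hdeg'] at hlt
  exact lt_irrefl _ hlt

theorem exists_root_quadratic {K : Type*} [Field K] [IsAlgClosed K] (A B C₀ : K) (hA : A ≠ 0) :
    ∃ r, A * r ^ 2 + B * r + C₀ = 0 := by
  obtain ⟨r, hr⟩ := IsAlgClosed.exists_root (C A * X ^ 2 + C B * X + C C₀) (by
    rw [degree_quadratic hA]; norm_num)
  exact ⟨r, by simpa using hr⟩

/-- A binary quadratic form splits. -/
theorem binary_quadratic {K : Type*} [Field K] [IsAlgClosed K] (A B C₀ : K) :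
    ∃ a b c d : K, ∀ u v : K, A * u ^ 2 + B * u * v + C₀ * v ^ 2 = (a * u + b * v) * (c * u + d * v) := by
  by_cases hA : A = 0
  · exact ⟨0, 1, B, C₀, fun u v => by rw [hA]; ring⟩
  · obtain ⟨r, hr⟩ := exists_root_quadratic A B C₀ hA
    refine ⟨1, -r, A, A * r + B, fun u v => ?_⟩
    linear_combination v ^ 2 * hr

/-- A binary cubic form splits. -/
theorem binary_cubic {K : Type*} [Field K] [IsAlgClosed K] (a₃ a₂ a₁ a₀ : K) :
    ∃ a b c d e f : K, ∀ u v : K, a₃ * u ^ 3 + a₂ * u ^ 2 * v + a₁ * u * v ^ 2 + a₀ * v ^ 3 =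
      (a * u + b * v) * (c * u + d * v) * (e * u + f * v) := by
  by_cases hA : a₃ = 0
  · obtain ⟨c, d, e, f, h⟩ := binary_quadratic a₂ a₁ a₀
    exact ⟨0, 1, c, d, e, f, fun u v => by rw [hA]; linear_combination v * h u v⟩
  · obtain ⟨r, hr⟩ := IsAlgClosed.exists_root (C a₃ * X ^ 3 + C a₂ * X ^ 2 + C a₁ * X + C a₀) (by
      rw [degree_cubic hA]; norm_num)
    simp only [IsRoot.def, eval_add, eval_mul, eval_pow, eval_C, eval_X] at hr
    obtain ⟨c, d, e, f, h⟩ := binary_quadratic a₃ (a₃ * r + a₂) (a₃ * r ^ 2 + a₂ * r + a₁)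
    refine ⟨1, -r, c, d, e, f, fun u v => ?_⟩
    linear_combination (u - r * v) * h u v + v ^ 3 * hr

variable [CharZero k] (C₀ : Tri k 4)

/-- The residual point of the line through a double point of the section. -/
def resid (p w : Fin 4 → k) : Fin 4 → k := C₀.F w • p + (-(3 * C₀.T p w w)) • w

theorem F_resid {p w : Fin 4 → k} (hp : C₀.F p = 0) (hpw : C₀.T p p w = 0) : C₀.F (resid C₀ p w) = 0 := by
  rw [resid, Tri.F_two, hp, hpw]; ring

/-- Five points in general position from a smooth point with non-degenerate tangent section. -/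
theorem smooth_five (a e₁ e₂ e : Fin 4 → k) (hli : LinearIndependent k ![a, e₁, e₂, e]) (h0 : C₀.T a a a = 0)
    (h1 : C₀.T a a e₁ = 0) (h2 : C₀.T a a e₂ = 0)
    (hq : C (C₀.T a e₁ e₁) * X ^ 2 + C (2 * C₀.T a e₁ e₂) * X + C (C₀.T a e₂ e₂) ≠ 0)
    (hnot : ¬ ∃ α β : k,
      C (C₀.F e₁) * X ^ 3 + C (3 * C₀.T e₁ e₁ e₂) * X ^ 2 + C (3 * C₀.T e₁ e₂ e₂) * X + C (C₀.F e₂) =
        (C α * X + C β) * (C (C₀.T a e₁ e₁) * X ^ 2 + C (2 * C₀.T a e₁ e₂) * X + C (C₀.T a e₂ e₂))) :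
    ∃ p : Fin 5 → Fin 4 → k, p 0 = a ∧ (∀ j, C₀.F (p j) = 0) ∧
      ∀ j : Fin 5, LinearIndependent k fun i : Fin 4 => p (j.succAbove i) := by
  set c : k[X] :=
    C (C₀.F e₁) * X ^ 3 + C (3 * C₀.T e₁ e₁ e₂) * X ^ 2 + C (3 * C₀.T e₁ e₂ e₂) * X + C (C₀.F e₂) with hc
  set q : k[X] := C (C₀.T a e₁ e₁) * X ^ 2 + C (2 * C₀.T a e₁ e₂) * X + C (C₀.T a e₂ e₂) with hqdef
  have coord : ∀ x y z w : k, x • a + y • e₁ + z • e₂ + w • e = 0 → x = 0 ∧ y = 0 ∧ z = 0 ∧ w = 0 := by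
    intro x y z w h
    have := Fintype.linearIndependent_iff.1 hli ![x, y, z, w] (by simpa [Fin.sum_univ_four] using h)
    exact ⟨this 0, this 1, this 2, this 3⟩
  -- symmetric evaluations
  obtain ⟨s1, s2⟩ : (∀ x y z, C₀.T x y z = C₀.T y x z) ∧ ∀ x y z, C₀.T x y z = C₀.T x z y :=
    ⟨C₀.swap12, C₀.swap23⟩
  have e1 : C₀.T a e₁ a = 0 ∧ C₀.T e₁ a a = 0 := ⟨by rw [s2, h1], by rw [s1, s2, h1]⟩
  have e2 : C₀.T a e₂ a = 0 ∧ C₀.T e₂ a a = 0 := ⟨by rw [s2, h2], by rw [s1, s2, h2]⟩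
  let P : k → k → Fin 4 → k := fun t z => z • a + (t • e₁ + e₂)
  have hFP : ∀ t z, C₀.F (P t z) = 3 * z * q.eval t + c.eval t := by
    intro t z
    simp only [P, Tri.F, map_add, map_smul, LinearMap.add_apply, LinearMap.smul_apply, smul_eq_mul, hc, hqdef,
      eval_add, eval_mul, eval_pow, eval_C, eval_X, h0, h1, h2, e1.1, e1.2, e2.1, e2.2]
    rw [s1 e₂ a e₁, s2 a e₂ e₁, show C₀.T e₁ a e₁ = C₀.T a e₁ e₁ from s1 _ _ _,
      show C₀.T e₁ e₁ a = C₀.T a e₁ e₁ from C₀.rev _ _ _, show C₀.T e₁ a e₂ = C₀.T a e₁ e₂ from s1 _ _ _,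
      show C₀.T e₂ a e₂ = C₀.T a e₂ e₂ from s1 _ _ _, show C₀.T e₂ e₂ a = C₀.T a e₂ e₂ from C₀.rev _ _ _,
      show C₀.T e₁ e₂ a = C₀.T a e₁ e₂ from by rw [C₀.rev, s2],
      show C₀.T e₂ e₁ a = C₀.T a e₁ e₂ from C₀.rev _ _ _,
      show C₀.T e₂ e₁ e₁ = C₀.T e₁ e₁ e₂ from C₀.rev _ _ _, show C₀.T e₁ e₂ e₁ = C₀.T e₁ e₁ e₂ from s2 _ _ _,
      show C₀.T e₂ e₁ e₂ = C₀.T e₁ e₂ e₂ from s1 _ _ _, show C₀.T e₂ e₂ e₁ = C₀.T e₁ e₂ e₂ from C₀.rev _ _ _]
    ring
  -- a point which is not a flex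
  let W := derivative c * q - c * derivative q
  let E := derivative W * q - 2 * W * derivative q
  have hE : E ≠ 0 := by
    intro hE0
    obtain ⟨β, hβ⟩ := eq_C_mul_pow (D := W) (q := q) 2 hq (by
      rw [← sub_eq_zero]; simpa [E] using hE0)
    have hW : derivative c * q - c * derivative q = C β * q ^ 2 := hβ
    obtain ⟨γ, hγ⟩ := eq_C_mul_pow (D := c - C β * X * q) (q := q) 1 hq (by
      simp only [derivative_sub, derivative_mul, derivative_C, derivative_X, Nat.cast_one, one_mul, zero_mul,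
        zero_add, mul_one]
      linear_combination hW)
    refine hnot ⟨β, γ, ?_⟩
    linear_combination hγ
  obtain ⟨t, ht⟩ := exists_avoid (q * E) (mul_ne_zero hq hE)
  rw [eval_mul, mul_ne_zero_iff] at ht
  set Q₀ := q.eval t with hQ₀
  set z₀ := -c.eval t / (3 * Q₀) with hz₀
  set z₁ := -W.eval t / (3 * Q₀ ^ 2) with hz₁
  let p₀ := P t z₀
  let d : Fin 4 → k := z₁ • a + e₁
  have hq0 : Q₀ ≠ 0 := ht.1
  have hp₀ : C₀.F p₀ = 0 := by rw [hFP, hz₀, ← hQ₀]; field_simp; ring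
  have hla : C₀.T p₀ p₀ a = Q₀ := by
    simp only [p₀, P, map_add, map_smul, LinearMap.add_apply, LinearMap.smul_apply, smul_eq_mul, hQ₀, hqdef,
      eval_add, eval_mul, eval_pow, eval_C, eval_X, h0, e1.1, e1.2, e2.1, e2.2]
    rw [show C₀.T e₁ e₁ a = C₀.T a e₁ e₁ from C₀.rev _ _ _,
      show C₀.T e₂ e₂ a = C₀.T a e₂ e₂ from C₀.rev _ _ _,
      show C₀.T e₁ e₂ a = C₀.T a e₁ e₂ from by rw [C₀.rev, s2],
      show C₀.T e₂ e₁ a = C₀.T a e₁ e₂ from C₀.rev _ _ _]
    ring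
  have hc1 : (derivative c).eval t = 3 * (t ^ 2 * C₀.F e₁ + 2 * t * C₀.T e₁ e₁ e₂ + C₀.T e₁ e₂ e₂) := by
    simp [hc]; ring
  have hq1 : (derivative q).eval t = 2 * (t * C₀.T a e₁ e₁ + C₀.T a e₁ e₂) := by simp [hqdef]; ring
  have hc2 : (derivative (derivative c)).eval t = 6 * (t * C₀.F e₁ + C₀.T e₁ e₁ e₂) := by simp [hc]; ring
  have hq2 : (derivative (derivative q)).eval t = 2 * C₀.T a e₁ e₁ := by simp [hqdef]; ring
  have hWt : W.eval t = (derivative c).eval t * Q₀ - c.eval t * (derivative q).eval t := by simp [W, hQ₀]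
  have hEt : E.eval t = ((derivative (derivative c)).eval t * Q₀ - c.eval t * (derivative (derivative q)).eval t) * Q₀
      - 2 * W.eval t * (derivative q).eval t := by
    simp only [E, W, hQ₀, derivative_sub, derivative_mul, eval_sub, eval_add, eval_mul, eval_ofNat]
    ring
  have hld : C₀.T p₀ p₀ d = 0 := by
    have h3 : C₀.T p₀ p₀ e₁ = 2 * z₀ * (t * C₀.T a e₁ e₁ + C₀.T a e₁ e₂) +
        (t ^ 2 * C₀.F e₁ + 2 * t * C₀.T e₁ e₁ e₂ + C₀.T e₁ e₂ e₂) := by
      simp only [p₀, P, Tri.F, map_add, map_smul, LinearMap.add_apply, LinearMap.smul_apply, smul_eq_mul, h1]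
      rw [s2 a e₂ e₁, show C₀.T e₁ a e₁ = C₀.T a e₁ e₁ from s1 _ _ _,
        show C₀.T e₂ a e₁ = C₀.T a e₁ e₂ from by rw [s1, s2],
        show C₀.T e₁ e₂ e₁ = C₀.T e₁ e₁ e₂ from s2 _ _ _,
        show C₀.T e₂ e₁ e₁ = C₀.T e₁ e₁ e₂ from C₀.rev _ _ _,
        show C₀.T e₂ e₂ e₁ = C₀.T e₁ e₂ e₂ from C₀.rev _ _ _]
      ring
    simp only [d, map_add, map_smul, smul_eq_mul, hla, h3]
    rw [hz₁, hz₀, hWt, hq1, hc1]
    field_simp
    ring
  have hdd : C₀.T p₀ d d ≠ 0 := by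
    have h4 : C₀.T p₀ d d = 2 * z₁ * (t * C₀.T a e₁ e₁ + C₀.T a e₁ e₂) + z₀ * C₀.T a e₁ e₁ +
        (t * C₀.F e₁ + C₀.T e₁ e₁ e₂) := by
      simp only [p₀, P, d, Tri.F, map_add, map_smul, LinearMap.add_apply, LinearMap.smul_apply, smul_eq_mul,
        h0, h1, e1.1, e1.2, e2.1, e2.2]
      rw [show C₀.T e₁ a e₁ = C₀.T a e₁ e₁ from s1 _ _ _, show C₀.T e₁ e₁ a = C₀.T a e₁ e₁ from C₀.rev _ _ _,
        show C₀.T e₂ a e₁ = C₀.T a e₁ e₂ from by rw [s1, s2],
        show C₀.T e₂ e₁ a = C₀.T a e₁ e₂ from C₀.rev _ _ _,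
        show C₀.T e₂ e₁ e₁ = C₀.T e₁ e₁ e₂ from C₀.rev _ _ _]
      ring
    have h5 : 6 * Q₀ ^ 2 * C₀.T p₀ d d = E.eval t := by
      rw [h4, hz₁, hz₀, hEt, hWt, hq1, hc1, hc2, hq2]
      field_simp
      ring
    intro h
    exact ht.2 (by rw [← h5, h, mul_zero])
  -- two points off the tangent plane of `a`
  let w : k → Fin 4 → k := fun s => (e + (-(C₀.T p₀ p₀ e / Q₀)) • a) + s • d
  have hw : ∀ s, C₀.T p₀ p₀ (w s) = 0 := fun s => by
    simp only [w, map_add, map_smul, smul_eq_mul, hla, hld]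
    field_simp
    ring
  set κ := -(C₀.T p₀ p₀ e / Q₀) with hκ
  let Qp : k[X] := C (C₀.T p₀ d d) * X ^ 2 + C (2 * C₀.T p₀ (e + κ • a) d) * X +
    C (C₀.T p₀ (e + κ • a) (e + κ • a))
  have hQp : ∀ s, Qp.eval s = C₀.T p₀ (w s) (w s) := fun s => by
    have hsym := s2 p₀ d (e + κ • a)
    simp only [Qp, w, eval_add, eval_mul, eval_pow, eval_C, eval_X, map_add, map_smul, LinearMap.add_apply,
      LinearMap.smul_apply, smul_eq_mul] at hsym ⊢
    linear_combination -s * hsym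
  have hQp0 : Qp ≠ 0 := fun h => hdd (by
    have h' := congrArg (fun f => coeff f 2) h
    simpa [Qp, coeff_X, coeff_C] using h')
  obtain ⟨s, hs⟩ := exists_avoid Qp hQp0
  obtain ⟨s', hs'⟩ := exists_avoid (Qp * (X - C s)) (mul_ne_zero hQp0 (X_sub_C_ne_zero s))
  rw [eval_mul, mul_ne_zero_iff] at hs'
  simp only [eval_sub, eval_X, eval_C, sub_ne_zero] at hs'
  let q₁ := resid C₀ p₀ (w s)
  let q₂ := resid C₀ p₀ (w s')
  set l₁ := -(3 * C₀.T p₀ (w s) (w s)) with hl₁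
  set l₂ := -(3 * C₀.T p₀ (w s') (w s')) with hl₂
  have hl₁0 : l₁ ≠ 0 := by rw [hl₁, ← hQp, neg_ne_zero]; exact mul_ne_zero three_ne_zero hs
  have hl₂0 : l₂ ≠ 0 := by rw [hl₂, ← hQp, neg_ne_zero]; exact mul_ne_zero three_ne_zero hs'.1
  set F₁ := C₀.F (w s) with hF₁
  set F₂ := C₀.F (w s') with hF₂
  -- the intersection of their line with the tangent plane
  set r₀ := l₂ * (F₁ * z₀ + l₁ * (κ + s * z₁)) - l₁ * (F₂ * z₀ + l₂ * (κ + s' * z₁)) with hr₀
  set r₂ := l₂ * F₁ - l₁ * F₂ with hr₂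
  set r₁ := t * r₂ + l₁ * l₂ * (s - s') with hr₁
  have hlin : C r₁ - X * C r₂ ≠ 0 := fun h => by
    have g₀ := congrArg (fun f => coeff f 0) h
    have g₁ := congrArg (fun f => coeff f 1) h
    simp [coeff_X, coeff_C] at g₀ g₁
    rw [hr₁, g₁, mul_zero, zero_add] at g₀
    exact mul_ne_zero (mul_ne_zero hl₁0 hl₂0) (sub_ne_zero.2 (Ne.symm hs'.2)) g₀
  obtain ⟨t₂, ht₂⟩ := exists_avoid (q * (C r₁ - X * C r₂)) (mul_ne_zero hq hlin)
  simp only [eval_mul, eval_sub, eval_X, eval_C, mul_ne_zero_iff] at ht₂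
  set z₂ := -c.eval t₂ / (3 * q.eval t₂) with hz₂
  let Ψ : k[X] := -(c * C (r₁ - r₂ * t₂)) + C 3 * q * (C (r₀ * t₂ - r₁ * z₂) + X * C (r₂ * z₂ - r₀))
  have hκ' : r₁ - r₂ * t₂ ≠ 0 := by rw [mul_comm]; exact ht₂.2
  have hΨ : Ψ ≠ 0 := fun h => by
    refine hnot ⟨3 * (r₂ * z₂ - r₀) / (r₁ - r₂ * t₂), 3 * (r₀ * t₂ - r₁ * z₂) / (r₁ - r₂ * t₂), ?_⟩
    have hu : C (r₁ - r₂ * t₂) * C (r₁ - r₂ * t₂)⁻¹ = (1 : k[X]) := by
      rw [← C_mul, mul_inv_cancel₀ hκ', C_1]
    simp only [Ψ] at h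
    rw [div_eq_mul_inv, div_eq_mul_inv, C_mul, C_mul, C_mul, C_mul]
    linear_combination -(C (r₁ - r₂ * t₂)⁻¹) * h - c * hu
  obtain ⟨t₃, ht₃⟩ := exists_avoid (q * (C r₁ - X * C r₂) * (X - C t₂) * Ψ)
    (mul_ne_zero (mul_ne_zero (mul_ne_zero hq hlin) (X_sub_C_ne_zero t₂)) hΨ)
  simp only [eval_mul, eval_sub, eval_X, eval_C, mul_ne_zero_iff] at ht₃
  obtain ⟨⟨⟨hq₃, hr₃⟩, h23⟩, hΨ₃⟩ := ht₃
  set z₃ := -c.eval t₃ / (3 * q.eval t₃) with hz₃
  set γ := (r₁ - r₂ * t₂) / (t₃ - t₂) with hγ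
  set β := (r₂ * t₃ - r₁) / (t₃ - t₂) with hβ
  have hγ0 : γ ≠ 0 := div_ne_zero hκ' h23
  have hβ0 : β ≠ 0 := div_ne_zero (by rw [← neg_sub, neg_ne_zero, mul_comm]; exact hr₃) h23
  set α := r₀ - β * z₂ - γ * z₃ with hα
  have hα0 : α ≠ 0 := fun h => hΨ₃ (by
    have e : Ψ.eval t₃ = -(3 * q.eval t₃) * (t₃ - t₂) * α := by
      rw [hα, hβ, hγ, hz₃]
      simp only [Ψ, eval_add, eval_neg, eval_mul, eval_C, eval_X]
      field_simp
      ring
    rw [e, h, mul_zero])
  let pts : Fin 5 → Fin 4 → k := ![a, P t₂ z₂, P t₃ z₃, q₁, q₂]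
  refine ⟨pts, rfl, fun j => ?_, general_of_relation (c := ![α, β, γ, -l₂, l₁]) ?_ ?_ 4 ?_⟩
  · fin_cases j
    · exact h0
    · show C₀.F (P t₂ z₂) = 0
      have := ht₂.1
      rw [hFP, hz₂]; field_simp; ring
    · show C₀.F (P t₃ z₃) = 0
      rw [hFP, hz₃]; field_simp; ring
    · exact F_resid C₀ hp₀ (hw s)
    · exact F_resid C₀ hp₀ (hw s')
  · intro i
    fin_cases i
    · exact hα0
    · exact hβ0
    · exact hγ0
    · exact neg_ne_zero.2 hl₂0
    · exact hl₁0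
  · simp only [Fin.sum_univ_five, pts, Matrix.cons_val_zero, Matrix.cons_val_one, Matrix.cons_val]
    have hb : β * t₂ + γ * t₃ = r₁ := by rw [hβ, hγ]; field_simp; ring
    have hb' : β + γ = r₂ := by rw [hβ, hγ]; field_simp; ring
    simp only [P, q₁, q₂, resid, ← hl₁, ← hl₂, ← hF₁, ← hF₂, w, p₀, d]
    match_scalars
    · rw [hα, hr₀]; ring
    · linear_combination hb + hr₁ - t * hb' + t * hb'
    · linear_combination hb' + hr₂
    · ring
  · refine Fintype.linearIndependent_iff.2 fun x hx => ?_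
    have hxs : x 0 • a + x 1 • P t₂ z₂ + x 2 • P t₃ z₃ + x 3 • q₁ = 0 := by
      rw [Fin.sum_univ_four] at hx
      exact hx
    obtain ⟨g0, g1, g2, g3⟩ := coord (x 0 + x 1 * z₂ + x 2 * z₃ + x 3 * (F₁ * z₀ + l₁ * (κ + s * z₁)))
      (x 1 * t₂ + x 2 * t₃ + x 3 * (F₁ * t + l₁ * s)) (x 1 + x 2 + x 3 * F₁) (x 3 * l₁) (by
      rw [← hxs]
      simp only [P, q₁, resid, ← hl₁, ← hF₁, w, p₀, d]
      module)
    have x3 : x 3 = 0 := (mul_eq_zero.1 g3).resolve_right hl₁0
    rw [x3] at g0 g1 g2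
    simp only [zero_mul, add_zero] at g0 g1 g2
    have x2 : x 2 = 0 := by
      have : x 2 * (t₃ - t₂) = 0 := by linear_combination g1 - t₂ * g2
      exact (mul_eq_zero.1 this).resolve_right h23
    have x1 : x 1 = 0 := by rw [x2, add_zero] at g2; exact g2
    have x0 : x 0 = 0 := by rw [x1, x2] at g0; simpa using g0
    intro i
    fin_cases i <;> assumption

/-- Completion of two independent vectors to a basis. -/
theorem exists_completion {a b : Fin 4 → k} (h : LinearIndependent k ![a, b]) :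
    ∃ f g : Fin 4 → k, LinearIndependent k ![a, b, f, g] := by
  obtain ⟨f, hf⟩ := exists_linearIndependent_snoc_of_lt_finrank h (by simp)
  obtain ⟨g, hg⟩ := exists_linearIndependent_snoc_of_lt_finrank hf (by simp)
  refine ⟨f, g, ?_⟩
  have e : ![a, b, f, g] = Fin.snoc (Fin.snoc ![a, b] f) g := by
    ext i : 1
    fin_cases i <;> rfl
  rw [e]
  exact hg

/-- Functions which are polynomial on every line. -/
def PolyLine {M : Type*} [AddCommGroup M] [Module k M] (f : M → k) : Prop :=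
  ∀ x y : M, ∃ P : k[X], ∀ t : k, f (x + t • y) = P.eval t

theorem exists_both {M : Type*} [AddCommGroup M] [Module k M] {f g : M → k} (hf : PolyLine f) (hg : PolyLine g)
    (h₁ : ∃ x, f x ≠ 0) (h₂ : ∃ y, g y ≠ 0) : ∃ z, f z * g z ≠ 0 := by
  obtain ⟨x, hx⟩ := h₁
  obtain ⟨y, hy⟩ := h₂
  obtain ⟨P, hP⟩ := hf x (y - x)
  obtain ⟨Q, hQ⟩ := hg x (y - x)
  have hP0 : P ≠ 0 := fun h => hx (by have := hP 0; rw [h, eval_zero, zero_smul, add_zero] at this; exact this)
  have hQ0 : Q ≠ 0 := fun h => hy (by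
    have := hQ 1; rw [h, eval_zero, one_smul, add_sub_cancel] at this; exact this)
  obtain ⟨t, ht⟩ := exists_avoid (P * Q) (mul_ne_zero hP0 hQ0)
  exact ⟨x + t • (y - x), by rwa [hP, hQ, ← eval_mul]⟩

omit [CharZero k] in
theorem PolyLine.mul {M : Type*} [AddCommGroup M] [Module k M] {f g : M → k} (hf : PolyLine f) (hg : PolyLine g) :
    PolyLine fun x => f x * g x := fun x y => by
  obtain ⟨P, hP⟩ := hf x y
  obtain ⟨Q, hQ⟩ := hg x y
  exact ⟨P * Q, fun t => by simp [hP, hQ]⟩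

/-- Five points in general position from a double point. -/
theorem singular_five (a : Fin 4 → k) (ha : a ≠ 0) (hs : ∀ x, C₀.T a a x = 0)
    (hcone : ∃ w, C₀.T a w w ≠ 0)
    (hirr : ∀ lam L : (Fin 4 → k) →ₗ[k] k, lam a = 1 → ¬ ∀ x, C₀.F x = 3 * (lam x - L x) * C₀.T a x x) :
    ∃ p : Fin 5 → Fin 4 → k, p 0 = a ∧ (∀ j, C₀.F (p j) = 0) ∧
      ∀ j : Fin 5, LinearIndependent k fun i : Fin 4 => p (j.succAbove i) := by
  obtain ⟨w, hw⟩ := hcone
  have hs1 : ∀ x, C₀.T a x a = 0 := fun x => by rw [C₀.swap23]; exact hs x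
  have hli₂ : LinearIndependent k ![a, w] := by
    refine LinearIndependent.pair_iff.2 fun x y h => ?_
    by_cases hy : y = 0
    · rw [hy, zero_smul, add_zero] at h
      exact ⟨(smul_eq_zero.1 h).resolve_right ha, hy⟩
    · have h' : w = (-(x / y)) • a :=
        calc w = y⁻¹ • (y • w) := by rw [smul_smul, inv_mul_cancel₀ hy, one_smul]
          _ = _ := by rw [eq_neg_of_add_eq_zero_right h, smul_neg, smul_smul, neg_smul, div_eq_inv_mul]
      exact absurd (by rw [h']; simp [hs]) hw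
  obtain ⟨g₂, g₃, hli⟩ := exists_completion hli₂
  let R : (Fin 4 → k) → k[X] := fun g =>
    C (C₀.T a w w) * X ^ 2 + C (C₀.T a g w + C₀.T a w g) * X + C (C₀.T a g g)
  have hR : ∀ g t, (R g).eval t = C₀.T a (g + t • w) (g + t • w) := fun g t => by
    simp only [R, eval_add, eval_mul, eval_pow, eval_C, eval_X, map_add, map_smul, LinearMap.add_apply,
      LinearMap.smul_apply, smul_eq_mul]
    ring
  have hR0 : ∀ g, R g ≠ 0 := fun g h => hw (by
    have h' := congrArg (fun f => coeff f 2) h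
    simpa [R, coeff_X, coeff_C] using h')
  obtain ⟨s₂, hs₂⟩ := exists_avoid _ (hR0 g₂)
  obtain ⟨s₃, hs₃⟩ := exists_avoid _ (hR0 g₃)
  rw [hR] at hs₂ hs₃
  set f₂ := g₂ + s₂ • w with hf₂
  set f₃ := g₃ + s₃ • w with hf₃
  have coord : ∀ x y z v : k, x • a + y • w + z • f₂ + v • f₃ = 0 → x = 0 ∧ y = 0 ∧ z = 0 ∧ v = 0 := by
    intro x y z v h
    have h' : x • a + (y + z * s₂ + v * s₃) • w + z • g₂ + v • g₃ = 0 := by
      rw [← h, hf₂, hf₃]; module
    have := Fintype.linearIndependent_iff.1 hli ![x, y + z * s₂ + v * s₃, z, v]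
      (by simpa [Fin.sum_univ_four] using h')
    have hx := this 0; have hy := this 1; have hz := this 2; have hv := this 3
    simp at hx hy hz hv
    rw [hz, hv] at hy
    exact ⟨hx, by simpa using hy, hz, hv⟩
  let h : (Fin 4 → k) → k := fun x => -C₀.F x / (3 * C₀.T a x x)
  let φ : (Fin 3 → k) →ₗ[k] Fin 4 → k :=
    (LinearMap.proj (0 : Fin 3)).smulRight w + (LinearMap.proj (1 : Fin 3)).smulRight f₂ +
      (LinearMap.proj (2 : Fin 3)).smulRight f₃
  let Λ : (Fin 3 → k) →ₗ[k] k :=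
    h w • LinearMap.proj 0 + h f₂ • LinearMap.proj 1 + h f₃ • LinearMap.proj 2
  let Qf : (Fin 3 → k) → k := fun x => C₀.T a (φ x) (φ x)
  let G : (Fin 3 → k) → k := fun x => C₀.F (φ x) + 3 * Λ x * Qf x
  have hQf : PolyLine Qf := fun x y =>
    ⟨C (Qf y) * X ^ 2 + C (C₀.T a (φ x) (φ y) + C₀.T a (φ y) (φ x)) * X + C (Qf x), fun t => by
      simp only [Qf, eval_add, eval_mul, eval_pow, eval_C, eval_X, map_add, map_smul, LinearMap.add_apply,
        LinearMap.smul_apply, smul_eq_mul]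
      ring⟩
  have hG : PolyLine G := fun x y => by
    obtain ⟨P, hP⟩ := hQf x y
    refine ⟨C (C₀.F (φ x)) + C (3 * C₀.T (φ x) (φ x) (φ y)) * X + C (3 * C₀.T (φ x) (φ y) (φ y)) * X ^ 2 +
      C (C₀.F (φ y)) * X ^ 3 + C 3 * (C (Λ x) + C (Λ y) * X) * P, fun t => ?_⟩
    simp only [G, hP, eval_add, eval_mul, eval_pow, eval_C, eval_X, map_add, map_smul, Tri.F_add_smul,
      smul_eq_mul]
    ring
  have hproj : ∀ i : Fin 3, PolyLine fun x : Fin 3 → k => x i := fun i x y =>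
    ⟨C (x i) + C (y i) * X, fun t => by
      simp only [eval_add, eval_mul, eval_C, eval_X, Pi.add_apply, Pi.smul_apply, smul_eq_mul]
      ring⟩
  have hG0 : ∃ x, G x ≠ 0 := by
    by_contra hc
    push Not at hc
    let b : Module.Basis (Fin 4) k (Fin 4 → k) := basisOfLinearIndependentOfCardEqFinrank
      (b := ![a, w, f₂, f₃]) (Fintype.linearIndependent_iff.2 fun c hc => by
        obtain ⟨h0, h1, h2, h3⟩ := coord (c 0) (c 1) (c 2) (c 3) (by simpa [Fin.sum_univ_four] using hc)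
        intro i; fin_cases i <;> assumption) (by simp)
    have hb : ∀ i, b i = ![a, w, f₂, f₃] i := fun i =>
      congrFun (coe_basisOfLinearIndependentOfCardEqFinrank _ _) i
    let pr : (Fin 4 → k) →ₗ[k] Fin 3 → k := LinearMap.pi fun i => b.coord i.succ
    have hx : ∀ x, b.coord 0 x • a + φ (pr x) = x := fun x => by
      conv_rhs => rw [← b.sum_repr x, Fin.sum_univ_four, hb, hb, hb, hb]
      simp [φ, pr]
      abel
    refine hirr (b.coord 0) (Λ.comp pr) ?_ fun x => ?_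
    · rw [show a = b 0 from (hb 0).symm]; simp
    · have hq : C₀.T a x x = Qf (pr x) := by
        conv_lhs => rw [← hx x]
        simp [Qf, hs, hs1]
      have hF : C₀.F x = 3 * b.coord 0 x * Qf (pr x) + C₀.F (φ (pr x)) := by
        conv_lhs => rw [← hx x, add_comm, Tri.F_add_smul]
        rw [show C₀.T (φ (pr x)) (φ (pr x)) a = Qf (pr x) from C₀.rev _ _ _,
          show C₀.T (φ (pr x)) a a = 0 from by rw [C₀.rev]; exact hs _, show C₀.F a = 0 from hs a]
        ring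
      rw [hF, hq]
      have := hc (pr x)
      simp only [G] at this
      show _ = 3 * (_ - Λ (pr x)) * _
      linear_combination this
  have h1 : ∃ z : Fin 3 → k, z 0 * z 1 * z 2 ≠ 0 := ⟨fun _ => 1, by simp⟩
  obtain ⟨z, hz⟩ := exists_both (((hproj 0).mul (hproj 1)).mul (hproj 2)) (hQf.mul hG) h1
    (exists_both hQf hG ⟨Pi.single 0 1, by simpa [Qf, φ, Pi.single_apply] using hw⟩ hG0)
  simp only [mul_ne_zero_iff] at hz
  obtain ⟨⟨⟨z0, z1⟩, z2⟩, hzQ, hzG⟩ := hz
  have hFP : ∀ x, C₀.T a x x ≠ 0 → C₀.F (x + h x • a) = 0 := fun x hx => by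
    rw [Tri.F_add_smul, show C₀.T x x a = C₀.T a x x from C₀.rev _ _ _,
      show C₀.T x a a = 0 from by rw [C₀.rev]; exact hs _, show C₀.F a = 0 from hs a]
    simp only [h]
    field_simp
    ring
  set δ := h (φ z) - Λ z with hδ
  have hδ0 : δ ≠ 0 := fun hd => hzG (by
    have hd' : Λ z = -C₀.F (φ z) / (3 * Qf z) := (sub_eq_zero.1 hd).symm
    show C₀.F (φ z) + 3 * Λ z * Qf z = 0
    rw [hd']; field_simp; ring)
  let pts : Fin 5 → Fin 4 → k := ![a, w + h w • a, f₂ + h f₂ • a, f₃ + h f₃ • a, φ z + h (φ z) • a]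
  refine ⟨pts, rfl, fun j => ?_, general_of_relation (c := ![δ, z 0, z 1, z 2, -1]) ?_ ?_ 4 ?_⟩
  · fin_cases j
    · exact hs a
    · exact hFP _ hw
    · exact hFP _ hs₂
    · exact hFP _ hs₃
    · exact hFP _ hzQ
  · intro i
    fin_cases i
    · exact hδ0
    · exact z0
    · exact z1
    · exact z2
    · exact neg_ne_zero.2 one_ne_zero
  · simp only [Fin.sum_univ_five, pts, Matrix.cons_val_zero, Matrix.cons_val_one, Matrix.cons_val, hδ, φ, Λ,
      LinearMap.add_apply, LinearMap.smulRight_apply, LinearMap.smul_apply, LinearMap.proj_apply, smul_eq_mul]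
    module
  · refine Fintype.linearIndependent_iff.2 fun x hx => ?_
    have hxs : x 0 • a + x 1 • (w + h w • a) + x 2 • (f₂ + h f₂ • a) + x 3 • (f₃ + h f₃ • a) = 0 := by
      rw [Fin.sum_univ_four] at hx; exact hx
    obtain ⟨g0, g1, g2, g3⟩ := coord (x 0 + x 1 * h w + x 2 * h f₂ + x 3 * h f₃) (x 1) (x 2) (x 3) (by
      rw [← hxs]; module)
    rw [g1, g2, g3] at g0
    simp only [zero_mul, add_zero] at g0
    intro i
    fin_cases i <;> assumption

end Groth.Agent.CubicFive
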