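import Mathlib.Analysis.Complex.Basic
import Mathlib.Analysis.Complex.Polynomial.Basic
import Mathlib.Algebra.MvPolynomial.PDeriv
import Mathlib.Algebra.MvPolynomial.Funext
import Mathlib.RingTheory.MvPolynomial.Homogeneous
import Mathlib.LinearAlgebra.Matrix.ToLin

/-! Cubic forms over `ℂ` as symmetric trilinear forms. -/

namespace Groth.Agent.Cubics

open MvPolynomial

abbrev Vec (n : ℕ) := Fin n → ℂ

/-- A symmetric trilinear form. -/
structure Tri (n : ℕ) where
  T : Vec n →ₗ[ℂ] Vec n →ₗ[ℂ] Vec n →ₗ[ℂ] ℂ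
  swap12 : ∀ a b c, T a b c = T b a c
  swap23 : ∀ a b c, T a b c = T a c b

variable {n : ℕ}

namespace Tri

variable (C₀ : Tri n)

/-- The cubic function. -/
def F (v : Vec n) : ℂ := C₀.T v v v

theorem rot (a b c : Vec n) : C₀.T a b c = C₀.T b c a := by rw [C₀.swap12, C₀.swap23]

theorem rev (a b c : Vec n) : C₀.T a b c = C₀.T c b a := by
  rw [C₀.swap23, C₀.swap12, C₀.swap23]

theorem F_smul (t : ℂ) (x : Vec n) : C₀.F (t • x) = t ^ 3 * C₀.F x := by
  simp only [F, map_smul, LinearMap.smul_apply, smul_eq_mul]; ring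

theorem F_add_smul (x y : Vec n) (t : ℂ) :
    C₀.F (x + t • y) = C₀.F x + 3 * t * C₀.T x x y + 3 * t ^ 2 * C₀.T x y y + t ^ 3 * C₀.F y := by
  simp only [F, map_add, map_smul, LinearMap.add_apply, LinearMap.smul_apply, smul_eq_mul]
  rw [C₀.swap12 y x x, C₀.swap23 x y x, C₀.swap12 y x y, C₀.rev y y x]
  ring

theorem F_two (x y : Vec n) (s t : ℂ) :
    C₀.F (s • x + t • y) = s ^ 3 * C₀.F x + 3 * s ^ 2 * t * C₀.T x x y
      + 3 * s * t ^ 2 * C₀.T x y y + t ^ 3 * C₀.F y := by
  rw [F_add_smul, F_smul]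
  simp only [map_smul, LinearMap.smul_apply, smul_eq_mul]; ring

theorem T_xxy (x y : Vec n) :
    6 * C₀.T x x y = C₀.F (x + y) - C₀.F (x + (-1 : ℂ) • y) - 2 * C₀.F y := by
  have h1 := C₀.F_add_smul x y 1
  rw [one_smul] at h1
  rw [h1, F_add_smul]; ring

theorem T_xyz (x y z : Vec n) :
    2 * C₀.T x y z = C₀.T (x + y) (x + y) z - C₀.T x x z - C₀.T y y z := by
  simp only [map_add, LinearMap.add_apply]
  rw [C₀.swap12 y x z]; ring

/-- A linear map scaling the cubic scales the trilinear form. -/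
theorem map_T (A : Vec n →ₗ[ℂ] Vec n) (c : ℂ) (h : ∀ x, C₀.F (A x) = c * C₀.F x) (x y z : Vec n) :
    C₀.T (A x) (A y) (A z) = c * C₀.T x y z := by
  have h2 : ∀ x y, C₀.T (A x) (A x) (A y) = c * C₀.T x x y := by
    intro x y
    apply mul_left_cancel₀ (show (6 : ℂ) ≠ 0 by norm_num)
    rw [T_xxy, ← map_smul, ← map_add, ← map_add, h, h, h]
    linear_combination (-c) * C₀.T_xxy x y
  apply mul_left_cancel₀ (show (2 : ℂ) ≠ 0 by norm_num)
  rw [T_xyz, ← map_add, h2, h2, h2]
  linear_combination (-c) * C₀.T_xyz x y z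

/-- Smoothness of the hypersurface. -/
def Smooth : Prop := ∀ v : Vec n, v ≠ 0 → C₀.F v = 0 → ∃ x, C₀.T v v x ≠ 0

end Tri

/-- The symmetrised product of three coordinate functionals. -/
noncomputable def symProd (a b c : Fin n) : Tri n where
  T := LinearMap.mk₂ ℂ
    (fun x y => (1 / 6 : ℂ) •
      ((x a * y b + x b * y a) • (LinearMap.proj c : Vec n →ₗ[ℂ] ℂ)
        + (x a * y c + x c * y a) • LinearMap.proj b
        + (x b * y c + x c * y b) • LinearMap.proj a))
    (fun x x' y => by ext z; simp; ring) (fun r x y => by ext z; simp; ring)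
    (fun x y y' => by ext z; simp; ring) (fun r x y => by ext z; simp; ring)
  swap12 x y z := by simp; ring
  swap23 x y z := by simp; ring

theorem symProd_apply (a b c : Fin n) (x y z : Vec n) :
    (symProd a b c).T x y z = (1 / 6 : ℂ) * ((x a * y b + x b * y a) * z c
      + (x a * y c + x c * y a) * z b + (x b * y c + x c * y b) * z a) := rfl

/-- Every cubic polynomial comes from a symmetric trilinear form. -/
theorem exists_tri (f : MvPolynomial (Fin n) ℂ) (hf : f.IsHomogeneous 3) :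
    ∃ C₀ : Tri n, (∀ v, eval v f = C₀.F v) ∧
      ∀ v i, eval v (pderiv i f) = 3 * C₀.T v v (Pi.single i 1) := by
  classical
  let S : Submodule ℂ (MvPolynomial (Fin n) ℂ) :=
    { carrier := {f | ∃ C₀ : Tri n, (∀ v, eval v f = C₀.F v) ∧
        ∀ v i, eval v (pderiv i f) = 3 * C₀.T v v (Pi.single i 1)}
      add_mem' := by
        rintro f g ⟨P, hP, hP'⟩ ⟨Q, hQ, hQ'⟩
        exact ⟨⟨P.T + Q.T, fun a b c => by simp [P.swap12 a b c, Q.swap12 a b c],
          fun a b c => by simp [P.swap23 a b c, Q.swap23 a b c]⟩,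
          fun v => by simp [Tri.F, hP, hQ], fun v i => by simp [hP', hQ']; ring⟩
      zero_mem' := ⟨⟨0, fun _ _ _ => rfl, fun _ _ _ => rfl⟩, fun v => by simp [Tri.F],
        fun v i => by simp⟩
      smul_mem' := by
        rintro r f ⟨P, hP, hP'⟩
        exact ⟨⟨r • P.T, fun a b c => by simp [P.swap12 a b c],
          fun a b c => by simp [P.swap23 a b c]⟩,
          fun v => by simp [Tri.F, hP, smul_eq_C_mul], fun v i => by simp [hP', smul_eq_C_mul]; ring⟩ }
  suffices f ∈ S from this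
  rw [f.as_sum]
  refine S.sum_mem fun d hd => ?_
  have hdeg : (Finsupp.toMultiset d).card = 3 := by
    rw [Finsupp.card_toMultiset]
    have := hf (mem_support_iff.1 hd)
    simpa [Finsupp.weight_apply, Finsupp.sum] using this
  obtain ⟨a, b, c, habc⟩ := Multiset.card_eq_three.1 hdeg
  have hd' : d = Finsupp.single a 1 + Finsupp.single b 1 + Finsupp.single c 1 := by
    apply Function.LeftInverse.injective Finsupp.toMultiset_toFinsupp
    simp [habc, Finsupp.toMultiset_add, Finsupp.toMultiset_single]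
  have hm : monomial d (coeff d f) = coeff d f • (X a * X b * X c) := by
    rw [hd', smul_eq_C_mul]
    simp only [X, C_apply, monomial_mul, zero_add, one_mul, mul_one]
  rw [hm]
  refine S.smul_mem _ ⟨symProd a b c, fun v => ?_, fun v i => ?_⟩
  · simp [Tri.F, symProd_apply]; ring
  · simp only [Derivation.leibniz, pderiv_X, smul_eq_mul, map_add, map_mul, eval_X, symProd_apply,
      Pi.single_apply]
    split_ifs <;> simp <;> ring

theorem Tri.smooth_of (f : MvPolynomial (Fin n) ℂ) (C₀ : Tri n) (hF : ∀ v, eval v f = C₀.F v)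
    (hD : ∀ v i, eval v (pderiv i f) = 3 * C₀.T v v (Pi.single i 1))
    (hsm : ∀ v : Vec n, v ≠ 0 → eval v f = 0 → ∃ i, eval v (pderiv i f) ≠ 0) : C₀.Smooth := by
  intro v hv h0
  obtain ⟨i, hi⟩ := hsm v hv (by rw [hF, h0])
  refine ⟨Pi.single i 1, fun h => hi ?_⟩
  rw [hD, h, mul_zero]

theorem eval_subst (A : Matrix (Fin n) (Fin n) ℂ) (f : MvPolynomial (Fin n) ℂ) (v : Vec n) :
    eval v (aeval (fun i : Fin n => ∑ j : Fin n, C (A i j) * X j) f) = eval (A.mulVec v) f := by
  induction f using MvPolynomial.induction_on with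
  | C a => simp
  | add p q hp hq => rw [map_add, map_add, hp, hq, map_add]
  | mul_X p i hp =>
    rw [map_mul, map_mul, hp, aeval_X, map_mul, eval_X]
    simp [Matrix.mulVec, dotProduct]

theorem subst_eq_iff (A : Matrix (Fin n) (Fin n) ℂ) (f g : MvPolynomial (Fin n) ℂ) (c : ℂ) :
    aeval (fun i : Fin n => ∑ j : Fin n, C (A i j) * X j) f = C c * g ↔
      ∀ v, eval (A.mulVec v) f = c * eval v g := by
  constructor
  · intro h v
    rw [← eval_subst, h, map_mul, eval_C]
  · intro h
    refine MvPolynomial.funext fun v => ?_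
    rw [eval_subst, h, map_mul, eval_C]

theorem exists_cubic_root (a b c d : ℂ) (ha : a ≠ 0) :
    ∃ x : ℂ, a * x ^ 3 + b * x ^ 2 + c * x + d = 0 := by
  obtain ⟨x, hx⟩ := IsAlgClosed.exists_root
    (Polynomial.C a * Polynomial.X ^ 3 + Polynomial.C b * Polynomial.X ^ 2
      + Polynomial.C c * Polynomial.X + Polynomial.C d)
    (by rw [Polynomial.degree_cubic ha]; decide)
  exact ⟨x, by simpa using hx⟩

theorem exists_quad_root (a b c : ℂ) (ha : a ≠ 0) : ∃ x : ℂ, a * x ^ 2 + b * x + c = 0 := by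
  obtain ⟨x, hx⟩ := IsAlgClosed.exists_root
    (Polynomial.C a * Polynomial.X ^ 2 + Polynomial.C b * Polynomial.X + Polynomial.C c)
    (by rw [Polynomial.degree_quadratic ha]; decide)
  exact ⟨x, by simpa using hx⟩

end Groth.Agent.Cubics
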