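import Groth.Agent.Cubics.Plane
import Groth.Prelude.Def_W4c5monodromycubicsHesse
import Mathlib.RingTheory.RootsOfUnity.Complex

/-! The Hesse normal form of a smooth plane cubic. -/

namespace Groth.Agent.Cubics

open MvPolynomial

/-- The Hesse cubic function. -/
def hes (k : ℂ) (x : Vec 3) : ℂ :=
  x 0 ^ 3 + x 1 ^ 3 + x 2 ^ 3 - 3 * k * (x 0 * x 1 * x 2)

/-- Coordinate functional. -/
def pr (i : Fin 3) : Vec 3 →ₗ[ℂ] ℂ := LinearMap.proj i

@[simp] theorem pr_apply (i : Fin 3) (x : Vec 3) : pr i x = x i := rfl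

theorem eval_form (k : ℂ) (x : Vec 3) : eval x (HesseCubic.form k) = hes k x := by
  simp [HesseCubic.form, hes]

/-- The Hesse cubic as a trilinear form. -/
noncomputable def hesseTri (k : ℂ) : Tri 3 where
  T := (symProd 0 0 0).T + (symProd 1 1 1).T + (symProd 2 2 2).T - (3 * k) • (symProd 0 1 2).T
  swap12 a b c := by simp [symProd_apply]; ring
  swap23 a b c := by simp [symProd_apply]; ring

theorem hesseTri_apply (k : ℂ) (a b c : Vec 3) : (hesseTri k).T a b c =
    a 0 * b 0 * c 0 + a 1 * b 1 * c 1 + a 2 * b 2 * c 2 - k / 2 * ((a 0 * b 1 + a 1 * b 0) * c 2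
      + (a 0 * b 2 + a 2 * b 0) * c 1 + (a 1 * b 2 + a 2 * b 1) * c 0) := by
  simp [hesseTri, symProd_apply]; ring

theorem hesseTri_F (k : ℂ) (x : Vec 3) : (hesseTri k).F x = hes k x := by
  rw [Tri.F, hesseTri_apply, hes]; ring

theorem hesse_smooth {k : ℂ} (hk : k ^ 3 ≠ 1) : (hesseTri k).Smooth := by
  intro v hv h0
  by_contra hne
  push Not at hne
  have e0 := hne ![1, 0, 0]
  have e1 := hne ![0, 1, 0]
  have e2 := hne ![0, 0, 1]
  simp [hesseTri_apply] at e0 e1 e2
  have hk' : (1 - k ^ 3) ≠ 0 := sub_ne_zero.2 (Ne.symm hk)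
  have hp : (v 0 * v 1 * v 2) ^ 2 = 0 := by
    apply (mul_eq_zero.1 (?_ : (1 - k ^ 3) * (v 0 * v 1 * v 2) ^ 2 = 0)).resolve_left hk'
    linear_combination v 1 * v 1 * (v 2 * v 2) * e0 + k * v 1 * v 2 * (v 2 * v 2) * e1
      + k ^ 2 * v 1 * v 2 * v 0 * v 2 * e2
  have hp' := pow_eq_zero_iff (n := 2) (by norm_num) |>.1 hp
  apply hv
  rcases mul_eq_zero.1 hp' with h | h
  · rcases mul_eq_zero.1 h with h | h <;>
    · simp only [h, mul_zero, zero_mul, add_zero, zero_add, sub_zero, zero_sub, neg_eq_zero,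
        mul_self_eq_zero, mul_eq_zero] at e0 e1 e2
      funext i
      fin_cases i <;> simp_all
  · simp only [h, mul_zero, zero_mul, add_zero, zero_add, sub_zero, zero_sub, neg_eq_zero,
      mul_self_eq_zero, mul_eq_zero] at e0 e1 e2
    funext i
    fin_cases i <;> simp_all

/-- The nine base points of the Hesse pencil. -/
def NinePt (v : Vec 3) : Prop :=
  ∃ γ c : ℂ, γ ^ 3 = 1 ∧ (v = c • ![0, 1, -γ] ∨ v = c • ![-γ, 0, 1] ∨ v = c • ![1, -γ, 0])

theorem nine_flex (k : ℂ) {v : Vec 3} (hv : v ≠ 0) (h : NinePt v) : FlexPt (hes k) v := by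
  obtain ⟨γ, c, hγ, h⟩ := h
  have hc : c ≠ 0 := by rintro rfl; simp at h; exact hv h
  have hli : ∀ {p w : Vec 3} (i j : Fin 3), p i = 0 → w i = 1 → p j ≠ 0 →
      LinearIndependent ℂ ![c • p, w] := by
    intro p w i j hpi hwi hpj
    rw [LinearIndependent.pair_iff]
    intro s t hst
    have ht : t = 0 := by simpa [hpi, hwi] using congrFun hst i
    subst ht
    refine ⟨?_, rfl⟩
    simpa [hc, hpj] using congrFun hst j
  rcases h with rfl | rfl | rfl
  · refine ⟨by simp [hes]; linear_combination (-c ^ 3) * hγ, ![1, -k * γ, 0],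
      hli 0 1 rfl rfl (by simp), fun t => ?_⟩
    simp [hes]; linear_combination (-c ^ 3) * hγ
  · refine ⟨by simp [hes]; linear_combination (-c ^ 3) * hγ, ![0, 1, -k * γ],
      hli 1 2 rfl rfl (by simp), fun t => ?_⟩
    simp [hes]; linear_combination (-c ^ 3) * hγ
  · refine ⟨by simp [hes]; linear_combination (-c ^ 3) * hγ, ![-k * γ, 0, 1],
      hli 2 0 rfl rfl (by simp), fun t => ?_⟩
    simp [hes]; linear_combination (-c ^ 3) * hγ

theorem flex_nine {k : ℂ} (hk : k ^ 3 ≠ 1) {v : Vec 3} (h : FlexPt (hes k) v) : NinePt v := by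
  obtain ⟨h0, w, hli, hw⟩ := h
  simp only [← hesseTri_F] at h0 hw
  obtain ⟨hvw, hww⟩ := ((hesseTri k).line_iff h0).1 hw
  have hv : v ≠ 0 := by simpa using hli.ne_zero 0
  obtain ⟨o', ho'⟩ := hesse_smooth hk v hv h0
  obtain ⟨o, ho⟩ : ∃ o, (hesseTri k).T v v o = 1 :=
    ⟨((hesseTri k).T v v o')⁻¹ • o', by simp [ho']⟩
  rw [LinearIndependent.pair_iff] at hli
  have inj : Function.Injective (comb w v o) := comb_injective fun p q r hpqr => by
    have hr : r = 0 := by
      simpa [hvw, show (hesseTri k).T v v v = 0 from h0, ho] using congrArg ((hesseTri k).T v v) hpqr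
    subst hr
    obtain ⟨hq, hp⟩ := hli q p (by rw [add_comm]; simpa using hpqr)
    exact ⟨hp, hq, rfl⟩
  set u := w - (hesseTri k).T v w o • v with hudef
  have hu : u ≠ 0 := fun h => by
    simpa using (hli (-(hesseTri k).T v w o) 1 (by rw [← h, hudef]; module)).2
  have hTu : ∀ x, (hesseTri k).T v u x = 0 := by
    intro x
    obtain ⟨t, rfl⟩ := LinearMap.injective_iff_surjective.1 inj x
    simp only [hudef, comb_apply, map_sub, map_add, map_smul, LinearMap.sub_apply,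
      LinearMap.smul_apply, smul_eq_mul, hvw, hww, ho, show (hesseTri k).T v v v = 0 from h0,
      (hesseTri k).swap23 v w v]
    ring
  have hdet := (Matrix.exists_mulVec_eq_zero_iff (M :=
    !![v 0, -k * v 2 / 2, -k * v 1 / 2; -k * v 2 / 2, v 1, -k * v 0 / 2;
      -k * v 1 / 2, -k * v 0 / 2, v 2])).1 ⟨u, hu, by
    have e0 := hTu ![1, 0, 0]
    have e1 := hTu ![0, 1, 0]
    have e2 := hTu ![0, 0, 1]
    simp [hesseTri_apply] at e0 e1 e2
    funext i
    fin_cases i <;> simp [Matrix.mulVec, dotProduct, Fin.sum_univ_three]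
    · linear_combination e0
    · linear_combination e1
    · linear_combination e2⟩
  simp [Matrix.det_fin_three] at hdet
  rw [hesseTri_F, hes] at h0
  have hk' : (1 - k ^ 3) ≠ 0 := sub_ne_zero.2 (Ne.symm hk)
  have hp : v 0 * v 1 * v 2 = 0 := by
    apply (mul_eq_zero.1 (?_ : (1 - k ^ 3) * (v 0 * v 1 * v 2) = 0)).resolve_left hk'
    linear_combination hdet + k ^ 2 / 4 * h0
  have key : ∀ {a b : ℂ}, a ^ 3 + b ^ 3 = 0 → (a = 0 → b = 0 → False) →
      a ≠ 0 ∧ (-(b / a)) ^ 3 = 1 := by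
    intro a b hab hne
    have ha : a ≠ 0 := fun ha => by
      subst ha
      exact hne rfl (pow_eq_zero_iff (n := 3) (by norm_num) |>.1 (by simpa using hab))
    refine ⟨ha, ?_⟩
    field_simp
    linear_combination -hab
  rcases mul_eq_zero.1 hp with h | h
  · rcases mul_eq_zero.1 h with h | h
    · obtain ⟨ha, hγ⟩ := key (a := v 1) (b := v 2) (by rw [h] at h0; linear_combination h0)
        (fun a b => hv (by funext i; fin_cases i <;> assumption))
      refine ⟨_, v 1, hγ, Or.inl (funext fun i => ?_)⟩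
      fin_cases i <;> simp [h]
      field_simp
    · obtain ⟨ha, hγ⟩ := key (a := v 2) (b := v 0) (by rw [h] at h0; linear_combination h0)
        (fun a b => hv (by funext i; fin_cases i <;> assumption))
      refine ⟨_, v 2, hγ, Or.inr (Or.inl (funext fun i => ?_))⟩
      fin_cases i <;> simp [h]
      field_simp
  · obtain ⟨ha, hγ⟩ := key (a := v 0) (b := v 1) (by rw [h] at h0; linear_combination h0)
      (fun a b => hv (by funext i; fin_cases i <;> assumption))
    refine ⟨_, v 0, hγ, Or.inr (Or.inr (funext fun i => ?_))⟩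
    fin_cases i <;> simp [h]
    field_simp

theorem flex_iff_nine {k : ℂ} (hk : k ^ 3 ≠ 1) {v : Vec 3} (hv : v ≠ 0) :
    FlexPt (hes k) v ↔ NinePt v :=
  ⟨flex_nine hk, nine_flex k hv⟩

/-- A primitive cube root of unity. -/
theorem exists_omega : ∃ ω : ℂ, ω ^ 2 + ω + 1 = 0 := by
  simpa using exists_quad_root 1 1 1 one_ne_zero

theorem Tri.injective_of_pullback {n : ℕ} {C₀ G : Tri n} (hG : G.Smooth) (L : Vec n →ₗ[ℂ] Vec n)
    {c : ℂ} (hc : c ≠ 0) (h : ∀ x, C₀.F (L x) = c * G.F x) : Function.Injective L := by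
  rw [← LinearMap.ker_eq_bot, LinearMap.ker_eq_bot']
  intro x hx
  by_contra hne
  have h0 : G.F x = 0 := by
    have := h x
    rw [hx] at this
    simpa [Tri.F, hc] using this.symm
  obtain ⟨y, hy⟩ := hG x hne h0
  apply hy
  have hcy : c * (6 * G.T x x y) = 0 := by
    rw [G.T_xxy]
    have e1 := h (x + y)
    have e2 := h (x + (-1 : ℂ) • y)
    have e3 := h y
    rw [map_add, hx, zero_add] at e1 e2
    rw [map_smul, C₀.F_smul] at e2
    linear_combination -e1 + e2 + 2 * e3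
  simpa [hc] using hcy

/-- Hesse normal form of a Weierstrass cubic. -/
theorem exists_hesse_weier (p r : ℂ) (hpr : p ≠ 0 ∨ r ≠ 0)
    (hns : ∀ x : Vec 3, x ≠ 0 → weier p r x = 0 →
      ∃ y, weier p r (x + y) - weier p r (x + (-1 : ℂ) • y) - 2 * weier p r y ≠ 0) :
    ∃ (M : Vec 3 →ₗ[ℂ] Vec 3) (k c : ℂ),
      k ^ 3 ≠ 1 ∧ c ≠ 0 ∧ ∀ x, weier p r (M x) = c * hes k x := by
  -- m
  obtain ⟨m, hm, hm'⟩ : ∃ m : ℂ, m ≠ 0 ∧
      m ^ 8 / 27 + 2 * p / 3 * m ^ 4 + 4 * r * m ^ 2 - p ^ 2 = 0 := by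
    by_cases hp : p = 0
    · have hr : r ≠ 0 := hpr.resolve_left (fun h => h hp)
      obtain ⟨m, hm⟩ := IsAlgClosed.exists_pow_nat_eq (-108 * r) (show 0 < 6 by norm_num)
      refine ⟨m, fun h => hr (by subst h; simpa using hm.symm), ?_⟩
      subst hp
      linear_combination m ^ 2 / 27 * hm
    · obtain ⟨m, hm⟩ := IsAlgClosed.exists_root
        (Polynomial.C (1/27 : ℂ) * Polynomial.X ^ 8 +
          (Polynomial.C (2 * p / 3) * Polynomial.X ^ 4 + Polynomial.C (4 * r) * Polynomial.X ^ 2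
            + Polynomial.C (-(p ^ 2))))
        (by
          have : ((Polynomial.C (1/27 : ℂ) * Polynomial.X ^ 8 +
            (Polynomial.C (2 * p / 3) * Polynomial.X ^ 4 + Polynomial.C (4 * r) * Polynomial.X ^ 2
              + Polynomial.C (-(p ^ 2))))).natDegree = 8 := by compute_degree!
          intro h
          rw [Polynomial.natDegree_eq_of_degree_eq_some (n := 0) h] at this
          norm_num at this)
      simp only [Polynomial.IsRoot, Polynomial.eval_add, Polynomial.eval_mul, Polynomial.eval_C,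
        Polynomial.eval_pow, Polynomial.eval_X] at hm
      refine ⟨m, fun h => hp ?_, by linear_combination hm⟩
      subst h
      simpa using hm
  set x₀ := m ^ 2 / 3 with hx₀
  set b := (p - m ^ 4 / 3) / (2 * m) with hb
  have h1 : 3 * x₀ ^ 2 + 2 * m * b = p := by rw [hx₀, hb]; field_simp; ring
  have h2 : b ^ 2 - x₀ ^ 3 = r := by
    rw [hx₀, hb]; field_simp
    linear_combination (-27 : ℂ) * hm'
  have h3 : m ^ 2 = 3 * x₀ := by rw [hx₀]; ring
  have key : ∀ x, weier p r x = (x 0 - x₀ * x 2) ^ 3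
      - x 2 * (x 1 - m * x 0 - b * x 2) * (x 1 + m * x 0 + b * x 2) := by
    intro x
    rw [weier, ← h1, ← h2]
    linear_combination -(x 0 ^ 2 * x 2) * h3
  set α := -(b / m + x₀) with hα
  have hα0 : α ≠ 0 := by
    intro h
    have hb' : b = -m * x₀ := by
      rw [hα] at h; field_simp at h; linear_combination -h
    obtain ⟨y, hy⟩ := hns ![x₀, 0, 1] (fun h => by simpa using congrFun h 2)
      (by rw [key]; simp [hb'])
    apply hy
    rw [key, key, key]
    simp only [Pi.add_apply, Pi.smul_apply, smul_eq_mul, Matrix.cons_val, hb']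
    ring
  obtain ⟨ω, hω⟩ := exists_omega
  set c₁ := α / (4 * m ^ 2) with hc₁
  have hc₁0 : c₁ ≠ 0 := div_ne_zero hα0 (by simp [hm])
  -- the coordinates
  let Z' : Vec 3 →ₗ[ℂ] ℂ := ω ^ 2 • pr 0 + ω • pr 1 + pr 2
  let Y' : Vec 3 →ₗ[ℂ] ℂ := ω • pr 0 + ω ^ 2 • pr 1 + pr 2
  let X' : Vec 3 →ₗ[ℂ] ℂ := pr 0 + pr 1 + pr 2
  let M₀ : Vec 3 →ₗ[ℂ] Vec 3 :=
    LinearMap.pi (![Z' + Y' - (b / m / α) • X', m • (Z' - Y'), α⁻¹ • X'] : Fin 3 → (Vec 3 →ₗ[ℂ] ℂ))
  have hM₀ : ∀ x, weier p r (M₀ x) =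
      c₁⁻¹ * (x 0 ^ 3 + x 1 ^ 3 + (1 + 27 * c₁) * x 2 ^ 3 - 3 * (x 0 * x 1 * x 2)) := by
    intro x
    rw [key]
    simp [M₀, X', Y', Z']
    have hω3 : ω ^ 3 = 1 := by linear_combination (ω - 1) * hω
    have e2 : α * m ≠ 0 := mul_ne_zero hα0 hm
    have : b = -m * (α + x₀) := by rw [hα]; field_simp; ring
    rw [hc₁, this]
    field_simp
    have hw : ω ^ 2 = -1 - ω := by linear_combination hω
    ring_nf
    simp only [show ω ^ 4 = ω by linear_combination ω * hω3, hω3, hw,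
      show ω ^ 5 = -1 - ω by linear_combination (ω ^ 2) * hω3 + hω,
      show ω ^ 6 = 1 by linear_combination (ω ^ 3 + 1) * hω3]
    ring
  have hc27 : 1 + 27 * c₁ ≠ 0 := by
    intro h
    by_cases hz : M₀ ![0, 0, 1] = 0
    · have := congrFun hz 2
      simp [M₀, X', hα0] at this
    obtain ⟨y, hy⟩ := hns (M₀ ![0, 0, 1]) hz (by rw [hM₀]; simp [h])
    apply hy
    have hM₀surj : Function.Surjective M₀ := by
      refine LinearMap.injective_iff_surjective.1 ?_
      rw [← LinearMap.ker_eq_bot, LinearMap.ker_eq_bot']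
      intro x hx
      have e0' := congrFun hx 2
      simp [M₀, X'] at e0'
      have e0 : x 0 + x 1 + x 2 = 0 := mul_left_cancel₀ (inv_ne_zero hα0) (by linear_combination e0')
      have e1 := congrFun hx 0
      have e2 := congrFun hx 1
      simp [M₀, X', Y', Z', hm, e0] at e1 e2
      have hω1 : ω ^ 2 - ω ≠ 0 := fun h' => by
        have : (3 : ℂ) = 0 := by
          linear_combination (3 - 2 * ω) * hω + (2 * ω + 1) * h'
        norm_num at this
      have h2' : x 2 = 0 := by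
        linear_combination (1/3 : ℂ) * e0 + (1/3 : ℂ) * (e1 + b / m / α * e0) - (x 0 + x 1) / 3 * hω
      have h01 : x 0 = x 1 := by
        apply mul_left_cancel₀ hω1
        linear_combination e2
      funext i
      fin_cases i <;> simp
      · linear_combination (1/2 : ℂ) * e0 - (1/2 : ℂ) * h2' + (1/2 : ℂ) * h01
      · linear_combination (1/2 : ℂ) * e0 - (1/2 : ℂ) * h2' - (1/2 : ℂ) * h01
      · exact h2'
    obtain ⟨y, rfl⟩ := hM₀surj y
    rw [← map_smul, ← map_add, ← map_add, hM₀, hM₀, hM₀]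
    simp [h]
    ring
  obtain ⟨k, hk⟩ := IsAlgClosed.exists_pow_nat_eq (1 + 27 * c₁)⁻¹ (show 0 < 3 by norm_num)
  let D : Vec 3 →ₗ[ℂ] Vec 3 := LinearMap.pi (![pr 0, pr 1, k • pr 2] : Fin 3 → (Vec 3 →ₗ[ℂ] ℂ))
  refine ⟨M₀ ∘ₗ D, k, c₁⁻¹, ?_, inv_ne_zero hc₁0, fun x => ?_⟩
  · rw [hk]
    intro h
    rw [inv_eq_one] at h
    exact hc₁0 (by linear_combination (1/27 : ℂ) * h)
  · rw [LinearMap.comp_apply, hM₀, hes]
    have hk1 : (1 + 27 * c₁) * k ^ 3 = 1 := by rw [hk, mul_inv_cancel₀ hc27]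
    simp [D]
    left
    linear_combination (x 2 ^ 3) * hk1

/-- Every smooth plane cubic is a Hesse cubic in suitable coordinates. -/
theorem Tri.exists_hesse {C₀ : Tri 3} (hs : C₀.Smooth) (f : MvPolynomial (Fin 3) ℂ)
    (hF : ∀ v, eval v f = C₀.F v) :
    ∃ (L : Vec 3 →ₗ[ℂ] Vec 3) (k c : ℂ),
      Function.Injective L ∧ k ^ 3 ≠ 1 ∧ c ≠ 0 ∧ ∀ x, C₀.F (L x) = c * hes k x := by
  obtain ⟨v, -, hfl⟩ := Tri.exists_flex hs f hF
  obtain ⟨B, a, p, r, hB, ha, hpr, -, hBF⟩ := Tri.exists_weier hs hfl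
  obtain ⟨M, k, c, hk, hc, hM⟩ := exists_hesse_weier p r hpr (fun x hx hx0 => by
    by_contra hne
    push Not at hne
    exact Tri.not_sing hs B hB hBF hx hx0 fun y => by linear_combination hne y)
  have h : ∀ x, C₀.F ((B ∘ₗ M) x) = a * c * hes k x := fun x => by
    rw [LinearMap.comp_apply, hBF, hM, mul_assoc]
  refine ⟨B ∘ₗ M, k, a * c, ?_, hk, mul_ne_zero ha hc, h⟩
  exact Tri.injective_of_pullback (hesse_smooth hk) _ (mul_ne_zero ha hc)
    (by simpa only [hesseTri_F] using h)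

end Groth.Agent.Cubics
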