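import Groth.Agent.Cubics.DescentApp
import Mathlib.Data.Set.Card

/-!
# Lines through a singular point of a cubic surface
-/

namespace Groth.Agent.CubicFive

open Groth.Agent.CubicODP Polynomial

variable {K : Type*} [Field K]

/-- The projective zero set of a binary form, as a set of parameters: at most its degree. -/
theorem proj_roots_encard {α : Type*} (n : ℕ) (P : K[X]) (hP : P ≠ 0) (hn : P.natDegree ≤ n) (f : K → α) (pinf : α)
    (S : Set α) (hS : S ⊆ f '' {t | P.eval t = 0} ∪ {x | x = pinf ∧ P.coeff n = 0}) : S.encard ≤ n := by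
  classical
  refine le_trans (Set.encard_le_encard hS) (le_trans (Set.encard_union_le _ _) ?_)
  have hr : (f '' {t | P.eval t = 0}).encard ≤ (P.roots.toFinset.card : ℕ∞) := by
    refine le_trans (Set.encard_image_le _ _) ?_
    rw [← Set.encard_coe_eq_coe_finsetCard]
    refine Set.encard_le_encard fun t ht => ?_
    simp only [Finset.mem_coe, Multiset.mem_toFinset, mem_roots hP, IsRoot.def]
    exact ht
  by_cases hc : P.coeff n = 0
  · have hlt : P.roots.toFinset.card + 1 ≤ n := by
      have h1 : P.natDegree ≠ n := fun h => hP (leadingCoeff_eq_zero.1 (by rw [leadingCoeff, h, hc]))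
      have h2 := (Multiset.toFinset_card_le P.roots).trans (card_roots' P)
      omega
    refine le_trans (add_le_add hr ((Set.encard_le_encard (t := {pinf}) fun x hx => hx.1).trans
      (Set.encard_singleton _).le)) ?_
    exact_mod_cast hlt
  · rw [show {x : α | x = pinf ∧ P.coeff n = 0} = ∅ from Set.eq_empty_iff_forall_notMem.2 fun x hx => hc hx.2,
      Set.encard_empty, add_zero]
    refine le_trans hr ?_
    exact_mod_cast (Multiset.toFinset_card_le P.roots).trans ((card_roots' P).trans hn)

variable [CharZero K] (C₀ : Tri K 4)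

/-- Lines through `a` meeting a fixed line in the plane at infinity. -/
theorem lines_on_line (hnp : NoPlane C₀) {a r s : Fin 4 → K} (ha : ∀ x, C₀.T a a x = 0)
    (hg : ∀ t u : K, C₀.T a (t • r + u • s) (t • r + u • s) = 0) (hli : LinearIndependent K ![a, r, s]) :
    {U : Submodule K (Fin 4 → K) | ∃ t u : K, (t ≠ 0 ∨ u ≠ 0) ∧ C₀.F (t • r + u • s) = 0 ∧
      U = Submodule.span K {a, t • r + u • s}}.encard ≤ 3 := by
  let P : K[X] := C (C₀.F r) * X ^ 3 + C (3 * C₀.T r r s) * X ^ 2 + C (3 * C₀.T r s s) * X + C (C₀.F s)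
  have hPev : ∀ t, P.eval t = C₀.F (t • r + s) := fun t => by
    rw [show t • r + s = t • r + (1 : K) • s by rw [one_smul], Tri.F_two]
    simp only [P, eval_add, eval_mul, eval_pow, eval_C, eval_X]
    ring
  have hP3 : P.coeff 3 = C₀.F r := by
    simp only [P, coeff_add, coeff_C_mul_X_pow, coeff_C_mul_X, coeff_C]
    norm_num
  have hP : P ≠ 0 := by
    intro h
    obtain ⟨x, y, z, hxyz⟩ := hnp a r s hli
    apply hxyz
    have hg' : C₀.T a (y • r + z • s) (y • r + z • s) = 0 := hg y z
    rw [add_assoc, add_comm (x • a), Tri.F_add_smul, C₀.rev _ _ a, hg', C₀.rev _ a a, ha,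
      show C₀.F a = 0 from ha a]
    have : C₀.F (y • r + z • s) = 0 := by
      by_cases hz : z = 0
      · rw [hz, zero_smul, add_zero, Tri.F_smul, ← hP3, h, coeff_zero, mul_zero]
      · rw [show y • r + z • s = z • ((y / z) • r + s) by rw [smul_add, smul_smul, mul_div_cancel₀ _ hz],
          Tri.F_smul, ← hPev, h, eval_zero, mul_zero]
    rw [this]; ring
  refine proj_roots_encard 3 P hP ?_ (fun t => Submodule.span K {a, t • r + s}) (Submodule.span K {a, r}) _ ?_
  · exact natDegree_cubic_le
  rintro U ⟨t, u, htu, hF, rfl⟩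
  have hspan : ∀ (c : K) (w : Fin 4 → K), c ≠ 0 → Submodule.span K {a, c • w} = Submodule.span K {a, w} := by
    intro c w hc
    rw [Submodule.span_insert, Submodule.span_insert, Submodule.span_singleton_smul_eq (IsUnit.mk0 c hc)]
  by_cases hu : u = 0
  · right
    have ht : t ≠ 0 := htu.resolve_right (by simp [hu])
    rw [hu, zero_smul, add_zero] at hF ⊢
    refine ⟨hspan t r ht, ?_⟩
    rw [hP3]
    rw [Tri.F_smul] at hF
    exact (mul_eq_zero.1 hF).resolve_left (pow_ne_zero _ ht)
  · left
    have e : t • r + u • s = u • ((t / u) • r + s) := by rw [smul_add, smul_smul, mul_div_cancel₀ _ hu]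
    rw [e] at hF ⊢
    refine ⟨t / u, ?_, (hspan u _ hu).symm⟩
    rw [Tri.F_smul] at hF
    rw [Set.mem_setOf_eq, hPev]
    exact (mul_eq_zero.1 hF).resolve_left (pow_ne_zero _ hu)

set_option maxHeartbeats 1000000 in
/-- At most six lines through a singular point. -/
theorem lines_through_singular [IsAlgClosed K] (hnp : NoPlane C₀)
    (hcone : ∀ w : Fin 4 → K, w ≠ 0 → ∃ x y, C₀.T x y w ≠ 0) {a : Fin 4 → K} (ha0 : a ≠ 0) (ha : ∀ x, C₀.T a a x = 0) :
    {U : Submodule K (Fin 4 → K) | a ∈ U ∧ Module.finrank K ↥U = 2 ∧ ∀ u ∈ U, C₀.F u = 0}.encard ≤ 6 := by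
  classical
  have hFa : C₀.F a = 0 := ha a
  -- the lines through `a` come from common zeros of the conic and the cubic
  have hline : ∀ U : Submodule K (Fin 4 → K), a ∈ U → Module.finrank K ↥U = 2 → (∀ u ∈ U, C₀.F u = 0) →
      ∀ b₁ b₂ b₃ : Fin 4 → K, LinearIndependent K ![a, b₁, b₂, b₃] →
        ∃ x y z : K, (x ≠ 0 ∨ y ≠ 0 ∨ z ≠ 0) ∧ C₀.T a (x • b₁ + y • b₂ + z • b₃) (x • b₁ + y • b₂ + z • b₃) = 0 ∧
          C₀.F (x • b₁ + y • b₂ + z • b₃) = 0 ∧ U = Submodule.span K {a, x • b₁ + y • b₂ + z • b₃} := by
    intro U haU hU2 hU b₁ b₂ b₃ hli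
    obtain ⟨w, hwU, hwa⟩ : ∃ w ∈ U, w ∉ Submodule.span K {a} := by
      by_contra h
      push Not at h
      have hle : U ≤ Submodule.span K {a} := h
      have := Submodule.finrank_mono hle
      rw [hU2, finrank_span_singleton ha0] at this
      omega
    let b : Module.Basis (Fin 4) K (Fin 4 → K) := basisOfLinearIndependentOfCardEqFinrank hli (by simp)
    have hw : w = b.coord 0 w • a + (b.coord 1 w • b₁ + b.coord 2 w • b₂ + b.coord 3 w • b₃) := by
      conv_lhs => rw [← b.sum_repr w, Fin.sum_univ_four]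
      simp only [b, coe_basisOfLinearIndependentOfCardEqFinrank, add_assoc]
      rfl
    set w' := b.coord 1 w • b₁ + b.coord 2 w • b₂ + b.coord 3 w • b₃ with hw'
    have hw'U : w' ∈ U := by
      rw [show w' = w - b.coord 0 w • a from by rw [eq_sub_iff_add_eq']; exact hw.symm]
      exact U.sub_mem hwU (U.smul_mem _ haU)
    have hw'0 : w' ≠ 0 := fun h => hwa (by
      rw [hw, h, add_zero]; exact Submodule.mem_span_singleton.2 ⟨_, rfl⟩)
    refine ⟨_, _, _, ?_, ?_, hU _ hw'U, ?_⟩
    · by_contra hc
      push Not at hc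
      exact hw'0 (by rw [hw', hc.1, hc.2.1, hc.2.2]; simp)
    · have h1 := hU _ (U.add_mem hw'U (U.smul_mem (1 : K) haU))
      have h2 := hU _ hw'U
      rw [Tri.F_add_smul, C₀.rev w' w' a, C₀.rev w' a a, ha, hFa, h2] at h1
      linear_combination h1 / 3
    · have hli2 : LinearIndependent K ![a, w'] := by
        refine LinearIndependent.pair_iff.2 fun r t h => ?_
        have := Fintype.linearIndependent_iff.1 hli
          ![r, t * b.coord 1 w, t * b.coord 2 w, t * b.coord 3 w] (by
            rw [← h, hw']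
            simp only [Fin.sum_univ_four, Matrix.cons_val_zero, Matrix.cons_val_one, Matrix.cons_val]
            module)
        refine ⟨this 0, ?_⟩
        by_contra ht
        refine hw'0 ?_
        rw [hw', show b.coord 1 w = 0 from (mul_eq_zero.1 (this 1)).resolve_left ht,
          show b.coord 2 w = 0 from (mul_eq_zero.1 (this 2)).resolve_left ht,
          show b.coord 3 w = 0 from (mul_eq_zero.1 (this 3)).resolve_left ht]
        simp
      refine (Submodule.eq_of_le_of_finrank_eq (Submodule.span_le.2 ?_) ?_).symm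
      · rintro x (rfl | rfl)
        · exact haU
        · exact hw'U
      · rw [hU2]
        have := finrank_span_eq_card hli2
        rw [Matrix.range_cons_cons_empty, Fintype.card_fin] at this
        exact this
  obtain ⟨x₀, y₀, hxy⟩ := hcone a ha0
  rw [C₀.rev] at hxy
  have ext4 : ∀ {v : Fin 2 → Fin 4 → K}, LinearIndependent K v → ∃ f g, LinearIndependent K ![v 0, v 1, f, g] := by
    intro v hv
    exact exists_completion (a := v 0) (b := v 1) (by convert hv using 1; ext i : 1; fin_cases i <;> rfl)
  by_cases hsp : ∃ p, C₀.T a p p = 0 ∧ ∃ q, C₀.T a p q ≠ 0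
  · obtain ⟨p, hp, q, hpq⟩ := hsp
    have hpa : C₀.T a p a = 0 := by rw [C₀.swap23]; exact ha p
    -- a frame adapted to the conic at `p`
    set s := q + (-(C₀.T a q q) / (2 * C₀.T a p q)) • p with hs
    have aps : C₀.T a p s = C₀.T a p q := by simp [hs, hp]
    have ass : C₀.T a s s = 0 := by
      simp only [hs, map_add, map_smul, LinearMap.add_apply, LinearMap.smul_apply, smul_eq_mul, hp,
        C₀.swap23 a q p]
      field_simp
      ring
    set m := C₀.T a p s with hm
    have hm0 : m ≠ 0 := by rw [aps]; exact hpq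
    have hli3 : LinearIndependent K ![a, p] := by
      refine LinearIndependent.pair_iff.2 fun r t h => ?_
      have h' := congrArg (C₀.T a s) h
      simp only [map_add, map_smul, smul_eq_mul, C₀.swap23 a s a, ha, mul_zero, zero_add, map_zero,
        C₀.swap23 a s p, ← hm, mul_eq_zero] at h'
      rw [h'.resolve_right hm0, zero_smul, add_zero] at h
      exact ⟨(smul_eq_zero.1 h).resolve_right ha0, h'.resolve_right hm0⟩
    obtain ⟨r', hli4⟩ : ∃ r', LinearIndependent K ![a, p, s, r'] := by
      have h3 : LinearIndependent K ![a, p, s] := by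
        refine Fintype.linearIndependent_iff.2 fun c hc => ?_
        simp only [Fin.sum_univ_three, Matrix.cons_val_zero, Matrix.cons_val_one, Matrix.cons_val] at hc
        have e1 := congrArg (C₀.T a p) hc
        have e2 := congrArg (C₀.T a s) hc
        simp only [map_add, map_smul, smul_eq_mul, hpa, hp, ← hm, map_zero, C₀.swap23 a s a, ha, ass,
          C₀.swap23 a s p, mul_zero, zero_add, add_zero, mul_eq_zero, hm0, or_false] at e1 e2
        rw [e1, e2, zero_smul, zero_smul, add_zero, add_zero] at hc
        intro i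
        fin_cases i
        · exact (smul_eq_zero.1 hc).resolve_right ha0
        · exact e2
        · exact e1
      obtain ⟨r', hr'⟩ := exists_linearIndependent_snoc_of_lt_finrank h3 (by simp)
      refine ⟨r', ?_⟩
      have e : ![a, p, s, r'] = Fin.snoc ![a, p, s] r' := by
        ext i : 1
        fin_cases i <;> rfl
      rw [e]
      exact hr'
    set r := r' + (-(C₀.T a p r') / m) • s + (-(C₀.T a s r') / m) • p with hr
    have apr : C₀.T a p r = 0 := by
      simp only [hr, map_add, map_smul, smul_eq_mul, hp, ← hm]; field_simp; ring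
    have asr : C₀.T a s r = 0 := by
      simp only [hr, map_add, map_smul, smul_eq_mul, ass, C₀.swap23 a s p, ← hm]; field_simp; ring
    have hli : LinearIndependent K ![a, p, r, s] := by
      refine Fintype.linearIndependent_iff.2 fun c hc => ?_
      have := Fintype.linearIndependent_iff.1 hli4
        ![c 0, c 1 + c 2 * (-(C₀.T a s r') / m), c 3 + c 2 * (-(C₀.T a p r') / m), c 2] (by
          rw [← hc, hr]
          simp only [Fin.sum_univ_four, Matrix.cons_val_zero, Matrix.cons_val_one, Matrix.cons_val]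
          module)
      have i2 : c 2 = 0 := this 3
      intro i
      fin_cases i
      · exact this 0
      · simpa [i2] using this 1
      · exact i2
      · simpa [i2] using this 2
    set A := C₀.T a r r with hA
    have conic : ∀ x y z : K, C₀.T a (x • p + y • r + z • s) (x • p + y • r + z • s) = A * y ^ 2 + 2 * m * x * z := by
      intro x y z
      simp only [map_add, map_smul, LinearMap.add_apply, LinearMap.smul_apply, smul_eq_mul, hp, ass, apr, asr,
        C₀.swap23 a r p, C₀.swap23 a s p, C₀.swap23 a r s, ← hm, ← hA]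
      ring
    have lipr : LinearIndependent K ![a, p, r] := by
      have e : (![a, p, r] : Fin 3 → Fin 4 → K) = ![a, p, r, s] ∘ ![0, 1, 2] := by
        ext i : 1
        fin_cases i <;> rfl
      rw [e]
      exact hli.comp _ (by decide)
    have lirs : LinearIndependent K ![a, r, s] := by
      have e : (![a, r, s] : Fin 3 → Fin 4 → K) = ![a, p, r, s] ∘ ![0, 2, 3] := by
        ext i : 1
        fin_cases i <;> rfl
      rw [e]
      exact hli.comp _ (by decide)
    by_cases hA0 : A = 0
    · refine le_trans (Set.encard_le_encard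
        (t := {U | ∃ t u : K, (t ≠ 0 ∨ u ≠ 0) ∧ C₀.F (t • p + u • r) = 0 ∧ U = Submodule.span K {a, t • p + u • r}} ∪
          {U | ∃ t u : K, (t ≠ 0 ∨ u ≠ 0) ∧ C₀.F (t • r + u • s) = 0 ∧ U = Submodule.span K {a, t • r + u • s}}) ?_)
        (le_trans (Set.encard_union_le _ _) (le_trans (add_le_add
          (lines_on_line C₀ hnp ha (fun t u => by
            have := conic t u 0
            simpa [hA0] using this) lipr)
          (lines_on_line C₀ hnp ha (fun t u => by
            have := conic 0 t u
            simpa [hA0] using this) lirs)) (by norm_num)))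
      rintro U ⟨haU, hU2, hU⟩
      obtain ⟨x, y, z, hne, hg, hF, hUeq⟩ := hline U haU hU2 hU p r s hli
      rw [conic, hA0, zero_mul, zero_add] at hg
      rcases mul_eq_zero.1 hg with h | h
      · have hx : x = 0 := (mul_eq_zero.1 h).resolve_left (mul_ne_zero two_ne_zero hm0)
        subst hx
        rw [zero_smul, zero_add] at hF hUeq
        exact Or.inr ⟨y, z, hne.resolve_left (not_not.2 rfl), hF, hUeq⟩
      · subst h
        rw [zero_smul, add_zero] at hF hUeq
        exact Or.inl ⟨x, y, by tauto, hF, hUeq⟩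
    -- the smooth conic
    let pt : K → Fin 4 → K := fun t => (-A * t ^ 2) • p + (2 * m * t) • r + (2 * m) • s
    let P : K[X] := C (C₀.F p) * (-(C A) * X ^ 2) ^ 3 + C (3 * C₀.T p p r) * (-(C A) * X ^ 2) ^ 2 * (C (2 * m) * X)
      + C (3 * C₀.T p r r) * (-(C A) * X ^ 2) * (C (2 * m) * X) ^ 2 + C (C₀.F r) * (C (2 * m) * X) ^ 3
      + C (3 * C₀.T p p s) * (-(C A) * X ^ 2) ^ 2 * C (2 * m)
      + C (6 * C₀.T p r s) * (-(C A) * X ^ 2) * (C (2 * m) * X) * C (2 * m)
      + C (3 * C₀.T r r s) * (C (2 * m) * X) ^ 2 * C (2 * m)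
      + C (3 * C₀.T p s s) * (-(C A) * X ^ 2) * C (2 * m) ^ 2 + C (3 * C₀.T r s s) * (C (2 * m) * X) * C (2 * m) ^ 2
      + C (C₀.F s) * C (2 * m) ^ 3
    have F3 : ∀ x y z : K, C₀.F (x • p + y • r + z • s) = x ^ 3 * C₀.F p + 3 * x ^ 2 * y * C₀.T p p r
        + 3 * x * y ^ 2 * C₀.T p r r + y ^ 3 * C₀.F r + 3 * x ^ 2 * z * C₀.T p p s + 6 * x * y * z * C₀.T p r s
        + 3 * y ^ 2 * z * C₀.T r r s + 3 * x * z ^ 2 * C₀.T p s s + 3 * y * z ^ 2 * C₀.T r s s + z ^ 3 * C₀.F s := by
      intro x y z
      rw [Tri.F_add_smul, Tri.F_two]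
      simp only [map_add, map_smul, LinearMap.add_apply, LinearMap.smul_apply, smul_eq_mul, C₀.swap12 r p]
      ring
    have hPev : ∀ t, P.eval t = C₀.F (pt t) := fun t => by
      rw [F3]
      simp only [P, eval_add, eval_mul, eval_pow, eval_neg, eval_C, eval_X]
      ring
    have hexp : P = C (-(A ^ 3) * C₀.F p) * X ^ 6 + C (6 * A ^ 2 * m * C₀.T p p r) * X ^ 5
        + C (-(12 * A * m ^ 2 * C₀.T p r r) + 6 * A ^ 2 * m * C₀.T p p s) * X ^ 4
        + C (8 * m ^ 3 * C₀.F r - 24 * A * m ^ 2 * C₀.T p r s) * X ^ 3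
        + C (24 * m ^ 3 * C₀.T r r s - 12 * A * m ^ 2 * C₀.T p s s) * X ^ 2
        + C (24 * m ^ 3 * C₀.T r s s) * X + C (8 * m ^ 3 * C₀.F s) := by
      simp only [P, map_mul, map_add, map_sub, map_neg, map_pow, map_ofNat]
      ring
    have hP6 : P.coeff 6 = -(A ^ 3) * C₀.F p := by
      rw [hexp]
      simp only [coeff_add, coeff_C_mul_X_pow, coeff_C_mul_X, coeff_C]
      norm_num
    have hdeg : P.natDegree ≤ 6 := by rw [hexp]; compute_degree
    have hP : P ≠ 0 := by
      intro h
      rw [h] at hexp
      have k6 := congrArg (coeff · 6) hexp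
      have k5 := congrArg (coeff · 5) hexp
      have k4 := congrArg (coeff · 4) hexp
      have k3 := congrArg (coeff · 3) hexp
      have k2 := congrArg (coeff · 2) hexp
      have k1 := congrArg (coeff · 1) hexp
      have k0 := congrArg (coeff · 0) hexp
      simp only [coeff_add, coeff_C_mul_X_pow, coeff_C_mul_X, coeff_C, coeff_zero] at k6 k5 k4 k3 k2 k1 k0
      norm_num at k6 k5 k4 k3 k2 k1 k0
      have e6 : C₀.F p = 0 := k6.resolve_left hA0
      have e5 : C₀.T p p r = 0 := k5.resolve_left (not_or.2 ⟨hA0, hm0⟩)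
      have e1 : C₀.T r s s = 0 := k1.resolve_left hm0
      have e0 : C₀.F s = 0 := k0.resolve_left hm0
      -- `F` vanishes on the plane `3 x₀ + λ = 0`
      set lp := 3 * C₀.T p p s / (2 * m) with hlp
      set lr := C₀.F r / A with hlr
      set ls := 3 * C₀.T r r s / A with hls
      have hli' : LinearIndependent K
          ![p + (-(lp / 3)) • a, r + (-(lr / 3)) • a, s + (-(ls / 3)) • a] := by
        refine Fintype.linearIndependent_iff.2 fun c hc => ?_
        have := Fintype.linearIndependent_iff.1 hli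
          ![-(c 0 * (lp / 3) + c 1 * (lr / 3) + c 2 * (ls / 3)), c 0, c 1, c 2] (by
            rw [← hc]
            simp only [Fin.sum_univ_three, Fin.sum_univ_four, Matrix.cons_val_zero, Matrix.cons_val_one,
              Matrix.cons_val]
            module)
        intro i
        fin_cases i
        · exact this 1
        · exact this 2
        · exact this 3
      obtain ⟨x, y, z, hxyz⟩ := hnp _ _ _ hli'
      apply hxyz
      have g4 : 3 * C₀.T p r r = A * lp := by
        rw [hlp]
        field_simp
        exact mul_left_cancel₀ (mul_ne_zero (mul_ne_zero hA0 hm0) (by norm_num : (6 : K) ≠ 0))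
          (by linear_combination k4)
      have g3 : 6 * C₀.T p r s = 2 * m * lr := by
        rw [hlr]
        field_simp
        exact mul_left_cancel₀ (mul_ne_zero (pow_ne_zero 2 hm0) (by norm_num : (4 : K) ≠ 0))
          (by linear_combination k3)
      have g2 : 3 * C₀.T p s s = 2 * m * ls := by
        rw [hls]
        field_simp
        exact mul_left_cancel₀ (mul_ne_zero (pow_ne_zero 2 hm0) (by norm_num : (12 : K) ≠ 0))
          (by linear_combination k2)
      have gp : 3 * C₀.T p p s = 2 * m * lp := by rw [hlp]; field_simp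
      have gr : C₀.F r = A * lr := by rw [hlr]; field_simp
      have gs : 3 * C₀.T r r s = A * ls := by rw [hls]; field_simp
      rw [show x • (p + (-(lp / 3)) • a) + y • (r + (-(lr / 3)) • a) + z • (s + (-(ls / 3)) • a) =
        (x • p + y • r + z • s) + (-((x * lp + y * lr + z * ls) / 3)) • a from by module,
        Tri.F_add_smul, C₀.rev _ _ a, conic, C₀.rev _ a a, ha, hFa, F3, e6, e5, e1, e0]
      linear_combination x * y ^ 2 * g4 + x * y * z * g3 + x * z ^ 2 * g2 + x ^ 2 * z * gp + y ^ 3 * gr + y ^ 2 * z * gs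
    refine proj_roots_encard 6 P hP hdeg (fun t => Submodule.span K {a, pt t}) (Submodule.span K {a, p}) _ ?_
    rintro U ⟨haU, hU2, hU⟩
    obtain ⟨x, y, z, hne, hg, hF, hUeq⟩ := hline U haU hU2 hU p r s hli
    rw [conic] at hg
    have hspan : ∀ (c : K) (w : Fin 4 → K), c ≠ 0 → Submodule.span K {a, c • w} = Submodule.span K {a, w} := by
      intro c w hc
      rw [Submodule.span_insert, Submodule.span_insert, Submodule.span_singleton_smul_eq (IsUnit.mk0 c hc)]
    by_cases hz : z = 0
    · right
      subst hz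
      have hy : y = 0 := eq_zero_of_pow_eq_zero (n := 2)
        ((mul_eq_zero.1 (show A * y ^ 2 = 0 by linear_combination hg)).resolve_left hA0)
      subst hy
      have hx : x ≠ 0 := by simpa using hne
      simp only [zero_smul, add_zero] at hF hUeq
      refine ⟨hUeq.trans (hspan x p hx), ?_⟩
      rw [Tri.F_smul, mul_eq_zero] at hF
      rw [hP6, hF.resolve_left (pow_ne_zero _ hx), mul_zero]
    · left
      have e : x • p + y • r + z • s = (z / (2 * m)) • pt (y / z) := by
        have ex : z / (2 * m) * (-A * (y / z) ^ 2) = x := by field_simp; linear_combination -hg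
        have ey : z / (2 * m) * (2 * m * (y / z)) = y := by field_simp
        have ez : z / (2 * m) * (2 * m) = z := by field_simp
        rw [show pt (y / z) = (-A * (y / z) ^ 2) • p + (2 * m * (y / z)) • r + (2 * m) • s from rfl]
        calc x • p + y • r + z • s
            = (z / (2 * m) * (-A * (y / z) ^ 2)) • p + (z / (2 * m) * (2 * m * (y / z))) • r
                + (z / (2 * m) * (2 * m)) • s := by rw [ex, ey, ez]
          _ = _ := by module
      rw [e] at hF hUeq
      have hc : z / (2 * m) ≠ 0 := div_ne_zero hz (mul_ne_zero two_ne_zero hm0)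
      refine ⟨y / z, ?_, (hUeq.trans (hspan _ _ hc)).symm⟩
      rw [Tri.F_smul, mul_eq_zero] at hF
      rw [Set.mem_setOf_eq, hPev]
      exact hF.resolve_left (pow_ne_zero _ hc)
  -- the conic is a double line
  push Not at hsp
  have hrad : ∀ x y : Fin 4 → K, C₀.T a x x = 0 → C₀.T a x y = 0 := fun x y h => hsp x h y
  obtain ⟨f, hf⟩ : ∃ f, C₀.T a f f ≠ 0 := by
    by_contra h
    push Not at h
    exact hxy (by rw [C₀.swap23]; exact hrad _ _ (h x₀))
  have hli2 : LinearIndependent K ![a, f] := by
    refine LinearIndependent.pair_iff.2 fun r t h => ?_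
    have h' := congrArg (C₀.T a f) h
    simp only [map_add, map_smul, smul_eq_mul, C₀.swap23 a f a, ha, mul_zero, zero_add, map_zero, mul_eq_zero,
      hf, or_false] at h'
    rw [h', zero_smul, add_zero] at h
    exact ⟨(smul_eq_zero.1 h).resolve_right ha0, h'⟩
  obtain ⟨g₁, g₂, hg⟩ := ext4 hli2
  simp only [Matrix.cons_val_zero, Matrix.cons_val_one] at hg
  have hmod : ∀ x, ∃ c : K, C₀.T a (x + c • f) (x + c • f) = 0 := fun x => by
    obtain ⟨c, hc⟩ := exists_root_quadratic (C₀.T a f f) (2 * C₀.T a x f) (C₀.T a x x) hf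
    exact ⟨c, by
      simp only [map_add, map_smul, LinearMap.add_apply, LinearMap.smul_apply, smul_eq_mul, C₀.swap23 a f x]
      linear_combination hc⟩
  obtain ⟨c₁, hc₁⟩ := hmod g₁
  obtain ⟨c₂, hc₂⟩ := hmod g₂
  set r := g₁ + c₁ • f with hr
  set s := g₂ + c₂ • f with hs
  have hli : LinearIndependent K ![a, r, s, f] := by
    refine Fintype.linearIndependent_iff.2 fun c hc => ?_
    have := Fintype.linearIndependent_iff.1 hg ![c 0, c 3 + c 1 * c₁ + c 2 * c₂, c 1, c 2] (by
      rw [← hc, hr, hs]
      simp only [Fin.sum_univ_four, Matrix.cons_val_zero, Matrix.cons_val_one, Matrix.cons_val]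
      module)
    have i1 : c 1 = 0 := this 2
    have i2 : c 2 = 0 := this 3
    intro i
    fin_cases i
    · exact this 0
    · exact i1
    · exact i2
    · simpa [i1, i2] using this 1
  have hconic : ∀ x y z : K, C₀.T a (x • r + y • s + z • f) (x • r + y • s + z • f) = z ^ 2 * C₀.T a f f := by
    intro x y z
    simp only [map_add, map_smul, LinearMap.add_apply, LinearMap.smul_apply, smul_eq_mul, hrad r _ hc₁,
      hrad s _ hc₂, C₀.swap23 a f r, C₀.swap23 a f s]
    ring
  refine le_trans (Set.encard_le_encard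
    (t := {U | ∃ t u : K, (t ≠ 0 ∨ u ≠ 0) ∧ C₀.F (t • r + u • s) = 0 ∧ U = Submodule.span K {a, t • r + u • s}}) ?_)
    (le_trans (lines_on_line C₀ hnp ha (fun t u => by simpa using hconic t u 0) ?_) (by norm_num))
  · rintro U ⟨haU, hU2, hU⟩
    obtain ⟨x, y, z, hne, hg', hF, hUeq⟩ := hline U haU hU2 hU r s f hli
    rw [hconic] at hg'
    have hz : z = 0 := eq_zero_of_pow_eq_zero (n := 2) ((mul_eq_zero.1 hg').resolve_right hf)
    subst hz
    simp only [zero_smul, add_zero] at hF hUeq
    exact ⟨x, y, by simpa using hne, hF, hUeq⟩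
  · convert hli.comp ![0, 1, 2] (by decide) using 1
    ext i : 1
    fin_cases i <;> rfl

end Groth.Agent.CubicFive
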