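import Groth.Agent.Cubics.FiveApp

/-!
# A linear Pfaffian representation from five points in general position
-/

namespace Groth.Agent.CubicFive

open Groth.Agent.CubicODP Matrix

/-- The bordered skew syzygy matrix of five points. -/
def pfMat {R : Type*} [CommRing R] (y : Fin 4 → R) (v : Fin 5 → R) : Matrix (Fin 6) (Fin 6) R :=
  !![0, -y 3, y 2, y 3, -y 2, v 0;
     y 3, 0, -y 1, -y 3, 0, v 1;
     -y 2, y 1, 0, 0, y 2, v 2;
     -y 3, y 3, 0, 0, y 0, v 3;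
     y 2, 0, -y 2, -y 0, 0, v 4;
     -v 0, -v 1, -v 2, -v 3, -v 4, 0]

set_option maxHeartbeats 1000000 in
theorem det_pfMat {R : Type*} [CommRing R] (y : Fin 4 → R) (v : Fin 5 → R) :
    (pfMat y v).det = (v 0 * (y 0 * y 1 - y 2 * y 3) + v 1 * (y 0 * y 2 - y 2 * y 3)
      + v 2 * (y 0 * y 3 - y 2 * y 3) + v 3 * (y 1 * y 2 - y 2 * y 3) + v 4 * (y 1 * y 3 - y 2 * y 3)) ^ 2 := by
  simp [pfMat, Matrix.det_succ_row_zero, Fin.sum_univ_succ, Fin.succAbove]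
  ring

theorem pfMat_entry {R : Type*} [CommRing R] (P : R → Prop) (h0 : P 0) (hn : ∀ x, P x → P (-x))
    {y : Fin 4 → R} {v : Fin 5 → R} (hy : ∀ i, P (y i)) (hv : ∀ i, P (v i)) (i j : Fin 6) : P (pfMat y v i j) := by
  fin_cases i <;> fin_cases j <;> simp [pfMat, h0, hy, hv, hn]

theorem pfMat_transpose {R : Type*} [CommRing R] (y : Fin 4 → R) (v : Fin 5 → R) :
    (pfMat y v).transpose = -pfMat y v := by
  ext i j
  fin_cases i <;> fin_cases j <;> simp [pfMat]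

theorem pfMat_diag {R : Type*} [CommRing R] (y : Fin 4 → R) (v : Fin 5 → R) (i : Fin 6) : pfMat y v i i = 0 := by
  fin_cases i <;> rfl

variable {k : Type*} [Field k] [CharZero k]

theorem eval_lin_coord (f : (Fin 4 → k) →ₗ[k] k) (x : Fin 4 → k) :
    MvPolynomial.eval x (lin fun i => f (Pi.single i 1)) = f x := by
  rw [eval_lin, ← sum_single f x]
  exact Finset.sum_congr rfl fun i _ => by rw [smul_eq_mul, mul_comm]

/-- A linear Pfaffian representation of a cubic through five points in general position. -/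
theorem pfaffian_of_five (F : MvPolynomial (Fin 4) k) (hF : F.IsHomogeneous 3) (p : Fin 5 → Fin 4 → k)
    (hp : ∀ j, MvPolynomial.eval (p j) F = 0)
    (hpl : ∀ j : Fin 5, LinearIndependent k fun i : Fin 4 => p (j.succAbove i)) :
    ∃ M : Matrix (Fin 6) (Fin 6) (MvPolynomial (Fin 4) k), (∀ i j, (M i j).IsHomogeneous 1) ∧
      M.transpose = -M ∧ (∀ i, M i i = 0) ∧ ∃ c : k, c ≠ 0 ∧ M.det = MvPolynomial.C c * F ^ 2 := by
  classical
  obtain ⟨C₀, hC, _⟩ := exists_tri F hF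
  have h4 : LinearIndependent k fun i : Fin 4 => p i.castSucc := by
    have := hpl (Fin.last 4)
    simp only [Fin.succAbove_last] at this
    exact this
  let b₀ : Module.Basis (Fin 4) k (Fin 4 → k) := basisOfLinearIndependentOfCardEqFinrank h4 (by simp)
  have hb₀ : ∀ i, b₀ i = p i.castSucc := fun i => congrFun (coe_basisOfLinearIndependentOfCardEqFinrank _ _) i
  have hp4 : p (Fin.last 4) = ∑ i, b₀.repr (p (Fin.last 4)) i • p i.castSucc := by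
    conv_lhs => rw [← b₀.sum_repr (p (Fin.last 4))]
    simp only [hb₀]
  have hc : ∀ i, b₀.repr (p (Fin.last 4)) i ≠ 0 := by
    intro i hi
    let d : Fin 5 → k := Fin.snoc (fun l => b₀.repr (p (Fin.last 4)) l) (-1)
    have hd : ∑ j, d j • p j = 0 := by
      rw [Fin.sum_univ_castSucc]
      simp only [d, Fin.snoc_castSucc, Fin.snoc_last, ← hp4, neg_smul, one_smul, add_neg_cancel]
    rw [Fin.sum_univ_succAbove _ i.castSucc, show d i.castSucc = 0 from (Fin.snoc_castSucc _ _ _).trans hi, zero_smul,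
      zero_add] at hd
    have hall := Fintype.linearIndependent_iff.1 (hpl i.castSucc) _ hd
    obtain ⟨l, hl⟩ := Fin.exists_succAbove_eq (show Fin.last 4 ≠ i.castSucc from (Fin.castSucc_lt_last i).ne')
    have := hall l
    rw [hl] at this
    simp only [d, Fin.snoc_last] at this
    exact neg_ne_zero.2 one_ne_zero this
  let b : Module.Basis (Fin 4) k (Fin 4 → k) := b₀.unitsSMul fun i => Units.mk0 _ (hc i)
  have hFb : ∀ i, C₀.F (b i) = 0 := fun i => by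
    rw [Module.Basis.unitsSMul_apply, Units.smul_def, Tri.F_smul, hb₀, ← hC, hp, mul_zero]
  have hone : C₀.F (b 0 + b 1 + b 2 + b 3) = 0 := by
    have : b 0 + b 1 + b 2 + b 3 = p (Fin.last 4) := by
      rw [hp4, Fin.sum_univ_four]
      simp [b, Module.Basis.unitsSMul_apply, Units.smul_def, hb₀]
    rw [this, ← hC, hp]
  set v₀ := b 0
  set v₁ := b 1
  set v₂ := b 2
  set v₃ := b 3
  let y : Fin 4 → MvPolynomial (Fin 4) k := fun i => lin fun l => b.coord i (Pi.single l 1)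
  have hy : ∀ i x, MvPolynomial.eval x (y i) = b.coord i x := fun i x => eval_lin_coord _ x
  have expand : ∀ t₀ t₁ t₂ t₃ : k, C₀.F (t₀ • v₀ + t₁ • v₁ + t₂ • v₂ + t₃ • v₃) =
      3 * (t₀ ^ 2 * t₁ * C₀.T v₀ v₀ v₁ + t₀ * t₁ ^ 2 * C₀.T v₀ v₁ v₁
        + t₂ ^ 2 * t₃ * C₀.T v₂ v₂ v₃ + t₂ * t₃ ^ 2 * C₀.T v₂ v₃ v₃
        + t₀ ^ 2 * t₂ * C₀.T v₀ v₀ v₂ + t₀ ^ 2 * t₃ * C₀.T v₀ v₀ v₃
        + t₁ ^ 2 * t₂ * C₀.T v₁ v₁ v₂ + t₁ ^ 2 * t₃ * C₀.T v₁ v₁ v₃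
        + t₀ * t₂ ^ 2 * C₀.T v₀ v₂ v₂ + t₀ * t₃ ^ 2 * C₀.T v₀ v₃ v₃
        + t₁ * t₂ ^ 2 * C₀.T v₁ v₂ v₂ + t₁ * t₃ ^ 2 * C₀.T v₁ v₃ v₃) +
      6 * (t₀ * t₁ * t₂ * C₀.T v₀ v₁ v₂ + t₀ * t₁ * t₃ * C₀.T v₀ v₁ v₃
        + t₀ * t₂ * t₃ * C₀.T v₀ v₂ v₃ + t₁ * t₂ * t₃ * C₀.T v₁ v₂ v₃) := by
    intro t₀ t₁ t₂ t₃
    rw [show t₀ • v₀ + t₁ • v₁ + t₂ • v₂ + t₃ • v₃ =
      (t₀ • v₀ + t₁ • v₁) + (1 : k) • (t₂ • v₂ + t₃ • v₃) from by module, Tri.F_add_smul, Tri.F_two, Tri.F_two]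
    simp only [map_add, map_smul, LinearMap.add_apply, LinearMap.smul_apply, smul_eq_mul]
    rw [hFb 0, hFb 1, hFb 2, hFb 3, C₀.swap12 v₁ v₀ v₂, C₀.swap12 v₁ v₀ v₃, C₀.swap23 v₀ v₃ v₂,
      C₀.swap23 v₁ v₃ v₂]
    ring
  have hrel := expand 1 1 1 1
  simp only [one_smul, hone, one_pow, one_mul, mul_one] at hrel
  let A := 3 * (C₀.T v₀ v₀ v₁ + C₀.T v₀ v₀ v₂ + C₀.T v₀ v₀ v₃) +
    6 * (C₀.T v₀ v₁ v₂ + C₀.T v₀ v₁ v₃ + C₀.T v₀ v₂ v₃)
  let B := A + 3 * (C₀.T v₀ v₁ v₁ + C₀.T v₁ v₁ v₂ + C₀.T v₁ v₁ v₃) + 6 * C₀.T v₁ v₂ v₃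
  let D := B + 3 * (C₀.T v₀ v₂ v₂ + C₀.T v₁ v₂ v₂ + C₀.T v₂ v₂ v₃)
  let co : Fin 5 → Fin 4 → k := ![
    ![3 * C₀.T v₀ v₀ v₁, 3 * C₀.T v₀ v₁ v₁, 0, 0],
    ![3 * C₀.T v₀ v₀ v₂, 0, 3 * C₀.T v₀ v₂ v₂, A],
    ![3 * C₀.T v₀ v₀ v₃, 0, 0, 3 * C₀.T v₀ v₃ v₃],
    ![6 * C₀.T v₀ v₁ v₂, 3 * C₀.T v₁ v₁ v₂, 3 * C₀.T v₁ v₂ v₂, D - A],
    ![6 * C₀.T v₀ v₁ v₃, 3 * C₀.T v₁ v₁ v₃, B - D, 3 * C₀.T v₁ v₃ v₃]]
  let w : Fin 5 → MvPolynomial (Fin 4) k := fun j => ∑ i, MvPolynomial.C (co j i) * y i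
  have hy1 : ∀ i, (y i).IsHomogeneous 1 := fun i => isHomogeneous_lin _
  have hw1 : ∀ j, (w j).IsHomogeneous 1 := fun j => MvPolynomial.IsHomogeneous.sum _ _ _ fun i _ => by
    simpa using (MvPolynomial.isHomogeneous_C (Fin 4) (co j i)).mul (hy1 i)
  refine ⟨pfMat y w, ?_, ?_, ?_, 1, one_ne_zero, ?_⟩
  · exact pfMat_entry (fun q : MvPolynomial (Fin 4) k => q.IsHomogeneous 1) (MvPolynomial.isHomogeneous_zero _ _ _) (fun _ h => h.neg) hy1 hw1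
  · exact pfMat_transpose y w
  · exact pfMat_diag y w
  · refine MvPolynomial.funext fun x => ?_
    have hx : b.coord 0 x • v₀ + b.coord 1 x • v₁ + b.coord 2 x • v₂ + b.coord 3 x • v₃ = x := by
      conv_rhs => rw [← b.sum_repr x, Fin.sum_univ_four]
      rfl
    rw [det_pfMat, map_one, one_mul, map_pow, map_pow, hC, ← congrArg C₀.F hx, expand]
    congr 1
    simp only [w, co, A, B, D, Fin.sum_univ_four, map_add, map_sub, map_mul, map_zero, MvPolynomial.eval_C, hy,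
      Matrix.cons_val_zero, Matrix.cons_val_one, Matrix.cons_val]
    linear_combination (b.coord 2 x * b.coord 3 x ^ 2) * hrel

end Groth.Agent.CubicFive
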