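import Groth.Agent.Cubics.Forms
import Mathlib.RingTheory.Nullstellensatz
import Mathlib.RingTheory.Ideal.KrullsHeightTheorem
import Mathlib.LinearAlgebra.Matrix.ToLinearEquiv

/-! Smooth plane cubics: flexes and Weierstrass coordinates. -/

namespace Groth.Agent.Cubics

open MvPolynomial

/-- A zero of `F` with a line of triple contact through it. -/
def FlexPt {n : ℕ} (F : Vec n → ℂ) (v : Vec n) : Prop :=
  F v = 0 ∧ ∃ w, LinearIndependent ℂ ![v, w] ∧ ∀ t : ℂ, F (v + t • w) = t ^ 3 * F w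

theorem Tri.line_iff {n : ℕ} (C₀ : Tri n) {v w : Vec n} (h0 : C₀.F v = 0) :
    (∀ t : ℂ, C₀.F (v + t • w) = t ^ 3 * C₀.F w) ↔ C₀.T v v w = 0 ∧ C₀.T v w w = 0 := by
  constructor
  · intro h
    have h1 := h 1
    have h2 := h (-1)
    rw [C₀.F_add_smul, h0] at h1 h2
    constructor
    · linear_combination (1/6 : ℂ) * h1 - (1/6 : ℂ) * h2
    · linear_combination (1/6 : ℂ) * h1 + (1/6 : ℂ) * h2
  · rintro ⟨h1, h2⟩ t
    rw [C₀.F_add_smul, h0, h1, h2]; ring

theorem FlexPt.map {n : ℕ} {F G : Vec n → ℂ} (L : Vec n →ₗ[ℂ] Vec n) (hL : Function.Injective L)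
    (c : ℂ) (h : ∀ x, F (L x) = c * G x) {v : Vec n} (hv : FlexPt G v) : FlexPt F (L v) := by
  obtain ⟨h0, w, hli, hw⟩ := hv
  refine ⟨by rw [h, h0, mul_zero], L w, ?_, fun t => ?_⟩
  · rw [LinearIndependent.pair_iff] at hli ⊢
    intro s t hst
    refine hli s t (hL ?_)
    rw [map_add, map_smul, map_smul, hst, map_zero]
  · rw [← map_smul, ← map_add, h, h, hw]; ring

/-- The linear map sending the standard basis to three given vectors. -/
noncomputable def comb (a b c : Vec 3) : Vec 3 →ₗ[ℂ] Vec 3 :=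
  (LinearMap.proj 0 : Vec 3 →ₗ[ℂ] ℂ).smulRight a + (LinearMap.proj 1 : Vec 3 →ₗ[ℂ] ℂ).smulRight b
    + (LinearMap.proj 2 : Vec 3 →ₗ[ℂ] ℂ).smulRight c

theorem comb_apply (a b c x : Vec 3) : comb a b c x = x 0 • a + x 1 • b + x 2 • c := rfl

theorem comb_injective {a b c : Vec 3}
    (h : ∀ p q r : ℂ, p • a + q • b + r • c = 0 → p = 0 ∧ q = 0 ∧ r = 0) :
    Function.Injective (comb a b c) := by
  rw [← LinearMap.ker_eq_bot, LinearMap.ker_eq_bot']
  intro x hx
  obtain ⟨h0, h1, h2⟩ := h _ _ _ (by rwa [← comb_apply])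
  funext i
  fin_cases i <;> assumption

/-- A singular point of a pullback contradicts smoothness. -/
theorem Tri.not_sing {n : ℕ} {C₀ : Tri n} (hs : C₀.Smooth) (L : Vec n →ₗ[ℂ] Vec n)
    (hL : Function.Injective L) {G : Vec n → ℂ} {c : ℂ} (h : ∀ x, C₀.F (L x) = c * G x)
    {p : Vec n} (hp : p ≠ 0) (h0 : G p = 0)
    (h1 : ∀ y, G (p + y) - G (p + (-1 : ℂ) • y) - 2 * G y = 0) : False := by
  have hsur : Function.Surjective L := LinearMap.injective_iff_surjective.1 hL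
  obtain ⟨x, hx⟩ := hs (L p) (fun h' => hp (hL (by rw [h', map_zero]))) (by rw [h, h0, mul_zero])
  obtain ⟨y, rfl⟩ := hsur x
  apply hx
  apply mul_left_cancel₀ (show (6 : ℂ) ≠ 0 by norm_num)
  rw [C₀.T_xxy, mul_zero, ← map_smul, ← map_add, ← map_add, h, h, h]
  linear_combination c * h1 y

theorem Tri.F_three {n : ℕ} (C₀ : Tri n) (a b c : Vec n) (x y z : ℂ) :
    C₀.F (x • a + y • b + z • c) = x ^ 3 * C₀.F a + 3 * x ^ 2 * y * C₀.T b a a
      + 3 * x * y ^ 2 * C₀.T b b a + y ^ 3 * C₀.F b + 3 * x ^ 2 * z * C₀.T a a c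
      + 6 * x * y * z * C₀.T b a c + 3 * y ^ 2 * z * C₀.T b b c
      + 3 * x * z ^ 2 * C₀.T a c c + 3 * y * z ^ 2 * C₀.T b c c + z ^ 3 * C₀.F c := by
  rw [C₀.F_add_smul, C₀.F_two]
  simp only [map_add, map_smul, LinearMap.add_apply, LinearMap.smul_apply, smul_eq_mul]
  rw [C₀.swap12 a b c, C₀.rev a a b, C₀.rot a b b]
  ring

/-- The Weierstrass cubic function. -/
def weier (p r : ℂ) (x : Vec 3) : ℂ :=
  x 0 ^ 3 + p * x 0 * x 2 ^ 2 + r * x 2 ^ 3 - x 1 ^ 2 * x 2

/-- Weierstrass coordinates at a flex of a smooth plane cubic. -/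
theorem Tri.exists_weier {C₀ : Tri 3} (hs : C₀.Smooth) {v : Vec 3} (hf : FlexPt C₀.F v) :
    ∃ (B : Vec 3 →ₗ[ℂ] Vec 3) (a p r : ℂ), Function.Injective B ∧ a ≠ 0 ∧ (p ≠ 0 ∨ r ≠ 0) ∧
      B ![0, 1, 0] = v ∧ ∀ x, C₀.F (B x) = a * weier p r x := by
  obtain ⟨h0, w, hli, hw⟩ := hf
  obtain ⟨hvw, hww⟩ := (C₀.line_iff h0).1 hw
  have hv : v ≠ 0 := by simpa using hli.ne_zero 0
  obtain ⟨o', ho'⟩ := hs v hv h0
  obtain ⟨o, ho⟩ : ∃ o, C₀.T v v o = 1 := ⟨(C₀.T v v o')⁻¹ • o', by simp [ho']⟩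
  have hF0 : C₀.T v v v = 0 := h0
  rw [LinearIndependent.pair_iff] at hli
  have inj : Function.Injective (comb w v o) := comb_injective fun p q r hpqr => by
    have hr : r = 0 := by simpa [hvw, hF0, ho] using congrArg (C₀.T v v) hpqr
    subst hr
    obtain ⟨hq, hp⟩ := hli q p (by rw [add_comm]; simpa using hpqr)
    exact ⟨hp, hq, rfl⟩
  -- the tangent line is not contained in the curve
  have hw0 : C₀.F w ≠ 0 := by
    intro hFw
    obtain ⟨y, hy⟩ := exists_quad_root 1 (2 * C₀.T v w o) (C₀.T w w o) one_ne_zero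
    have key : ∀ x, C₀.T (w + y • v) (w + y • v) x = 0 := by
      intro x
      obtain ⟨t, rfl⟩ := LinearMap.injective_iff_surjective.1 inj x
      have e1 : C₀.T w v v = 0 := by rw [C₀.rot, hvw]
      have e2 : C₀.T v w v = 0 := by rw [C₀.swap23, hvw]
      have e3 : C₀.T w w v = 0 := by rw [C₀.rev, hww]
      have e4 : C₀.T w v w = 0 := by rw [C₀.swap12, hww]
      have e5 : C₀.T w w w = 0 := hFw
      simp only [comb_apply, map_add, map_smul, LinearMap.add_apply, LinearMap.smul_apply,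
        smul_eq_mul, hvw, hww, hF0, ho, e1, e2, e3, e4, e5, C₀.swap12 w v o]
      linear_combination t 2 * hy
    have hne : w + y • v ≠ 0 := fun h => by
      simpa using (hli y 1 (by rw [one_smul, add_comm]; exact h)).2
    obtain ⟨x, hx⟩ := hs _ hne (key _)
    exact hx (key x)
  -- adjust the basis
  set w₁ := w - C₀.T v w o • v with hw₁
  set o₁ := o - (C₀.T v o o / 2) • v with ho₁
  have a1 : C₀.T v v w₁ = 0 := by simp [hw₁, hvw, hF0]
  have a2 : C₀.T v w₁ w₁ = 0 := by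
    simp [hw₁, hvw, hF0, hww, C₀.swap23 v w v]
  have a3 : C₀.T v v o₁ = 1 := by simp [ho₁, ho, hF0]
  have a4 : C₀.T v w₁ o₁ = 0 := by
    simp [hw₁, ho₁, ho, hvw, hF0, C₀.swap23 v w v]
  have a5 : C₀.T v o₁ o₁ = 0 := by
    simp [ho₁, ho, hF0, C₀.swap23 v o v]; ring
  have a6 : C₀.F w₁ = C₀.F w := by
    rw [hw₁, sub_eq_add_neg, ← neg_smul, C₀.F_add_smul, h0, C₀.rev w w v, hww, C₀.rot w v v, hvw]
    ring
  set a := C₀.F w₁ with ha
  have ha0 : a ≠ 0 := by rw [a6]; exact hw0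
  set q := C₀.T w₁ w₁ o₁ / a with hq
  set o₂ := o₁ - q • w₁ with ho₂
  have b1 : C₀.T v v o₂ = 1 := by simp [ho₂, a3, a1]
  have b2 : C₀.T v w₁ o₂ = 0 := by simp [ho₂, a4, a2]
  have b3 : C₀.T v o₂ o₂ = 0 := by
    simp [ho₂, a5, a4, a2, C₀.swap23 v o₁ w₁]
  have b4 : C₀.T w₁ w₁ o₂ = 0 := by
    have : C₀.T w₁ w₁ w₁ = a := ha.symm
    simp [ho₂, this, hq, div_mul_cancel₀ _ ha0]
  set B := comb w₁ v ((-(a / 3)) • o₂) with hB
  have Binj : Function.Injective B := comb_injective fun p s r hpsr => by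
    have hr : r = 0 := by simpa [a1, hF0, b1, ha0] using congrArg (C₀.T v v) hpsr
    subst hr
    rw [zero_smul, add_zero] at hpsr
    obtain ⟨hs', hp⟩ := hli (s - p * C₀.T v w o) p (by rw [← hpsr, hw₁]; module)
    subst hp
    exact ⟨rfl, by simpa using hs', rfl⟩
  have hBF : ∀ x, C₀.F (B x) = a * weier (a * C₀.T w₁ o₂ o₂ / 3) (-(a ^ 2 * C₀.F o₂) / 27) x := by
    intro x
    rw [hB, comb_apply, smul_smul, C₀.F_three, a1, a2, b1, b2, b3, b4, h0, ← ha, weier]
    ring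
  refine ⟨B, a, _, _, Binj, ha0, ?_, ?_, hBF⟩
  · by_contra hpr
    push Not at hpr
    obtain ⟨hp, hr⟩ := hpr
    refine Tri.not_sing hs B Binj hBF (p := ![0, 0, 1]) (fun h => ?_) ?_ fun y => ?_
    · simpa using congrFun h 2
    · simp [weier, hp, hr]
    · simp only [weier, hp, hr, Pi.add_apply, Pi.smul_apply, smul_eq_mul, Matrix.cons_val]
      ring
  · simp [hB, comb_apply]

/-- Three homogeneous coordinates: two polynomials vanishing at `0` have another common zero. -/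
theorem exists_common_zero (f g : MvPolynomial (Fin 3) ℂ) (hf : eval 0 f = 0) (hg : eval 0 g = 0) :
    ∃ v : Vec 3, v ≠ 0 ∧ eval v f = 0 ∧ eval v g = 0 := by
  classical
  by_contra hne
  push Not at hne
  set I : Ideal (MvPolynomial (Fin 3) ℂ) := Ideal.span {f, g} with hI
  let φ : ℕ → (MvPolynomial (Fin 3) ℂ) →ₐ[ℂ] (MvPolynomial (Fin 3) ℂ) := fun k => aeval fun i => if i.val < k then 0 else X i
  let p : ℕ → Ideal (MvPolynomial (Fin 3) ℂ) := fun k => RingHom.ker (φ k)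
  have hp : ∀ k, (p k).IsPrime := fun k => RingHom.ker_isPrime _
  have hmono : ∀ k, p k ≤ p (k + 1) := by
    intro k x hx
    have hcomp : (φ (k + 1)).comp (φ k) = φ (k + 1) := by
      refine algHom_ext fun i => ?_
      by_cases h : i.val < k
      · simp [φ, h, le_of_lt h]
      · simp [φ, h]
    have hx' : φ k x = 0 := hx
    show φ (k + 1) x = 0
    rw [← hcomp, AlgHom.comp_apply, hx', map_zero]
  have hlt : ∀ k, k < 3 → p k < p (k + 1) := by
    intro k hk
    refine lt_of_le_of_ne (hmono k) fun h => ?_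
    have h1 : (X ⟨k, hk⟩ : (MvPolynomial (Fin 3) ℂ)) ∈ p (k + 1) := by
      simp only [p, RingHom.mem_ker, φ, aeval_X, if_pos (Nat.lt_succ_self k)]
    rw [← h] at h1
    simp only [p, RingHom.mem_ker, φ, aeval_X, if_neg (lt_irrefl k)] at h1
    exact X_ne_zero _ h1
  have hz : ∀ v : Vec 3, v ∈ zeroLocus ℂ I → v = 0 := by
    intro v hv
    by_contra h
    refine hne v h ?_ ?_
    · rw [← aeval_eq_eval]; exact hv f (Ideal.subset_span (Or.inl rfl))
    · rw [← aeval_eq_eval]; exact hv g (Ideal.subset_span (Or.inr rfl))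
  have hp3 : ∀ x : (MvPolynomial (Fin 3) ℂ), x ∈ p 3 ↔ eval 0 x = 0 := by
    intro x
    have : φ 3 x = C (eval 0 x) := by
      simp only [φ]
      induction x using MvPolynomial.induction_on with
      | C a => rw [aeval_C, eval_C]; rfl
      | add a b ha hb => rw [map_add, map_add, map_add, ha, hb]
      | mul_X a i ha =>
        rw [map_mul, map_mul, aeval_X, if_pos i.isLt, eval_X, mul_zero, Pi.zero_apply, mul_zero, map_zero]
    show φ 3 x = 0 ↔ _
    rw [this, map_eq_zero]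
  have hrad : p 3 ≤ I.radical := by
    intro x hx
    rw [← vanishingIdeal_zeroLocus_eq_radical (K := ℂ) I, mem_vanishingIdeal_iff]
    intro v hv
    rw [hz v hv, aeval_eq_eval]
    exact (hp3 x).1 hx
  have hle : I ≤ p 3 := by
    rw [hI, Ideal.span_le]
    rintro x (rfl | rfl)
    · exact (hp3 _).2 hf
    · exact (hp3 _).2 hg
  have hmin : p 3 ∈ I.minimalPrimes :=
    ⟨⟨hp 3, hle⟩, fun P hP _ => hrad.trans (hP.1.radical_le_iff.2 hP.2)⟩
  have h2 : (p 3).height ≤ 2 := by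
    refine (Ideal.height_le_spanRank_toENat_of_mem_minimalPrimes I (p 3) hmin).trans ?_
    have h := Submodule.spanRank_span_le_card (R := MvPolynomial (Fin 3) ℂ) ({f, g} : Set (MvPolynomial (Fin 3) ℂ))
    refine (OrderHomClass.mono Cardinal.toENat h).trans ?_
    have hc : Cardinal.mk ({f, g} : Set (MvPolynomial (Fin 3) ℂ)) ≤ 2 := by
      refine (Cardinal.mk_insert_le).trans ?_
      simp; norm_num
    refine (OrderHomClass.mono Cardinal.toENat hc).trans ?_
    simp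
  have := hp 0
  have := hp 1
  have := hp 2
  have := hp 3
  have s1 := Ideal.height_add_one_le_of_lt_of_isPrime (hlt 0 (by norm_num))
  have s2 := Ideal.height_add_one_le_of_lt_of_isPrime (hlt 1 (by norm_num))
  have s3 := Ideal.height_add_one_le_of_lt_of_isPrime (hlt 2 (by norm_num))
  have : (3 : ℕ∞) ≤ 2 :=
    calc (3 : ℕ∞) ≤ (p 0).height + 1 + 1 + 1 := by
          rw [add_assoc, add_assoc]; exact le_add_self
      _ ≤ (p 3).height := le_trans (add_le_add (le_trans (add_le_add s1 le_rfl) s2) le_rfl) s3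
      _ ≤ 2 := h2
  exact absurd this (by norm_num)

/-- Every smooth plane cubic has a flex. -/
theorem Tri.exists_flex {C₀ : Tri 3} (hs : C₀.Smooth) (f : MvPolynomial (Fin 3) ℂ)
    (hF : ∀ v, eval v f = C₀.F v) : ∃ v, v ≠ 0 ∧ FlexPt C₀.F v := by
  classical
  let M : Matrix (Fin 3) (Fin 3) (MvPolynomial (Fin 3) ℂ) :=
    Matrix.of fun i j => ∑ k, C (C₀.T (Pi.single k 1) (Pi.single i 1) (Pi.single j 1)) * X k
  have hexp : ∀ v : Vec 3, v = ∑ k, v k • Pi.single k 1 := fun v => pi_eq_sum_univ' v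
  have hM : ∀ v, (eval v).mapMatrix M =
      Matrix.of fun i j => C₀.T v (Pi.single i 1) (Pi.single j 1) := by
    intro v
    refine Matrix.ext fun i j => ?_
    conv_rhs => rw [Matrix.of_apply, hexp v]
    simp [M, map_sum, LinearMap.sum_apply, mul_comm]
  obtain ⟨v, hv, h0, hdet⟩ := exists_common_zero f M.det (by rw [hF]; simp [Tri.F]) (by
    rw [RingHom.map_det, hM]
    refine Matrix.det_eq_zero_of_row_eq_zero 0 fun j => by simp)
  rw [RingHom.map_det, hM] at hdet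
  rw [hF] at h0
  obtain ⟨u, hu, hMu⟩ := Matrix.exists_mulVec_eq_zero_iff.2 hdet
  have hTu : ∀ x, C₀.T v x u = 0 := by
    intro x
    have h2 : ∀ i, C₀.T v (Pi.single i 1) u = 0 := by
      intro i
      rw [hexp u]
      simpa [map_sum, Matrix.mulVec, dotProduct, mul_comm] using congrFun hMu i
    rw [hexp x]
    simp [map_sum, LinearMap.sum_apply, h2]
  refine ⟨v, hv, h0, u, ?_, (C₀.line_iff h0).2 ⟨hTu v, hTu u⟩⟩
  rw [LinearIndependent.pair_iff]
  intro s t hst
  by_cases ht : t = 0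
  · subst ht
    rw [zero_smul, add_zero, smul_eq_zero] at hst
    exact ⟨hst.resolve_right hv, rfl⟩
  exfalso
  obtain ⟨x, hx⟩ := hs v hv h0
  apply hx
  by_cases hs0 : s = 0
  · subst hs0
    simp [ht, hu] at hst
  have hu' : v = (-(t / s)) • u := by
    have h1 : s • (v - (-(t / s)) • u) = 0 := by
      rw [smul_sub, smul_smul, show s * -(t / s) = -t by field_simp, neg_smul, sub_neg_eq_add, hst]
    exact sub_eq_zero.1 ((smul_eq_zero.1 h1).resolve_left hs0)
  rw [C₀.swap23]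
  conv_lhs => arg 2; rw [hu']
  simp [hTu]

end Groth.Agent.Cubics
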