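import Groth.Agent.Cubics.Sym

/-! Transporting statements to the Hesse normal form. -/

namespace Groth.Agent.Cubics

open MvPolynomial

theorem hesse_setup (f : MvPolynomial (Fin 3) ℂ) (hf : f.IsHomogeneous 3)
    (hsm : ∀ v : Fin 3 → ℂ, v ≠ 0 → eval v f = 0 → ∃ i : Fin 3, eval v (pderiv i f) ≠ 0) :
    ∃ (A : Matrix (Fin 3) (Fin 3) ℂ) (k c : ℂ), IsUnit A.det ∧ k ^ 3 ≠ 1 ∧ c ≠ 0 ∧
      ∀ x, eval (A.mulVec x) f = c * hes k x := by
  obtain ⟨C₀, hF, hD⟩ := exists_tri f hf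
  obtain ⟨L, k, c, hL, hk, hc, h⟩ :=
    Tri.exists_hesse (Tri.smooth_of f C₀ hF hD hsm) f hF
  refine ⟨LinearMap.toMatrix' L, k, c, ?_, hk, hc, fun x => ?_⟩
  · refine (Matrix.isUnit_iff_isUnit_det _).1 (Matrix.mulVec_injective_iff_isUnit.1 ?_)
    intro x y hxy
    simp only [LinearMap.toMatrix'_mulVec] at hxy
    exact hL hxy
  · rw [LinearMap.toMatrix'_mulVec, hF, h]

theorem inv_mulVec_cancel {A : Matrix (Fin 3) (Fin 3) ℂ} (hA : IsUnit A.det) (x : Vec 3) :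
    A.mulVec (A⁻¹.mulVec x) = x := by
  rw [Matrix.mulVec_mulVec, Matrix.mul_nonsing_inv A hA, Matrix.one_mulVec]

theorem inv_mulVec_cancel' {A : Matrix (Fin 3) (Fin 3) ℂ} (hA : IsUnit A.det) (x : Vec 3) :
    A⁻¹.mulVec (A.mulVec x) = x := by
  rw [Matrix.mulVec_mulVec, Matrix.nonsing_inv_mul A hA, Matrix.one_mulVec]

/-- Flexes pull back to the nine base points. -/
theorem ninePt_of_flex {f : MvPolynomial (Fin 3) ℂ} {A : Matrix (Fin 3) (Fin 3) ℂ} {k c : ℂ}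
    (hA : IsUnit A.det) (hk : k ^ 3 ≠ 1) (hc : c ≠ 0)
    (h : ∀ x, eval (A.mulVec x) f = c * hes k x) {v : Vec 3}
    (hv : FlexPt (fun x => eval x f) v) : NinePt (A⁻¹.mulVec v) := by
  refine flex_nine hk (hv.map (Matrix.toLin' A⁻¹) ?_ c⁻¹ fun x => ?_)
  · intro x y hxy
    simp only [Matrix.toLin'_apply] at hxy
    simpa [inv_mulVec_cancel hA] using congrArg A.mulVec hxy
  · have := h (A⁻¹.mulVec x)
    rw [inv_mulVec_cancel hA] at this
    rw [Matrix.toLin'_apply, this, ← mul_assoc, inv_mul_cancel₀ hc, one_mul]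

theorem flex_of_ninePt {f : MvPolynomial (Fin 3) ℂ} {A : Matrix (Fin 3) (Fin 3) ℂ} {k c : ℂ}
    (hA : IsUnit A.det) (h : ∀ x, eval (A.mulVec x) f = c * hes k x) {p : Vec 3} (hp : p ≠ 0)
    (hn : NinePt p) : FlexPt (fun x => eval x f) (A.mulVec p) ∧ A.mulVec p ≠ 0 := by
  have hinj : Function.Injective A.mulVec := mulVec_injective_of_det hA.ne_zero
  refine ⟨?_, fun h' => hp (hinj (by rw [h', Matrix.mulVec_zero]))⟩
  have := (nine_flex k hp hn).map (F := fun x => eval x f) (Matrix.toLin' A)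
    (fun x y hxy => hinj (by simpa only [Matrix.toLin'_apply] using hxy)) c
    (fun x => by rw [Matrix.toLin'_apply]; exact h x)
  simpa only [Matrix.toLin'_apply] using this

theorem three_roots {a b c : ℂ} (h : ∀ γ : ℂ, γ ^ 3 = 1 → a + b * γ + c * γ ^ 2 = 0) :
    a = 0 ∧ b = 0 ∧ c = 0 := by
  obtain ⟨ω, hω⟩ := exists_omega
  have h3 : ω ^ 3 = 1 := by linear_combination (ω - 1) * hω
  have e0 := h 1 (by norm_num)
  have e1 := h ω h3
  have e2 := h (ω ^ 2) (by linear_combination (ω ^ 3 + 1) * h3)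
  refine ⟨?_, ?_, ?_⟩
  · linear_combination (1/3 : ℂ) * (e0 + e1 + e2 - (b + c) * hω - c * ω * h3)
  · linear_combination (1/3 : ℂ) * (e0 + ω ^ 2 * e1 + ω * e2 - a * hω - 2 * b * h3
      - c * hω - c * (ω + ω ^ 2) * h3)
  · linear_combination (1/3 : ℂ) * (e0 + ω * e1 + ω ^ 2 * e2 - a * hω - b * hω - b * ω * h3
      - c * (ω ^ 3 + 2) * h3)

/-- A matrix fixing the nine base points projectively is a scalar. -/
theorem scalar_of_fix (M : Matrix (Fin 3) (Fin 3) ℂ)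
    (h : ∀ p, p ≠ 0 → NinePt p → ∃ d : ℂ, M.mulVec p = d • p) :
    ∃ c : ℂ, M = c • (1 : Matrix (Fin 3) (Fin 3) ℂ) := by
  have hne : ∀ γ : ℂ, γ ^ 3 = 1 →
      (∃ d : ℂ, M.mulVec ![0, 1, -γ] = d • ![0, 1, -γ]) ∧
      (∃ d : ℂ, M.mulVec ![-γ, 0, 1] = d • ![-γ, 0, 1]) ∧
      ∃ d : ℂ, M.mulVec ![1, -γ, 0] = d • ![1, -γ, 0] := by
    intro γ hγ
    refine ⟨h _ (fun h => by simpa using congrFun h 1) ⟨γ, 1, hγ, Or.inl (by simp)⟩,
      h _ (fun h => by simpa using congrFun h 2) ⟨γ, 1, hγ, Or.inr (Or.inl (by simp))⟩,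
      h _ (fun h => by simpa using congrFun h 0) ⟨γ, 1, hγ, Or.inr (Or.inr (by simp))⟩⟩
  have comp : ∀ {p : Vec 3} {d : ℂ}, M.mulVec p = d • p → ∀ i,
      M i 0 * p 0 + M i 1 * p 1 + M i 2 * p 2 = d * p i := by
    intro p d hd i
    simpa [Matrix.mulVec, dotProduct, Fin.sum_univ_three] using congrFun hd i
  have A1 : ∀ γ : ℂ, γ ^ 3 = 1 → M 0 1 + -M 0 2 * γ + 0 * γ ^ 2 = 0 ∧
      M 2 1 + (M 1 1 - M 2 2) * γ + -M 1 2 * γ ^ 2 = 0 := by
    intro γ hγ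
    obtain ⟨d, hd⟩ := (hne γ hγ).1
    have r0 := comp hd 0; have r1 := comp hd 1; have r2 := comp hd 2
    simp at r0 r1 r2
    exact ⟨by linear_combination r0, by linear_combination r2 + γ * r1⟩
  have A2 : ∀ γ : ℂ, γ ^ 3 = 1 →
      M 0 2 + (M 2 2 - M 0 0) * γ + -M 2 0 * γ ^ 2 = 0 ∧ M 1 2 + -M 1 0 * γ + 0 * γ ^ 2 = 0 := by
    intro γ hγ
    obtain ⟨d, hd⟩ := (hne γ hγ).2.1
    have r0 := comp hd 0; have r1 := comp hd 1; have r2 := comp hd 2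
    simp at r0 r1 r2
    exact ⟨by linear_combination r0 + γ * r2, by linear_combination r1⟩
  obtain ⟨h01, -, -⟩ := three_roots fun γ hγ => (A1 γ hγ).1
  obtain ⟨h21, h11, h12⟩ := three_roots fun γ hγ => (A1 γ hγ).2
  obtain ⟨h02, h22, h20⟩ := three_roots fun γ hγ => (A2 γ hγ).1
  obtain ⟨-, h10, -⟩ := three_roots fun γ hγ => (A2 γ hγ).2
  rw [neg_eq_zero] at h12 h20 h10
  refine ⟨M 0 0, ?_⟩
  ext i j
  fin_cases i <;> fin_cases j <;> simp [h01, h02, h10, h12, h20, h21]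
  · linear_combination h11 + h22
  · linear_combination h22

end Groth.Agent.Cubics
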