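import Groth.Agent.Cubics.TPoints

/-!
# The first polar on a tangent plane
-/

namespace Groth.Agent.CubicFive

open Groth.Agent.CubicODP

variable {K : Type*} [Field K] [CharZero K] [IsAlgClosed K]

/-- The first polar meets the tangent plane in two lines, containing all lines of the surface through the point. -/
theorem polar_inter_tangent (F : MvPolynomial (Fin 4) K) (hF : F.IsHomogeneous 3) (a : Fin 4 → K) (ha : a ≠ 0)
    (hFa : MvPolynomial.eval a F = 0) (hsm : ∃ i : Fin 4, MvPolynomial.eval a (MvPolynomial.pderiv i F) ≠ 0)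
    (hT : ¬ ∃ L₁ L₂ L₃ : MvPolynomial (Fin 4) K, L₁.IsHomogeneous 1 ∧ L₂.IsHomogeneous 1 ∧ L₃.IsHomogeneous 1 ∧
      F - L₁ * L₂ * L₃ ∈ Ideal.span {∑ i : Fin 4,
        MvPolynomial.C (MvPolynomial.eval a (MvPolynomial.pderiv i F)) * MvPolynomial.X i})
    (P : MvPolynomial (Fin 4) K) (hP : P = ∑ i : Fin 4, a i • MvPolynomial.pderiv i F)
    (H : Submodule K (Fin 4 → K))
    (hH : ∀ x : Fin 4 → K, x ∈ H ↔ MvPolynomial.eval x (∑ i : Fin 4,
      MvPolynomial.C (MvPolynomial.eval a (MvPolynomial.pderiv i F)) * MvPolynomial.X i) = 0) :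
    (∃ U₁ U₂ : Submodule K (Fin 4 → K), Module.finrank K ↥U₁ = 2 ∧ Module.finrank K ↥U₂ = 2 ∧ a ∈ U₁ ∧ a ∈ U₂ ∧
        U₁ ≤ H ∧ U₂ ≤ H ∧ {x : Fin 4 → K | x ∈ H ∧ MvPolynomial.eval x P = 0} = (U₁ : Set (Fin 4 → K)) ∪ (U₂ : Set (Fin 4 → K))) ∧
      ∀ U : Submodule K (Fin 4 → K), a ∈ U → Module.finrank K ↥U = 2 → (∀ u ∈ U, MvPolynomial.eval u F = 0) →
        U ≤ H ∧ ∀ u ∈ U, MvPolynomial.eval u P = 0 := by
  classical
  obtain ⟨C₀, hC, hD⟩ := exists_tri F hF
  have h0 : C₀.T a a a = 0 := by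
    have := hC a
    rw [hFa] at this
    exact this.symm
  obtain ⟨i₀, hi₀⟩ := hsm
  set e : Fin 4 → K := Pi.single i₀ 1
  have he : C₀.T a a e ≠ 0 := fun h => hi₀ (by rw [hD, h, mul_zero])
  have hH' : ∀ x, x ∈ H ↔ C₀.T a a x = 0 := fun x => by
    rw [hH, map_sum, show (∑ i : Fin 4, MvPolynomial.eval x (MvPolynomial.C (MvPolynomial.eval a
      (MvPolynomial.pderiv i F)) * MvPolynomial.X i)) = 3 * C₀.T a a x from by
      rw [← sum_single (C₀.T a a) x, Finset.mul_sum]
      refine Finset.sum_congr rfl fun i _ => ?_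
      rw [map_mul, MvPolynomial.eval_C, MvPolynomial.eval_X, hD, smul_eq_mul]
      ring]
    simp
  have hP' : ∀ x, MvPolynomial.eval x P = 3 * C₀.T a x x := fun x => by
    rw [hP, map_sum, show C₀.T a x x = C₀.T x x a from C₀.rev _ _ _, ← sum_single (C₀.T x x) a, Finset.mul_sum]
    refine Finset.sum_congr rfl fun i _ => ?_
    rw [MvPolynomial.smul_eval, hD, smul_eq_mul]
    ring
  refine ⟨?_, fun U haU _ hU => ?_⟩
  swap
  · have key : ∀ u ∈ U, C₀.T a a u = 0 ∧ C₀.T a u u = 0 := fun u hu => by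
      have h1 := hU _ (U.add_mem hu (U.smul_mem (1 : K) haU))
      have h2 := hU _ (U.add_mem hu (U.smul_mem (-1 : K) haU))
      have h3 := hU u hu
      rw [hC, Tri.F_add_smul, C₀.rev u u a, C₀.rev u a a, show C₀.F a = 0 from h0] at h1 h2
      rw [hC] at h3
      exact ⟨by linear_combination (h1 + h2 - 2 * h3) / 6, by linear_combination (h1 - h2) / 6⟩
    exact ⟨fun u hu => (hH' u).2 (key u hu).1, fun u hu => by rw [hP', (key u hu).2, mul_zero]⟩
  have hli2 : LinearIndependent K ![a, e] := by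
    refine LinearIndependent.pair_iff.2 fun r s h => ?_
    have h' := congrArg (C₀.T a a) h
    simp [h0, he] at h'
    rw [h', zero_smul, add_zero] at h
    exact ⟨(smul_eq_zero.1 h).resolve_right ha, h'⟩
  obtain ⟨g₁, g₂, hg⟩ := exists_completion hli2
  set e₁ := g₁ + (-(C₀.T a a g₁) / C₀.T a a e) • e with he₁
  set e₂ := g₂ + (-(C₀.T a a g₂) / C₀.T a a e) • e with he₂
  have h1 : C₀.T a a e₁ = 0 := by simp [he₁, he]
  have h2 : C₀.T a a e₂ = 0 := by simp [he₂, he]
  have hli : LinearIndependent K ![a, e₁, e₂, e] := by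
    refine Fintype.linearIndependent_iff.2 fun c hc => ?_
    have := Fintype.linearIndependent_iff.1 hg ![c 0,
      c 3 + c 1 * (-(C₀.T a a g₁) / C₀.T a a e) + c 2 * (-(C₀.T a a g₂) / C₀.T a a e), c 1, c 2] (by
        rw [← hc, he₁, he₂]
        simp only [Fin.sum_univ_four, Matrix.cons_val_zero, Matrix.cons_val_one, Matrix.cons_val]
        module)
    have i1 : c 1 = 0 := this 2
    have i2 : c 2 = 0 := this 3
    intro i
    fin_cases i
    · exact this 0
    · exact i1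
    · exact i2
    · simpa [i1, i2] using this 1
  let bas : Module.Basis (Fin 4) K (Fin 4 → K) := basisOfLinearIndependentOfCardEqFinrank hli (by simp)
  have hb : ∀ x, x = bas.coord 0 x • a + bas.coord 1 x • e₁ + bas.coord 2 x • e₂ + bas.coord 3 x • e := fun x => by
    conv_lhs => rw [← bas.sum_repr x, Fin.sum_univ_four]
    simp only [bas, coe_basisOfLinearIndependentOfCardEqFinrank]
    rfl
  obtain ⟨a₁, b₁, a₂, b₂, hf⟩ := binary_quadratic (C₀.T a e₁ e₁) (2 * C₀.T a e₁ e₂) (C₀.T a e₂ e₂)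
  have hne : (a₁, b₁) ≠ (0, 0) ∧ (a₂, b₂) ≠ (0, 0) := by
    rw [← not_or]
    intro h
    have hz : ∀ u v : K, C₀.T a e₁ e₁ * u ^ 2 + 2 * C₀.T a e₁ e₂ * u * v + C₀.T a e₂ e₂ * v ^ 2 = 0 := by
      intro u v
      rw [hf]
      rcases h with h | h <;> simp only [Prod.mk.injEq] at h <;> rw [h.1, h.2] <;> ring
    obtain ⟨p₁, q₁, p₂, q₂, p₃, q₃, hf'⟩ := binary_cubic (C₀.F e₁) (3 * C₀.T e₁ e₁ e₂) (3 * C₀.T e₁ e₂ e₂) (C₀.F e₂)
    refine not_split F C₀ hC hD a e₁ e₂ e hli h0 h1 h2 he hT ![0, p₁, q₁] ![0, p₂, q₂] ![0, p₃, q₃] fun z u v => ?_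
    rw [section_eq C₀ h0 h1 h2]
    simp only [Matrix.cons_val_zero, Matrix.cons_val_one, Matrix.cons_val]
    linear_combination hf' u v + 3 * z * hz u v
  have hQ : ∀ x, x ∈ H → (MvPolynomial.eval x P = 0 ↔
      a₁ * bas.coord 1 x + b₁ * bas.coord 2 x = 0 ∨ a₂ * bas.coord 1 x + b₂ * bas.coord 2 x = 0) := by
    intro x hx
    have h3 : bas.coord 3 x = 0 := by
      have := (hH' x).1 hx
      rw [hb x] at this
      simpa [h0, h1, h2, he] using this
    rw [hP', show C₀.T a x x = (a₁ * bas.coord 1 x + b₁ * bas.coord 2 x) * (a₂ * bas.coord 1 x + b₂ * bas.coord 2 x) by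
      conv_lhs => rw [hb x, h3]
      rw [← hf]
      simp only [zero_smul, add_zero, map_add, map_smul, LinearMap.add_apply, LinearMap.smul_apply, smul_eq_mul,
        h0, h1, h2, C₀.swap23 a _ a, C₀.swap23 a e₂ e₁]
      ring]
    simp
  let U : K → K → Submodule K (Fin 4 → K) := fun p q => Submodule.span K (Set.range ![a, q • e₁ + (-p) • e₂])
  have hU : ∀ p q : K, (p, q) ≠ (0, 0) → Module.finrank K (U p q) = 2 ∧ a ∈ U p q ∧ U p q ≤ H ∧
      ∀ x ∈ H, x ∈ U p q ↔ p * bas.coord 1 x + q * bas.coord 2 x = 0 := by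
    intro p q hpq
    have li : LinearIndependent K ![a, q • e₁ + (-p) • e₂] := by
      refine LinearIndependent.pair_iff.2 fun r s h => ?_
      have := Fintype.linearIndependent_iff.1 hli ![r, s * q, s * (-p), 0] (by
        rw [← h]
        simp only [Fin.sum_univ_four, Matrix.cons_val_zero, Matrix.cons_val_one, Matrix.cons_val]
        module)
      refine ⟨this 0, ?_⟩
      by_contra hs
      exact hpq (Prod.ext (neg_eq_zero.1 ((mul_eq_zero.1 (this 2)).resolve_left hs))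
        ((mul_eq_zero.1 (this 1)).resolve_left hs))
    refine ⟨by rw [finrank_span_eq_card li]; rfl, Submodule.subset_span ⟨0, rfl⟩, ?_, fun x hx => ?_⟩
    · refine Submodule.span_le.2 (Set.range_subset_iff.2 fun i => ?_)
      fin_cases i
      · exact (hH' a).2 h0
      · exact (hH' _).2 (by simp [h1, h2])
    have h3 : bas.coord 3 x = 0 := by
      have := (hH' x).1 hx
      rw [hb x] at this
      simpa [h0, h1, h2, he] using this
    rw [Submodule.mem_span_range_iff_exists_fun]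
    constructor
    · rintro ⟨c, hc⟩
      rw [Fin.sum_univ_two] at hc
      simp only [Matrix.cons_val_zero, Matrix.cons_val_one] at hc
      have hbe : ∀ i, bas i = ![a, e₁, e₂, e] i :=
        fun i => congrFun (coe_basisOfLinearIndependentOfCardEqFinrank _ _) i
      rw [← hc, show a = bas 0 from (hbe 0).symm, show e₁ = bas 1 from (hbe 1).symm,
        show e₂ = bas 2 from (hbe 2).symm]
      simp [Module.Basis.coord_apply]
      ring
    · intro h
      obtain ⟨m, hm1, hm2⟩ : ∃ m, m * q = bas.coord 1 x ∧ m * (-p) = bas.coord 2 x := by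
        by_cases hq : q = 0
        · have hp : p ≠ 0 := fun hp => hpq (by rw [hp, hq])
          refine ⟨-bas.coord 2 x / p, ?_, by field_simp⟩
          rw [hq, zero_mul, add_zero] at h
          rw [hq, mul_zero, (mul_eq_zero.1 h).resolve_left hp]
        · exact ⟨bas.coord 1 x / q, by field_simp, by field_simp; linear_combination -h⟩
      refine ⟨![bas.coord 0 x, m], ?_⟩
      conv_rhs => rw [hb x, h3, ← hm1, ← hm2]
      simp only [Fin.sum_univ_two, Matrix.cons_val_zero, Matrix.cons_val_one]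
      module
  obtain ⟨r1, m1, s1, t1⟩ := hU a₁ b₁ hne.1
  obtain ⟨r2, m2, s2, t2⟩ := hU a₂ b₂ hne.2
  refine ⟨U a₁ b₁, U a₂ b₂, r1, r2, m1, m2, s1, s2, Set.ext fun x => ?_⟩
  constructor
  · rintro ⟨hx, hxP⟩
    exact ((hQ x hx).1 hxP).imp (t1 x hx).2 (t2 x hx).2
  · rintro (hx | hx)
    · exact ⟨s1 hx, (hQ x (s1 hx)).2 (Or.inl ((t1 x (s1 hx)).1 hx))⟩
    · exact ⟨s2 hx, (hQ x (s2 hx)).2 (Or.inr ((t2 x (s2 hx)).1 hx))⟩

end Groth.Agent.CubicFive
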