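import Groth.Agent.Cubics.DescentApp

/-!
# T-points of a cubic surface
-/

namespace Groth.Agent.CubicFive

open Groth.Agent.CubicODP Polynomial

variable {K : Type*} [Field K] [CharZero K]

theorem inv_of_split {A B D c₃ c₂ c₁ c₀ α β : K} (h₃ : c₃ = α * A) (h₂ : c₂ = 2 * α * B + β * A)
    (h₁ : c₁ = α * D + 2 * β * B) (h₀ : c₀ = β * D) : inv1 A B D c₃ c₂ c₁ = 0 ∧ inv2 A B D c₃ c₂ c₀ = 0 := by
  subst h₃ h₂ h₁ h₀
  constructor <;> simp only [inv1, inv2] <;> ring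

/-- The invariants vanish when the tangent section is a product of linear forms. -/
theorem inv_of_product (C₀ : Tri K 4) (p e₁ e₂ : Fin 4 → K) (h0 : C₀.T p p p = 0) (h1 : C₀.T p p e₁ = 0)
    (h2 : C₀.T p p e₂ = 0) (a b c : Fin 3 → K)
    (h : ∀ X U V : K, C₀.F ((U • e₁ + V • e₂) + X • p) =
      (a 0 * X + b 0 * U + c 0 * V) * (a 1 * X + b 1 * U + c 1 * V) * (a 2 * X + b 2 * U + c 2 * V)) :
    inv1 (C₀.T p e₁ e₁) (C₀.T p e₁ e₂) (C₀.T p e₂ e₂) (C₀.F e₁) (3 * C₀.T e₁ e₁ e₂) (3 * C₀.T e₁ e₂ e₂) = 0 ∧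
      inv2 (C₀.T p e₁ e₁) (C₀.T p e₁ e₂) (C₀.T p e₂ e₂) (C₀.F e₁) (3 * C₀.T e₁ e₁ e₂) (C₀.F e₂) = 0 := by
  set A := C₀.T p e₁ e₁
  set B := C₀.T p e₁ e₂
  set D := C₀.T p e₂ e₂
  have hx : ∀ X U V : K, 3 * X * (A * U ^ 2 + 2 * B * U * V + D * V ^ 2) +
      (C₀.F e₁ * U ^ 3 + 3 * C₀.T e₁ e₁ e₂ * U ^ 2 * V + 3 * C₀.T e₁ e₂ e₂ * U * V ^ 2 + C₀.F e₂ * V ^ 3) =
      (a 0 * X + b 0 * U + c 0 * V) * (a 1 * X + b 1 * U + c 1 * V) * (a 2 * X + b 2 * U + c 2 * V) := by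
    intro X U V
    rw [← h, Tri.F_add_smul, Tri.F_two, show C₀.F p = 0 from h0]
    simp only [map_add, map_smul, LinearMap.add_apply, LinearMap.smul_apply, smul_eq_mul, C₀.rev _ p p, h1, h2,
      C₀.rev e₁ e₁ p, C₀.rev e₂ e₂ p, C₀.rev e₁ e₂ p, C₀.rev e₂ e₁ p, C₀.swap23 p e₂ e₁, A, B, D]
    ring
  have hA : 3 * A = a 0 * b 1 * b 2 + b 0 * a 1 * b 2 + b 0 * b 1 * a 2 + a 0 * a 1 * a 2 := by
    linear_combination (hx 1 1 0 - hx (-1) 1 0) / 2
  have hD : 3 * D = a 0 * c 1 * c 2 + c 0 * a 1 * c 2 + c 0 * c 1 * a 2 + a 0 * a 1 * a 2 := by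
    linear_combination (hx 1 0 1 - hx (-1) 0 1) / 2
  have hp : a 0 * a 1 * a 2 = 0 := by linear_combination - hx 1 0 0
  have hb2 : a 0 * a 1 * b 2 + a 0 * b 1 * a 2 + b 0 * a 1 * a 2 = 0 := by
    linear_combination - (hx 1 1 0 + hx (-1) 1 0) / 2 + hx 0 1 0
  have hc2 : a 0 * a 1 * c 2 + a 0 * c 1 * a 2 + c 0 * a 1 * a 2 = 0 := by
    linear_combination - (hx 1 0 1 + hx (-1) 0 1) / 2 + hx 0 0 1
  have hB : 6 * B = a 0 * (b 1 * c 2 + c 1 * b 2) + a 1 * (b 0 * c 2 + c 0 * b 2) + a 2 * (b 0 * c 1 + c 0 * b 1) := by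
    linear_combination (hx 1 1 1 - hx (-1) 1 1) / 2 - hA - hD - hp
  have h3 : C₀.F e₁ = b 0 * b 1 * b 2 := by linear_combination hx 0 1 0
  have h0' : C₀.F e₂ = c 0 * c 1 * c 2 := by linear_combination hx 0 0 1
  have h21 : 3 * C₀.T e₁ e₁ e₂ = b 0 * b 1 * c 2 + b 0 * c 1 * b 2 + c 0 * b 1 * b 2 := by
    linear_combination (hx 0 1 1 - hx 0 1 (-1)) / 2 - hx 0 0 1
  have h12 : 3 * C₀.T e₁ e₂ e₂ = b 0 * c 1 * c 2 + c 0 * b 1 * c 2 + c 0 * c 1 * b 2 := by
    linear_combination (hx 0 1 1 + hx 0 1 (-1)) / 2 - hx 0 1 0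
  have eA : A = (a 0 * b 1 * b 2 + b 0 * a 1 * b 2 + b 0 * b 1 * a 2) / 3 := by
    linear_combination (hA + hp) / 3
  have eD : D = (a 0 * c 1 * c 2 + c 0 * a 1 * c 2 + c 0 * c 1 * a 2) / 3 := by
    linear_combination (hD + hp) / 3
  have eB : B = (a 0 * (b 1 * c 2 + c 1 * b 2) + a 1 * (b 0 * c 2 + c 0 * b 2) + a 2 * (b 0 * c 1 + c 0 * b 1)) / 6 := by
    linear_combination hB / 6
  rw [eA, eB, eD, h3, h21, h12, h0']
  rcases mul_eq_zero.1 hp with hp | hp
  · rcases mul_eq_zero.1 hp with hp | hp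
    · rw [hp] at hb2 hc2 ⊢
      by_cases h1' : a 1 = 0
      · rw [h1']; constructor <;> simp only [inv1, inv2] <;> ring
      by_cases h2' : a 2 = 0
      · rw [h2']; constructor <;> simp only [inv1, inv2] <;> ring
      have e1 : b 0 = 0 := by simpa [h1', h2'] using hb2
      have e2 : c 0 = 0 := by simpa [h1', h2'] using hc2
      rw [e1, e2]; constructor <;> simp only [inv1, inv2] <;> ring
    · rw [hp] at hb2 hc2 ⊢
      by_cases h1' : a 0 = 0
      · rw [h1']; constructor <;> simp only [inv1, inv2] <;> ring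
      by_cases h2' : a 2 = 0
      · rw [h2']; constructor <;> simp only [inv1, inv2] <;> ring
      have e1 : b 1 = 0 := by simpa [h1', h2'] using hb2
      have e2 : c 1 = 0 := by simpa [h1', h2'] using hc2
      rw [e1, e2]; constructor <;> simp only [inv1, inv2] <;> ring
  · rw [hp] at hb2 hc2 ⊢
    by_cases h1' : a 0 = 0
    · rw [h1']; constructor <;> simp only [inv1, inv2] <;> ring
    by_cases h2' : a 1 = 0
    · rw [h2']; constructor <;> simp only [inv1, inv2] <;> ring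
    have e1 : b 2 = 0 := by simpa [h1', h2'] using hb2
    have e2 : c 2 = 0 := by simpa [h1', h2'] using hc2
    rw [e1, e2]; constructor <;> simp only [inv1, inv2] <;> ring

/-- A congruence modulo the tangent form gives a product on the tangent plane. -/
theorem inv_of_tp (F : MvPolynomial (Fin 4) K) (C₀ : Tri K 4) (hC : ∀ v, MvPolynomial.eval v F = C₀.F v)
    (hD : ∀ v i, MvPolynomial.eval v (MvPolynomial.pderiv i F) = 3 * C₀.T v v (Pi.single i 1))
    (p e₁ e₂ : Fin 4 → K) (h0 : C₀.T p p p = 0) (h1 : C₀.T p p e₁ = 0) (h2 : C₀.T p p e₂ = 0)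
    (htp : ∃ L₁ L₂ L₃ : MvPolynomial (Fin 4) K, L₁.IsHomogeneous 1 ∧ L₂.IsHomogeneous 1 ∧ L₃.IsHomogeneous 1 ∧
        F - L₁ * L₂ * L₃ ∈ Ideal.span {∑ i : Fin 4,
          MvPolynomial.C (MvPolynomial.eval p (MvPolynomial.pderiv i F)) * MvPolynomial.X i}) :
    inv1 (C₀.T p e₁ e₁) (C₀.T p e₁ e₂) (C₀.T p e₂ e₂) (C₀.F e₁) (3 * C₀.T e₁ e₁ e₂) (3 * C₀.T e₁ e₂ e₂) = 0 ∧
      inv2 (C₀.T p e₁ e₁) (C₀.T p e₁ e₂) (C₀.T p e₂ e₂) (C₀.F e₁) (3 * C₀.T e₁ e₁ e₂) (C₀.F e₂) = 0 := by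
  obtain ⟨L₁, L₂, L₃, hL₁, hL₂, hL₃, hmem⟩ := htp
  obtain ⟨g, hg⟩ := Ideal.mem_span_singleton'.1 hmem
  have hl : ∀ x, C₀.T p p x = 0 → MvPolynomial.eval x (∑ i : Fin 4,
      MvPolynomial.C (MvPolynomial.eval p (MvPolynomial.pderiv i F)) * MvPolynomial.X i) = 0 := fun x hx => by
    rw [map_sum, ← mul_zero (3 : K), ← hx, ← sum_single (C₀.T p p) x, Finset.mul_sum]
    refine Finset.sum_congr rfl fun i _ => ?_
    rw [map_mul, MvPolynomial.eval_C, MvPolynomial.eval_X, hD, smul_eq_mul]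
    ring
  have lin1 : ∀ L : MvPolynomial (Fin 4) K, L.IsHomogeneous 1 → ∀ (X U V : K),
      MvPolynomial.eval ((U • e₁ + V • e₂) + X • p) L =
        MvPolynomial.eval p L * X + MvPolynomial.eval e₁ L * U + MvPolynomial.eval e₂ L * V := by
    intro L hL X U V
    obtain ⟨c, rfl⟩ : ∃ c, L = lin c := ⟨fun i => L.coeff (Finsupp.single i 1), by
      apply MvPolynomial.ext
      intro m
      rw [lin, MvPolynomial.coeff_sum]
      simp only [MvPolynomial.coeff_C_mul, MvPolynomial.coeff_X']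
      by_cases hm : ∃ i, m = Finsupp.single i 1
      · obtain ⟨i, rfl⟩ := hm
        rw [Finset.sum_eq_single i]
        · simp
        · intro j _ hj
          rw [if_neg (fun h => hj (Finsupp.single_left_injective one_ne_zero h)), mul_zero]
        · simp
      · rw [Finset.sum_eq_zero fun i _ => by rw [if_neg (fun h => hm ⟨i, h.symm⟩), mul_zero]]
        refine hL.coeff_eq_zero fun hdeg => hm ?_
        have : m ∈ Set.range fun a : Fin 4 => Finsupp.single a 1 := by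
          rw [Finsupp.range_single_one]; exact hdeg
        exact this.imp fun i h => h.symm⟩
    simp only [eval_lin, Fin.sum_univ_four, Pi.add_apply, Pi.smul_apply, smul_eq_mul]
    ring
  refine inv_of_product C₀ p e₁ e₂ h0 h1 h2 ![MvPolynomial.eval p L₁, MvPolynomial.eval p L₂, MvPolynomial.eval p L₃]
    ![MvPolynomial.eval e₁ L₁, MvPolynomial.eval e₁ L₂, MvPolynomial.eval e₁ L₃]
    ![MvPolynomial.eval e₂ L₁, MvPolynomial.eval e₂ L₂, MvPolynomial.eval e₂ L₃] fun X U V => ?_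
  have := congrArg (MvPolynomial.eval ((U • e₁ + V • e₂) + X • p)) hg
  rw [map_mul, hl _ (by simp [h0, h1, h2]), mul_zero, map_sub, map_mul, map_mul, hC] at this
  simp only [Matrix.cons_val_zero, Matrix.cons_val_one, Matrix.cons_val, ← lin1 L₁ hL₁, ← lin1 L₂ hL₂,
    ← lin1 L₃ hL₃]
  linear_combination -this

set_option maxHeartbeats 400000 in
/-- The tangent section at a point which is not a T-point has no factorisation. -/
theorem not_split (F : MvPolynomial (Fin 4) K) (C₀ : Tri K 4) (hC : ∀ v, MvPolynomial.eval v F = C₀.F v)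
    (hD : ∀ v i, MvPolynomial.eval v (MvPolynomial.pderiv i F) = 3 * C₀.T v v (Pi.single i 1))
    (a e₁ e₂ e : Fin 4 → K) (hli : LinearIndependent K ![a, e₁, e₂, e]) (h0 : C₀.T a a a = 0)
    (h1 : C₀.T a a e₁ = 0) (h2 : C₀.T a a e₂ = 0) (he : C₀.T a a e ≠ 0)
    (hT : ¬ ∃ L₁ L₂ L₃ : MvPolynomial (Fin 4) K, L₁.IsHomogeneous 1 ∧ L₂.IsHomogeneous 1 ∧ L₃.IsHomogeneous 1 ∧
        F - L₁ * L₂ * L₃ ∈ Ideal.span {∑ i : Fin 4,
          MvPolynomial.C (MvPolynomial.eval a (MvPolynomial.pderiv i F)) * MvPolynomial.X i})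
    (l₁ l₂ l₃ : Fin 3 → K) :
    ¬ ∀ z u v : K, C₀.F ((u • e₁ + v • e₂) + z • a) =
      (l₁ 0 * z + l₁ 1 * u + l₁ 2 * v) * (l₂ 0 * z + l₂ 1 * u + l₂ 2 * v) * (l₃ 0 * z + l₃ 1 * u + l₃ 2 * v) := by
  intro h
  let b : Module.Basis (Fin 4) K (Fin 4 → K) :=
    basisOfLinearIndependentOfCardEqFinrank (b := ![a, e₁, e₂, e]) hli (by simp)
  have hsum : ∀ x, b.coord 0 x • a + b.coord 1 x • e₁ + b.coord 2 x • e₂ + b.coord 3 x • e = x := fun x => by
    conv_rhs => rw [← b.sum_repr x, Fin.sum_univ_four]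
    simp only [b, coe_basisOfLinearIndependentOfCardEqFinrank]
    rfl
  let co : Fin 4 → MvPolynomial (Fin 4) K := fun j => lin fun i => b.coord j (Pi.single i 1)
  let L : (Fin 3 → K) → MvPolynomial (Fin 4) K := fun l =>
    MvPolynomial.C (l 0) * co 0 + MvPolynomial.C (l 1) * co 1 + MvPolynomial.C (l 2) * co 2
  have hL : ∀ l, (L l).IsHomogeneous 1 := fun l => by
    have : ∀ c j, (MvPolynomial.C c * co j).IsHomogeneous 1 := fun c j => by
      simpa using (MvPolynomial.isHomogeneous_C (Fin 4) c).mul (isHomogeneous_lin _)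
    exact ((this _ _).add (this _ _)).add (this _ _)
  refine hT ⟨L l₁, L l₂, L l₃, hL _, hL _, hL _, ?_⟩
  have hℓ : ∑ i : Fin 4, MvPolynomial.C (MvPolynomial.eval a (MvPolynomial.pderiv i F)) * MvPolynomial.X i =
      MvPolynomial.C (3 * C₀.T a a e) * co 3 := MvPolynomial.funext fun x => by
    rw [map_sum, map_mul, MvPolynomial.eval_C, eval_lin_coord,
      show 3 * C₀.T a a e * b.coord 3 x = 3 * C₀.T a a x from by
        conv_rhs => rw [← hsum x]
        simp [h0, h1, h2]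
        ring, ← sum_single (C₀.T a a) x, Finset.mul_sum]
    refine Finset.sum_congr rfl fun i _ => ?_
    rw [map_mul, MvPolynomial.eval_C, MvPolynomial.eval_X, hD, smul_eq_mul]
    ring
  let φ : Fin 4 → MvPolynomial (Fin 4) K := fun i =>
    MvPolynomial.C (a i) * co 0 + MvPolynomial.C (e₁ i) * co 1 + MvPolynomial.C (e₂ i) * co 2
  have hprod : L l₁ * L l₂ * L l₃ = MvPolynomial.aeval φ F := MvPolynomial.funext fun y => by
    rw [show MvPolynomial.eval y (MvPolynomial.aeval φ F) =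
        MvPolynomial.eval (fun i => MvPolynomial.eval y (φ i)) F from MvPolynomial.eval₂Hom_bind₁ _ _ _ _, hC,
      show (fun i => MvPolynomial.eval y (φ i)) = (b.coord 1 y • e₁ + b.coord 2 y • e₂) + b.coord 0 y • a from
        funext fun i => by
          simp only [φ, co, map_add, map_mul, MvPolynomial.eval_C, eval_lin_coord, Pi.add_apply, Pi.smul_apply,
            smul_eq_mul]
          ring, h]
    simp only [L, co, map_add, map_mul, MvPolynomial.eval_C, eval_lin_coord]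
  rw [hprod, ← Ideal.Quotient.eq]
  have hX : ∀ i, Ideal.Quotient.mkₐ K (Ideal.span {∑ i : Fin 4,
      MvPolynomial.C (MvPolynomial.eval a (MvPolynomial.pderiv i F)) * MvPolynomial.X i}) (φ i) =
      Ideal.Quotient.mkₐ K _ (MvPolynomial.X i) := fun i => by
    rw [Ideal.Quotient.mkₐ_eq_mk, Ideal.Quotient.eq, hℓ, Ideal.mem_span_singleton]
    refine ⟨MvPolynomial.C (-(e i) / (3 * C₀.T a a e)), MvPolynomial.funext fun y => ?_⟩
    have := congrArg (fun v => v i) (hsum y)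
    simp only [Pi.add_apply, Pi.smul_apply, smul_eq_mul] at this
    simp only [φ, co, map_sub, map_add, map_mul, MvPolynomial.eval_C, MvPolynomial.eval_X, eval_lin_coord]
    field_simp
    linear_combination this
  change Ideal.Quotient.mkₐ K _ F = Ideal.Quotient.mkₐ K _ (MvPolynomial.aeval φ F)
  rw [MvPolynomial.comp_aeval_apply]
  refine ((congrArg (Ideal.Quotient.mkₐ K _) (MvPolynomial.aeval_X_left_apply F)).symm.trans
    (MvPolynomial.comp_aeval_apply (f := MvPolynomial.X) _ F)).trans ?_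
  exact congrArg (fun f => MvPolynomial.aeval f F) (funext fun i => (hX i).symm)

section

variable [IsAlgClosed K] (C₀ : Tri K 4)

theorem section_eq {a : Fin 4 → K} (h0 : C₀.T a a a = 0) {e₁ e₂ : Fin 4 → K} (h1 : C₀.T a a e₁ = 0)
    (h2 : C₀.T a a e₂ = 0) (z u v : K) : C₀.F ((u • e₁ + v • e₂) + z • a) =
      3 * z * (C₀.T a e₁ e₁ * u ^ 2 + 2 * C₀.T a e₁ e₂ * u * v + C₀.T a e₂ e₂ * v ^ 2) +
      (C₀.F e₁ * u ^ 3 + 3 * C₀.T e₁ e₁ e₂ * u ^ 2 * v + 3 * C₀.T e₁ e₂ e₂ * u * v ^ 2 + C₀.F e₂ * v ^ 3) := by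
  rw [Tri.F_add_smul, Tri.F_two, show C₀.F a = 0 from h0]
  simp only [map_add, map_smul, LinearMap.add_apply, LinearMap.smul_apply, smul_eq_mul, C₀.rev _ a a, h1, h2,
    C₀.rev e₁ e₁ a, C₀.rev e₂ e₂ a, C₀.rev e₁ e₂ a, C₀.rev e₂ e₁ a, C₀.swap23 a e₂ e₁]
  ring

/-- A tangent section with vanishing invariants splits. -/
theorem split_of_inv {a : Fin 4 → K} (h0 : C₀.T a a a = 0) {e₁ e₂ : Fin 4 → K} (h1 : C₀.T a a e₁ = 0)
    (h2 : C₀.T a a e₂ = 0) (hA : C₀.T a e₁ e₁ ≠ 0)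
    (hi : inv1 (C₀.T a e₁ e₁) (C₀.T a e₁ e₂) (C₀.T a e₂ e₂) (C₀.F e₁) (3 * C₀.T e₁ e₁ e₂) (3 * C₀.T e₁ e₂ e₂) = 0 ∧
      inv2 (C₀.T a e₁ e₁) (C₀.T a e₁ e₂) (C₀.T a e₂ e₂) (C₀.F e₁) (3 * C₀.T e₁ e₁ e₂) (C₀.F e₂) = 0) :
    ∃ l₁ l₂ l₃ : Fin 3 → K, ∀ z u v : K, C₀.F ((u • e₁ + v • e₂) + z • a) =
      (l₁ 0 * z + l₁ 1 * u + l₁ 2 * v) * (l₂ 0 * z + l₂ 1 * u + l₂ 2 * v) * (l₃ 0 * z + l₃ 1 * u + l₃ 2 * v) := by
  obtain ⟨i1, i2⟩ := hi
  set A := C₀.T a e₁ e₁
  set B := C₀.T a e₁ e₂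
  set D := C₀.T a e₂ e₂
  set c₃ := C₀.F e₁
  set c₂ := 3 * C₀.T e₁ e₁ e₂
  set c₁ := 3 * C₀.T e₁ e₂ e₂
  set c₀ := C₀.F e₂
  simp only [inv1, inv2] at i1 i2
  set α := c₃ / A
  set β := (c₂ - 2 * α * B) / A
  have r3 : c₃ = α * A := by simp only [α]; field_simp
  have r2 : c₂ = 2 * α * B + β * A := by simp only [β]; field_simp; ring
  have r1 : c₁ = α * D + 2 * β * B := by
    rw [r2, r3] at i1
    exact mul_left_cancel₀ (pow_ne_zero 2 hA) (by linear_combination i1)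
  have r0 : c₀ = β * D := by
    rw [r2, r3] at i2
    exact mul_left_cancel₀ (pow_ne_zero 2 hA) (by linear_combination i2)
  obtain ⟨a₁, b₁, a₂, b₂, hf⟩ := binary_quadratic A (2 * B) D
  refine ⟨![3, α, β], ![0, a₁, b₁], ![0, a₂, b₂], fun z u v => ?_⟩
  rw [section_eq C₀ h0 h1 h2]
  simp only [Matrix.cons_val_zero, Matrix.cons_val_one, Matrix.cons_val, zero_mul, zero_add]
  linear_combination (3 * z + α * u + β * v) * hf u v + u ^ 3 * r3 + u ^ 2 * v * r2 + u * v ^ 2 * r1 + v ^ 3 * r0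

/-- No factorisation of the tangent section in a frame. -/
def NoSplit (a e₁ e₂ : Fin 4 → K) : Prop :=
  ∀ l₁ l₂ l₃ : Fin 3 → K, ¬ ∀ z u v : K, C₀.F ((u • e₁ + v • e₂) + z • a) =
    (l₁ 0 * z + l₁ 1 * u + l₁ 2 * v) * (l₂ 0 * z + l₂ 1 * u + l₂ 2 * v) * (l₃ 0 * z + l₃ 1 * u + l₃ 2 * v)

/-- Some invariant of a point without factorisation does not vanish. -/
theorem exists_inv_ne {a : Fin 4 → K} (h0 : C₀.T a a a = 0) {e₁ e₂ : Fin 4 → K} (h1 : C₀.T a a e₁ = 0)
    (h2 : C₀.T a a e₂ = 0) (hns : NoSplit C₀ a e₁ e₂) :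
    ∃ f₁ f₂ : Fin 4 → K, C₀.T a a f₁ = 0 ∧ C₀.T a a f₂ = 0 ∧
      ¬ (inv1 (C₀.T a f₁ f₁) (C₀.T a f₁ f₂) (C₀.T a f₂ f₂) (C₀.F f₁) (3 * C₀.T f₁ f₁ f₂) (3 * C₀.T f₁ f₂ f₂) = 0 ∧
        inv2 (C₀.T a f₁ f₁) (C₀.T a f₁ f₂) (C₀.T a f₂ f₂) (C₀.F f₁) (3 * C₀.T f₁ f₁ f₂) (C₀.F f₂) = 0) := by
  by_contra hall
  push Not at hall
  by_cases hA : C₀.T a e₁ e₁ = 0
  swap
  · obtain ⟨l₁, l₂, l₃, hl⟩ := split_of_inv C₀ h0 h1 h2 hA (hall e₁ e₂ h1 h2)
    exact hns l₁ l₂ l₃ hl
  by_cases hD : C₀.T a e₂ e₂ = 0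
  swap
  · obtain ⟨l₁, l₂, l₃, hl⟩ := split_of_inv C₀ h0 h2 h1 hD (hall e₂ e₁ h2 h1)
    refine hns ![l₁ 0, l₁ 2, l₁ 1] ![l₂ 0, l₂ 2, l₂ 1] ![l₃ 0, l₃ 2, l₃ 1] fun z u v => ?_
    rw [add_comm (u • e₁), hl]
    simp only [Matrix.cons_val_zero, Matrix.cons_val_one, Matrix.cons_val]
    ring
  by_cases hB : C₀.T a e₁ e₂ = 0
  · obtain ⟨p₁, q₁, p₂, q₂, p₃, q₃, hf⟩ := binary_cubic (C₀.F e₁) (3 * C₀.T e₁ e₁ e₂) (3 * C₀.T e₁ e₂ e₂) (C₀.F e₂)
    refine hns ![0, p₁, q₁] ![0, p₂, q₂] ![0, p₃, q₃] fun z u v => ?_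
    rw [section_eq C₀ h0 h1 h2, hA, hB, hD]
    simp only [Matrix.cons_val_zero, Matrix.cons_val_one, Matrix.cons_val]
    linear_combination hf u v
  · have h12 : C₀.T a a (e₁ + e₂) = 0 := by simp [h1, h2]
    have hA' : C₀.T a (e₁ + e₂) (e₁ + e₂) ≠ 0 := by
      simp only [map_add, LinearMap.add_apply, hA, hD, C₀.swap23 a e₂ e₁, zero_add, add_zero, ← two_mul]
      exact mul_ne_zero two_ne_zero hB
    obtain ⟨l₁, l₂, l₃, hl⟩ := split_of_inv C₀ h0 h12 h2 hA' (hall _ e₂ h12 h2)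
    refine hns ![l₁ 0, l₁ 1 - l₁ 2, l₁ 2] ![l₂ 0, l₂ 1 - l₂ 2, l₂ 2] ![l₃ 0, l₃ 1 - l₃ 2, l₃ 2] fun z u v => ?_
    rw [show u • e₁ + v • e₂ = u • (e₁ + e₂) + (v - u) • e₂ from by module, hl]
    simp only [Matrix.cons_val_zero, Matrix.cons_val_one, Matrix.cons_val]
    ring

/-- A root direction of the second fundamental form where the section is transversal. -/
theorem exists_root_frame {a : Fin 4 → K} (h0 : C₀.T a a a = 0) {e₁ e₂ e : Fin 4 → K} (h1 : C₀.T a a e₁ = 0)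
    (h2 : C₀.T a a e₂ = 0) (hli : LinearIndependent K ![a, e₁, e₂, e])
    (hq : ¬ (C₀.T a e₁ e₁ = 0 ∧ C₀.T a e₁ e₂ = 0 ∧ C₀.T a e₂ e₂ = 0))
    (hns : ∀ f₁ f₂, C₀.T a a f₁ = 0 → C₀.T a a f₂ = 0 → LinearIndependent K ![a, f₁, f₂, e] → NoSplit C₀ a f₁ f₂) :
    ∃ f₁ f₂, C₀.T a a f₁ = 0 ∧ C₀.T a a f₂ = 0 ∧ LinearIndependent K ![a, f₁, f₂, e] ∧ C₀.T a f₂ f₂ = 0 ∧
      ¬ (C₀.T a f₁ f₁ = 0 ∧ C₀.T a f₁ f₂ = 0) ∧
      (C₀.F f₂ ≠ 0 ∨ (C₀.F f₂ = 0 ∧ C₀.T a f₁ f₂ = 0 ∧ C₀.T f₁ f₂ f₂ ≠ 0)) := by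
  have li : ∀ p q r s : K, p * s - q * r ≠ 0 →
      LinearIndependent K ![a, p • e₁ + q • e₂, r • e₁ + s • e₂, e] := by
    intro p q r s hd
    refine Fintype.linearIndependent_iff.2 fun c hc => ?_
    have := Fintype.linearIndependent_iff.1 hli ![c 0, c 1 * p + c 2 * r, c 1 * q + c 2 * s, c 3] (by
      rw [← hc]
      simp only [Fin.sum_univ_four, Matrix.cons_val_zero, Matrix.cons_val_one, Matrix.cons_val]
      module)
    have a1 : c 1 * p + c 2 * r = 0 := this 1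
    have a2 : c 1 * q + c 2 * s = 0 := this 2
    intro i
    fin_cases i
    · exact this 0
    · exact (mul_eq_zero.1 (show c 1 * (p * s - q * r) = 0 by linear_combination s * a1 - r * a2)).resolve_right hd
    · exact (mul_eq_zero.1 (show c 2 * (p * s - q * r) = 0 by linear_combination p * a2 - q * a1)).resolve_right hd
    · exact this 3
  obtain ⟨f₁, f₂, g1, g2, gli, gD, gAB⟩ : ∃ f₁ f₂, C₀.T a a f₁ = 0 ∧ C₀.T a a f₂ = 0 ∧
      LinearIndependent K ![a, f₁, f₂, e] ∧ C₀.T a f₂ f₂ = 0 ∧ ¬ (C₀.T a f₁ f₁ = 0 ∧ C₀.T a f₁ f₂ = 0) := by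
    by_cases hA : C₀.T a e₁ e₁ = 0
    · refine ⟨e₂, e₁, h2, h1, ?_, hA, fun h => hq ⟨hA, by rw [C₀.swap23]; exact h.2, h.1⟩⟩
      simpa using li 0 1 1 0 (by norm_num)
    · obtain ⟨r, hr⟩ := exists_root_quadratic _ (2 * C₀.T a e₁ e₂) (C₀.T a e₂ e₂) hA
      refine ⟨e₁, r • e₁ + e₂, h1, by simp [h1, h2], ?_, ?_, fun h => hA h.1⟩
      · simpa using li 1 0 r 1 (by norm_num)
      · simp only [map_add, map_smul, LinearMap.add_apply, LinearMap.smul_apply, smul_eq_mul, C₀.swap23 a e₂ e₁]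
        linear_combination hr
  by_cases hc : C₀.F f₂ = 0
  swap
  · exact ⟨f₁, f₂, g1, g2, gli, gD, gAB, Or.inl hc⟩
  have hn := hns f₁ f₂ g1 g2 gli
  set A := C₀.T a f₁ f₁ with hA
  by_cases hB : C₀.T a f₁ f₂ = 0
  · refine ⟨f₁, f₂, g1, g2, gli, gD, gAB, Or.inr ⟨hc, hB, fun h => ?_⟩⟩
    have hA0 : A ≠ 0 := fun h => gAB ⟨h, hB⟩
    obtain ⟨l₁, l₂, l₃, hl⟩ := split_of_inv C₀ h0 g1 g2 hA0 (by
      simp [inv1, inv2, ← hA, hB, gD, h, hc])
    exact hn l₁ l₂ l₃ hl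
  set B := C₀.T a f₁ f₂ with hBdef
  set f₂' := (-(2 * B)) • f₁ + A • f₂ with hf₂'
  by_cases hc' : C₀.F f₂' = 0
  · exfalso
    rw [hf₂', Tri.F_two, hc] at hc'
    by_cases hA0 : A = 0
    · rw [hA0] at hc'
      have h3 : C₀.F f₁ = 0 :=
        (mul_eq_zero.1 (show (2 * B) ^ 3 * C₀.F f₁ = 0 by linear_combination -hc')).resolve_left
          (pow_ne_zero _ (mul_ne_zero two_ne_zero hB))
      refine hn ![6 * B, 3 * C₀.T f₁ f₁ f₂, 3 * C₀.T f₁ f₂ f₂] ![0, 1, 0] ![0, 0, 1] fun z u v => ?_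
      rw [section_eq C₀ h0 g1 g2, ← hA, hA0, gD, hc, h3, ← hBdef]
      simp only [Matrix.cons_val_zero, Matrix.cons_val_one, Matrix.cons_val]
      ring
    · obtain ⟨l₁, l₂, l₃, hl⟩ := split_of_inv C₀ h0 g1 g2 hA0 ⟨by
        refine (mul_eq_zero.1 ?_).resolve_left (mul_ne_zero two_ne_zero hB)
        simp only [inv1, ← hA, gD, ← hBdef]
        linear_combination -hc', by simp [inv2, gD, hc]⟩
      exact hn l₁ l₂ l₃ hl
  · refine ⟨f₂, f₂', g2, by simp [hf₂', g1, g2], ?_, ?_, ?_, Or.inl hc'⟩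
    · refine Fintype.linearIndependent_iff.2 fun c hc => ?_
      have := Fintype.linearIndependent_iff.1 gli ![c 0, c 2 * (-(2 * B)), c 1 + c 2 * A, c 3] (by
        rw [← hc, hf₂']
        simp only [Fin.sum_univ_four, Matrix.cons_val_zero, Matrix.cons_val_one, Matrix.cons_val]
        module)
      have a1 : c 2 = 0 := (mul_eq_zero.1 (this 1)).resolve_right (neg_ne_zero.2 (mul_ne_zero two_ne_zero hB))
      intro i
      fin_cases i
      · exact this 0
      · simpa [a1] using this 2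
      · exact a1
      · exact this 3
    · simp only [hf₂', map_add, map_smul, LinearMap.add_apply, LinearMap.smul_apply, smul_eq_mul, gD,
        C₀.swap23 a f₂ f₁, ← hA, ← hBdef]
      ring
    · intro h
      have := h.2
      simp only [hf₂', map_add, map_smul, smul_eq_mul, gD, C₀.swap23 a f₂ f₁, ← hBdef, mul_zero, add_zero] at this
      exact hB (by simpa using this)

end

/-- Lines through `a` carry finitely many zeros of a form not vanishing at `a`. -/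
theorem finite_on_line (W : MvPolynomial (Fin 4) K) (a w : Fin 4 → K) (hW : MvPolynomial.eval a W ≠ 0) :
    {s : K | MvPolynomial.eval (a + s • w) W = 0}.Finite := by
  let P : K[X] := MvPolynomial.aeval (fun i => Polynomial.C (a i) + Polynomial.X * Polynomial.C (w i)) W
  have hP : ∀ s, P.eval s = MvPolynomial.eval (a + s • w) W := fun s => by
    rw [← Polynomial.coe_aeval_eq_eval, MvPolynomial.comp_aeval_apply, MvPolynomial.aeval_eq_eval]
    exact congrArg (fun v => MvPolynomial.eval v W) (funext fun i => by simp; ring)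
  have h0 : P ≠ 0 := fun h => hW (by have := hP 0; simp [h] at this; exact this.symm)
  refine (Polynomial.finite_setOf_isRoot h0).subset fun s hs => ?_
  rw [Set.mem_setOf_eq, Polynomial.IsRoot.def, hP]
  exact hs

/-- A form evaluated along a curve. -/
theorem finite_on_curve (W : MvPolynomial (Fin 4) K) (P : Fin 4 → K[X])
    (h0 : MvPolynomial.eval (fun i => (P i).eval 0) W ≠ 0) :
    {t : K | MvPolynomial.eval (fun i => (P i).eval t) W = 0}.Finite := by
  let Q : K[X] := MvPolynomial.aeval P W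
  have hQ : ∀ t, Q.eval t = MvPolynomial.eval (fun i => (P i).eval t) W := fun t => by
    rw [← Polynomial.coe_aeval_eq_eval, MvPolynomial.comp_aeval_apply, MvPolynomial.aeval_eq_eval]
  have hQ0 : Q ≠ 0 := fun h => h0 (by rw [← hQ, h, eval_zero])
  refine (Polynomial.finite_setOf_isRoot hQ0).subset fun t ht => ?_
  rw [Set.mem_setOf_eq, Polynomial.IsRoot.def, hQ]
  exact ht

/-- Finitely many T-points in the tangent plane of a point which is not one. -/
theorem finite_tpoints [IsAlgClosed K] (F : MvPolynomial (Fin 4) K) (hF : F.IsHomogeneous 3)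
    (tp : (Fin 4 → K) → Prop)
    (htp : ∀ b : Fin 4 → K, tp b → (b ≠ 0 ∧ MvPolynomial.eval b F = 0 ∧
      ∃ L₁ L₂ L₃ : MvPolynomial (Fin 4) K, L₁.IsHomogeneous 1 ∧ L₂.IsHomogeneous 1 ∧ L₃.IsHomogeneous 1 ∧
        F - L₁ * L₂ * L₃ ∈ Ideal.span {∑ i : Fin 4,
          MvPolynomial.C (MvPolynomial.eval b (MvPolynomial.pderiv i F)) * MvPolynomial.X i}))
    (a : Fin 4 → K) (haF : MvPolynomial.eval a F = 0)
    (hsm : ∃ i : Fin 4, MvPolynomial.eval a (MvPolynomial.pderiv i F) ≠ 0)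
    (ha : ¬ ∃ L₁ L₂ L₃ : MvPolynomial (Fin 4) K, L₁.IsHomogeneous 1 ∧ L₂.IsHomogeneous 1 ∧ L₃.IsHomogeneous 1 ∧
      F - L₁ * L₂ * L₃ ∈ Ideal.span {∑ i : Fin 4,
        MvPolynomial.C (MvPolynomial.eval a (MvPolynomial.pderiv i F)) * MvPolynomial.X i})
    (H : Submodule K (Fin 4 → K))
    (hH : ∀ x : Fin 4 → K, x ∈ H ↔ MvPolynomial.eval x (∑ i : Fin 4,
      MvPolynomial.C (MvPolynomial.eval a (MvPolynomial.pderiv i F)) * MvPolynomial.X i) = 0) :
    Set.Finite {U : Submodule K (Fin 4 → K) | Module.finrank K ↥U = 1 ∧ U ≤ H ∧ ∀ b ∈ U, b ≠ 0 → tp b} := by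
  classical
  obtain ⟨C₀, hC, hD⟩ := exists_tri F hF
  have h0 : C₀.T a a a = 0 := by
    have := hC a
    rw [haF] at this
    exact this.symm
  obtain ⟨i₀, hi₀⟩ := hsm
  set e : Fin 4 → K := Pi.single i₀ 1
  have he : C₀.T a a e ≠ 0 := fun h => hi₀ (by rw [hD, h, mul_zero])
  have ha0 : a ≠ 0 := fun h => he (by simp [h])
  have hH' : ∀ x ∈ H, C₀.T a a x = 0 := fun x hx => by
    have := (hH x).1 hx
    rw [map_sum] at this
    refine (mul_eq_zero.1 (show 3 * C₀.T a a x = 0 from ?_)).resolve_left three_ne_zero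
    rw [← this, ← sum_single (C₀.T a a) x, Finset.mul_sum]
    refine Finset.sum_congr rfl fun i _ => ?_
    rw [map_mul, MvPolynomial.eval_C, MvPolynomial.eval_X, hD, smul_eq_mul]
    ring
  -- a frame
  obtain ⟨e₁, e₂, h1, h2, hli⟩ : ∃ e₁ e₂, C₀.T a a e₁ = 0 ∧ C₀.T a a e₂ = 0 ∧ LinearIndependent K ![a, e₁, e₂, e] := by
    have hli2 : LinearIndependent K ![a, e] := by
      refine LinearIndependent.pair_iff.2 fun r s h => ?_
      have h' := congrArg (C₀.T a a) h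
      simp [h0, he] at h'
      rw [h', zero_smul, add_zero] at h
      exact ⟨(smul_eq_zero.1 h).resolve_right ha0, h'⟩
    obtain ⟨g₁, g₂, hg⟩ := exists_completion hli2
    refine ⟨g₁ + (-(C₀.T a a g₁) / C₀.T a a e) • e, g₂ + (-(C₀.T a a g₂) / C₀.T a a e) • e,
      by simp [he], by simp [he], ?_⟩
    refine Fintype.linearIndependent_iff.2 fun c hc => ?_
    have := Fintype.linearIndependent_iff.1 hg ![c 0,
      c 3 + c 1 * (-(C₀.T a a g₁) / C₀.T a a e) + c 2 * (-(C₀.T a a g₂) / C₀.T a a e), c 1, c 2] (by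
        rw [← hc]
        simp only [Fin.sum_univ_four, Matrix.cons_val_zero, Matrix.cons_val_one, Matrix.cons_val]
        module)
    have i1 : c 1 = 0 := this 2
    have i2 : c 2 = 0 := this 3
    intro i
    fin_cases i
    · exact this 0
    · exact i1
    · exact i2
    · simpa [i1, i2] using this 1
  have hns : ∀ f₁ f₂, C₀.T a a f₁ = 0 → C₀.T a a f₂ = 0 → LinearIndependent K ![a, f₁, f₂, e] →
      NoSplit C₀ a f₁ f₂ := fun f₁ f₂ g1 g2 gli =>
    not_split F C₀ hC hD a f₁ f₂ e gli h0 g1 g2 he ha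
  -- a form vanishing at T-points and not at `a`
  obtain ⟨y₁, y₂, hy1, hy2, hy⟩ := exists_inv_ne C₀ h0 h1 h2 (hns _ _ h1 h2 hli)
  have hD' : ∀ v, MvPolynomial.aeval v F = C₀.F v := fun v => by rw [← hC]; rfl
  let sel : K × K → K := fun x =>
    if inv1 (C₀.T a y₁ y₁) (C₀.T a y₁ y₂) (C₀.T a y₂ y₂) (C₀.F y₁) (3 * C₀.T y₁ y₁ y₂) (3 * C₀.T y₁ y₂ y₂) = 0
      then x.2 else x.1
  let R₁ := MvPolynomial (Fin 4) K
  let selR : R₁ × R₁ → R₁ := fun x =>
    if inv1 (C₀.T a y₁ y₁) (C₀.T a y₁ y₂) (C₀.T a y₂ y₂) (C₀.F y₁) (3 * C₀.T y₁ y₁ y₂) (3 * C₀.T y₁ y₂ y₂) = 0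
      then x.2 else x.1
  let W : R₁ := selR (wit F (fun l => MvPolynomial.X l) (fun l => algebraMap K R₁ (e l))
    (fun l => algebraMap K R₁ (y₁ l)) (fun l => algebraMap K R₁ (y₂ l)))
  have hW : ∀ v, MvPolynomial.eval v W = sel (wit F v e y₁ y₂) := fun v => by
    have := wit_map (MvPolynomial.aeval v : R₁ →ₐ[K] K) F (fun l => MvPolynomial.X l)
      (fun l => algebraMap K R₁ (e l)) (fun l => algebraMap K R₁ (y₁ l)) (fun l => algebraMap K R₁ (y₂ l))
    simp only [Function.comp_def, AlgHom.commutes, Algebra.algebraMap_self_apply] at this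
    simp only [MvPolynomial.aeval_eq_eval, MvPolynomial.eval_X] at this
    have hc : ∀ c, MvPolynomial.eval v (algebraMap K R₁ c) = c := fun c => by
      simp [R₁, MvPolynomial.algebraMap_eq]
    simp only [hc] at this
    rw [← this]
    simp only [W, selR, sel]
    split_ifs <;> rfl
  have hWa : ∀ r : K, r ≠ 0 → MvPolynomial.eval (r • a) W ≠ 0 := by
    intro r hr
    have t : ∀ y, C₀.T a a y = 0 → tang F (r • a) e y = (6 * r ^ 2 * C₀.T a a e) • y := fun y hy0 => funext fun l => by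
      simp only [tang, pol_eq hD', Pi.smul_apply, smul_eq_mul, map_smul, LinearMap.smul_apply, hy0]
      ring
    rw [hW, wit_eq hD' (r • a) e y₁ y₂ _ _ (t y₁ hy1).symm (t y₂ hy2).symm]
    set c := 6 * r ^ 2 * C₀.T a a e with hc
    have hc0 : c ≠ 0 := mul_ne_zero (mul_ne_zero (by norm_num) (pow_ne_zero _ hr)) he
    simp only [sel]
    split_ifs with hi
    · have := (fun h => hy ⟨hi, h⟩ : ¬ _)
      intro h
      refine this ((mul_eq_zero.1 ?_).resolve_left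
        (mul_ne_zero (mul_ne_zero (by norm_num : (216 : K) ≠ 0) (pow_ne_zero 7 hc0)) (pow_ne_zero 2 hr)))
      rw [← h]
      simp only [inv2, Tri.F, map_smul, LinearMap.smul_apply, smul_eq_mul]
      ring
    · intro h
      refine hi ((mul_eq_zero.1 ?_).resolve_left
        (mul_ne_zero (mul_ne_zero (by norm_num : (216 : K) ≠ 0) (pow_ne_zero 7 hc0)) (pow_ne_zero 2 hr)))
      rw [← h]
      simp only [inv1, Tri.F, map_smul, LinearMap.smul_apply, smul_eq_mul]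
      ring
  have hWtp : ∀ b, tp b → MvPolynomial.eval b W = 0 := by
    intro b hb
    obtain ⟨-, hbF, hL⟩ := htp b hb
    have hb0 : C₀.T b b b = 0 := by rw [hC] at hbF; exact hbF
    have t0 : ∀ y, C₀.T b b (tang F b e y) = 0 := fun y => by
      rw [show tang F b e y = (6 * C₀.T b b e) • y + (-(6 * C₀.T b b y)) • e from funext fun l => by
        simp [tang, pol_eq hD']; ring]
      simp; ring
    obtain ⟨i1, i2⟩ := inv_of_tp F C₀ hC hD b _ _ hb0 (t0 y₁) (t0 y₂) hL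
    rw [hW, wit_eq hD' b e y₁ y₂ _ _ rfl rfl, i1, i2]
    simp [sel]
  -- the candidates
  let Lset : (Fin 4 → K) → Set (Submodule K (Fin 4 → K)) := fun w =>
    insert (Submodule.span K {w})
      ((fun s : K => Submodule.span K {a + s • w}) '' {s : K | MvPolynomial.eval (a + s • w) W = 0})
  have hLfin : ∀ w, (Lset w).Finite := fun w =>
    ((finite_on_line W a w (by simpa using hWa 1 one_ne_zero)).image _).insert _
  obtain ⟨f₁, f₂, g1, g2, gli, T, hTfin, hTmem⟩ : ∃ f₁ f₂, C₀.T a a f₁ = 0 ∧ C₀.T a a f₂ = 0 ∧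
      LinearIndependent K ![a, f₁, f₂, e] ∧ ∃ T : Set K, T.Finite ∧ ∀ z t v : K, v ≠ 0 →
        (∀ r : K, r ≠ 0 → tp (r • ((v * t) • f₁ + v • f₂ + z • a))) → t ∈ T := by
    by_cases hq : C₀.T a e₁ e₁ = 0 ∧ C₀.T a e₁ e₂ = 0 ∧ C₀.T a e₂ e₂ = 0
    · let cp : K[X] := C (C₀.F e₁) * X ^ 3 + C (3 * C₀.T e₁ e₁ e₂) * X ^ 2 + C (3 * C₀.T e₁ e₂ e₂) * X + C (C₀.F e₂)
      have hcp : cp ≠ 0 := by
        intro h
        refine hns _ _ h1 h2 hli 0 0 0 fun z u v => ?_
        have k3 : C₀.F e₁ = 0 := by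
          have h' := congrArg (coeff · 3) h
          simp only [cp, coeff_add, coeff_C_mul_X_pow, coeff_C_mul_X, coeff_C, coeff_zero] at h'
          norm_num at h'
          exact h'
        have k2 : C₀.T e₁ e₁ e₂ = 0 := by
          have h' := congrArg (coeff · 2) h
          simp only [cp, coeff_add, coeff_C_mul_X_pow, coeff_C_mul_X, coeff_C, coeff_zero] at h'
          norm_num at h'
          exact h'
        have k1 : C₀.T e₁ e₂ e₂ = 0 := by
          have h' := congrArg (coeff · 1) h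
          simp only [cp, coeff_add, coeff_C_mul_X_pow, coeff_C_mul_X, coeff_C, coeff_zero] at h'
          norm_num at h'
          exact h'
        have k0 : C₀.F e₂ = 0 := by
          have h' := congrArg (coeff · 0) h
          simp only [cp, coeff_add, coeff_C_mul_X_pow, coeff_C_mul_X, coeff_C, coeff_zero] at h'
          norm_num at h'
          exact h'
        rw [section_eq C₀ h0 h1 h2, hq.1, hq.2.1, hq.2.2, k3, k2, k1, k0]
        simp
      refine ⟨e₁, e₂, h1, h2, hli, _, Polynomial.finite_setOf_isRoot hcp, fun z t v hv hb => ?_⟩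
      have hF0 := (htp _ (hb 1 one_ne_zero)).2.1
      rw [one_smul, hC, section_eq C₀ h0 h1 h2, hq.1, hq.2.1, hq.2.2] at hF0
      rw [Set.mem_setOf_eq, Polynomial.IsRoot.def]
      refine (mul_eq_zero.1 (show v ^ 3 * cp.eval t = 0 from ?_)).resolve_left (pow_ne_zero _ hv)
      simp only [cp, eval_add, eval_mul, eval_pow, eval_C, eval_X]
      linear_combination hF0
    · obtain ⟨f₁, f₂, g1, g2, gli, gD, gAB, hcase⟩ := exists_root_frame C₀ h0 h1 h2 hli hq hns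
      set A := C₀.T a f₁ f₁ with hA
      set B := C₀.T a f₁ f₂ with hB
      let q : K[X] := C A * X ^ 2 + C (2 * B) * X
      have hq0 : q ≠ 0 := fun h => gAB ⟨by simpa [q, coeff_X, coeff_C] using congrArg (coeff · 2) h,
        by simpa [q, coeff_X, coeff_C] using congrArg (coeff · 1) h⟩
      rcases hcase with hc | ⟨hc, hB0, hc1⟩
      · let cp : K[X] := C (C₀.F f₁) * X ^ 3 + C (3 * C₀.T f₁ f₁ f₂) * X ^ 2 + C (3 * C₀.T f₁ f₂ f₂) * X + C (C₀.F f₂)
        let P : Fin 4 → K[X] := fun i => -cp * C (a i) + 3 * q * (X * C (f₁ i) + C (f₂ i))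
        have hP0 : MvPolynomial.eval (fun i => (P i).eval 0) W ≠ 0 := by
          rw [show (fun i => (P i).eval 0) = (-C₀.F f₂) • a from funext fun i => by simp [P, cp, q]]
          exact hWa _ (neg_ne_zero.2 hc)
        refine ⟨f₁, f₂, g1, g2, gli, _, (finite_on_curve W P hP0).union (Polynomial.finite_setOf_isRoot hq0),
          fun z t v hv hb => ?_⟩
        by_cases hqt : q.eval t = 0
        · exact Or.inr hqt
        have hF0 := (htp _ (hb 1 one_ne_zero)).2.1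
        rw [one_smul, hC, section_eq C₀ h0 g1 g2, gD, ← hA, ← hB] at hF0
        simp only [q, eval_add, eval_mul, eval_pow, eval_C, eval_X] at hqt
        have hrel : 3 * z * (A * t ^ 2 + 2 * B * t) + v * cp.eval t = 0 := by
          simp only [cp, eval_add, eval_mul, eval_pow, eval_C, eval_X]
          exact (mul_eq_zero.1 (show v ^ 2 * _ = 0 by linear_combination hF0)).resolve_left (pow_ne_zero _ hv)
        refine Or.inl (show MvPolynomial.eval (fun i => (P i).eval t) W = 0 from ?_)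
        rw [show (fun i => (P i).eval t) = (3 * (A * t ^ 2 + 2 * B * t) / v) • ((v * t) • f₁ + v • f₂ + z • a) from
          funext fun i => by
            simp only [P, q, eval_add, eval_neg, eval_mul, eval_pow, eval_C, eval_X, eval_ofNat, Pi.smul_apply,
              Pi.add_apply, smul_eq_mul]
            field_simp
            linear_combination (-(a i)) * hrel]
        exact hWtp _ (hb _ (div_ne_zero (mul_ne_zero three_ne_zero hqt) hv))
      · let cp : K[X] := C (C₀.F f₁) * X ^ 2 + C (3 * C₀.T f₁ f₁ f₂) * X + C (3 * C₀.T f₁ f₂ f₂)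
        let P : Fin 4 → K[X] := fun i => -cp * C (a i) + 3 * (C A * X) * (X * C (f₁ i) + C (f₂ i))
        have hA0 : A ≠ 0 := fun h => gAB ⟨h, hB0⟩
        have hP0 : MvPolynomial.eval (fun i => (P i).eval 0) W ≠ 0 := by
          rw [show (fun i => (P i).eval 0) = (-(3 * C₀.T f₁ f₂ f₂)) • a from funext fun i => by simp [P, cp]]
          exact hWa _ (neg_ne_zero.2 (mul_ne_zero three_ne_zero hc1))
        refine ⟨f₁, f₂, g1, g2, gli, _, (finite_on_curve W P hP0).union (Set.finite_singleton 0),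
          fun z t v hv hb => ?_⟩
        by_cases ht : t = 0
        · exact Or.inr ht
        have hF0 := (htp _ (hb 1 one_ne_zero)).2.1
        rw [one_smul, hC, section_eq C₀ h0 g1 g2, gD, hc, ← hA, ← hB, hB0] at hF0
        have hrel : 3 * z * (A * t) + v * cp.eval t = 0 := by
          simp only [cp, eval_add, eval_mul, eval_pow, eval_C, eval_X]
          exact (mul_eq_zero.1 (show v ^ 2 * t * _ = 0 by linear_combination hF0)).resolve_left
            (mul_ne_zero (pow_ne_zero _ hv) ht)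
        refine Or.inl (show MvPolynomial.eval (fun i => (P i).eval t) W = 0 from ?_)
        rw [show (fun i => (P i).eval t) = (3 * (A * t) / v) • ((v * t) • f₁ + v • f₂ + z • a) from
          funext fun i => by
            simp only [P, eval_add, eval_neg, eval_mul, eval_pow, eval_C, eval_X, eval_ofNat, Pi.smul_apply,
              Pi.add_apply, smul_eq_mul]
            field_simp
            linear_combination (-(a i)) * hrel]
        exact hWtp _ (hb _ (div_ne_zero (mul_ne_zero three_ne_zero (mul_ne_zero hA0 ht)) hv))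
  refine ((hTfin.biUnion fun t _ => hLfin (t • f₁ + f₂)).union (hLfin f₁)).subset fun U hU => ?_
  obtain ⟨hU1, hUH, hUtp⟩ := hU
  obtain ⟨b, hbU, hb0⟩ := (Submodule.ne_bot_iff U).1 fun h => by rw [h, finrank_bot] at hU1; omega
  have hspan : ∀ w ∈ U, w ≠ 0 → U = Submodule.span K {w} := fun w hw hw0 =>
    (Submodule.eq_of_le_of_finrank_eq (Submodule.span_le.2 (Set.singleton_subset_iff.2 hw))
      (by rw [finrank_span_singleton hw0, hU1])).symm
  let bas : Module.Basis (Fin 4) K (Fin 4 → K) := basisOfLinearIndependentOfCardEqFinrank gli (by simp)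
  have hb : b = bas.coord 0 b • a + bas.coord 1 b • f₁ + bas.coord 2 b • f₂ + bas.coord 3 b • e := by
    conv_lhs => rw [← bas.sum_repr b, Fin.sum_univ_four]
    simp only [bas, coe_basisOfLinearIndependentOfCardEqFinrank]
    rfl
  set z := bas.coord 0 b
  set u := bas.coord 1 b
  set v := bas.coord 2 b
  have h3 : bas.coord 3 b = 0 := by
    have := hH' b (hUH hbU)
    rw [hb] at this
    simpa [h0, g1, g2, he] using this
  rw [h3, zero_smul, add_zero] at hb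
  have key : ∀ μ : K, μ ≠ 0 → ∀ w, b = z • a + μ • w → U ∈ Lset w := by
    intro μ hμ w hw
    by_cases hz : z = 0
    · rw [hz, zero_smul, zero_add] at hw
      have hwU : w ∈ U := by
        rw [show w = μ⁻¹ • b by rw [hw, smul_smul, inv_mul_cancel₀ hμ, one_smul]]
        exact U.smul_mem _ hbU
      exact Or.inl (hspan w hwU (fun h => hb0 (by rw [hw, h, smul_zero])))
    · have hmem : a + (μ / z) • w ∈ U := by
        rw [show a + (μ / z) • w = z⁻¹ • b by
          rw [hw, smul_add, smul_smul, smul_smul, inv_mul_cancel₀ hz, one_smul, div_eq_inv_mul]]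
        exact U.smul_mem _ hbU
      have hne : a + (μ / z) • w ≠ 0 := fun h => hb0 (by
        rw [hw, show z • a + μ • w = z • (a + (μ / z) • w) by rw [smul_add, smul_smul, mul_div_cancel₀ _ hz], h,
          smul_zero])
      exact Or.inr ⟨μ / z, hWtp _ (hUtp _ hmem hne), (hspan _ hmem hne).symm⟩
  by_cases hv : v = 0
  · rw [hv, zero_smul, add_zero] at hb
    have hu : u ≠ 0 := by
      intro hu
      rw [hu, zero_smul, add_zero] at hb
      have := hWtp b (hUtp b hbU hb0)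
      rw [hb] at this
      exact hWa z (fun h => hb0 (by rw [hb, h, zero_smul])) this
    exact Or.inr (key u hu f₁ hb)
  · refine Or.inl (Set.mem_biUnion (x := u / v) ?_ (key v hv _ ?_))
    · refine hTmem z (u / v) v hv fun r hr => ?_
      have e : (v * (u / v)) • f₁ + v • f₂ + z • a = b := by
        rw [mul_div_cancel₀ _ hv, hb]; abel
      rw [e]
      exact hUtp _ (U.smul_mem _ hbU) (smul_ne_zero hr hb0)
    · rw [hb, smul_add, smul_smul, mul_div_cancel₀ _ hv]; abel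

end Groth.Agent.CubicFive
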