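import Groth.Agent.Cubics.LinesSing
import Groth.Agent.Cubics.TPoints
import Mathlib.LinearAlgebra.Matrix.ToLinearEquiv

/-!
# Smooth cubic surfaces: plane sections, lines through a point, tritangent planes through a line
-/

namespace Groth.Agent.CubicFive

open Groth.Agent.CubicODP Polynomial

variable {K : Type*} [Field K] [CharZero K] [IsAlgClosed K] (C₀ : Tri K 4)

/-- A linear form on `K³` given by coefficients. -/
def lf (l : Fin 3 → K) (x : Fin 3 → K) : K := l 0 * x 0 + l 1 * x 1 + l 2 * x 2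

/-- The parametrisation of a plane. -/
def pl (u v w : Fin 4 → K) (x : Fin 3 → K) : Fin 4 → K := x 0 • u + x 1 • v + x 2 • w

theorem pl_ne_zero {u v w : Fin 4 → K} (hli : LinearIndependent K ![u, v, w]) {x : Fin 3 → K} (hx : x ≠ 0) :
    pl u v w x ≠ 0 := by
  intro h
  refine hx (funext fun i => Fintype.linearIndependent_iff.1 hli x ?_ i)
  rw [← h, Fin.sum_univ_three]
  simp [pl]

theorem exists_zero_of_lf (l : Fin 3 → K) : ∃ a b : Fin 3 → K, lf l a = 0 ∧ lf l b = 0 ∧ LinearIndependent K ![a, b] := by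
  have li : ∀ a b : Fin 3 → K, ∀ i j : Fin 3, a i ≠ 0 → a j = 0 → b j ≠ 0 → LinearIndependent K ![a, b] := by
    intro a b i j hi hj hb
    refine LinearIndependent.pair_iff.2 fun s t h => ?_
    have hj' := congrFun h j
    simp [hj, hb] at hj'
    subst hj'
    have hi' := congrFun h i
    simp [hi] at hi'
    exact ⟨hi', rfl⟩
  by_cases h0 : l 0 = 0
  · by_cases h1 : l 1 = 0
    · exact ⟨![1, 0, 0], ![0, 1, 0], by simp [lf, h0], by simp [lf, h1], li _ _ 0 1 (by simp) (by simp) (by simp)⟩
    · exact ⟨![1, 0, 0], ![0, l 2, -l 1], by simp [lf, h0], by simp [lf]; ring,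
        li _ _ 0 2 (by simp) (by simp) (by simpa using h1)⟩
  · exact ⟨![l 1, -l 0, 0], ![l 2, 0, -l 0], by simp [lf]; ring, by simp [lf]; ring,
      li _ _ 1 2 (by simpa using h0) (by simp) (by simpa using h0)⟩

theorem exists_isotropic {M : Type*} [AddCommGroup M] [Module K M] (β : M →ₗ[K] M →ₗ[K] K) (a b : M) :
    ∃ s t : K, (s ≠ 0 ∨ t ≠ 0) ∧ β (s • a + t • b) (s • a + t • b) = 0 := by
  by_cases ha : β a a = 0
  · exact ⟨1, 0, Or.inl one_ne_zero, by simpa using ha⟩
  · obtain ⟨r, hr⟩ := exists_root_quadratic (β a a) (β a b + β b a) (β b b) ha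
    refine ⟨r, 1, Or.inr one_ne_zero, ?_⟩
    simp only [map_add, map_smul, LinearMap.add_apply, LinearMap.smul_apply, smul_eq_mul]
    linear_combination hr

variable (hs : C₀.Smooth)

include hs in
/-- No plane section has a double component. -/
theorem no_square {u v w : Fin 4 → K} (hli : LinearIndependent K ![u, v, w]) (l h : Fin 3 → K) :
    ¬ ∀ x, C₀.F (pl u v w x) = lf l x ^ 2 * lf h x := by
  intro hF
  obtain ⟨a, b, ha, hb, hab⟩ := exists_zero_of_lf l
  obtain ⟨r, hr⟩ := exists_linearIndependent_snoc_of_lt_finrank hli (by simp)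
  obtain ⟨s, t, hst, hT⟩ := exists_isotropic
    ((C₀.T.compr₂ (LinearMap.applyₗ r)) : (Fin 4 → K) →ₗ[K] (Fin 4 → K) →ₗ[K] K) (pl u v w a) (pl u v w b)
  set x := s • a + t • b with hx
  have hX : s • pl u v w a + t • pl u v w b = pl u v w x := by
    simp only [pl, hx, Pi.add_apply, Pi.smul_apply, smul_eq_mul]; module
  rw [hX] at hT
  have hT' : C₀.T (pl u v w x) (pl u v w x) r = 0 := by simpa using hT
  have hx0 : x ≠ 0 := by
    intro h0
    obtain ⟨h1, h2⟩ := LinearIndependent.pair_iff.1 hab s t h0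
    exact hst.elim (fun h => h h1) fun h => h h2
  have hlx : lf l x = 0 := by
    simp only [lf, hx, Pi.add_apply, Pi.smul_apply, smul_eq_mul] at ha hb ⊢
    linear_combination s * ha + t * hb
  have hFx : C₀.F (pl u v w x) = 0 := by rw [hF, hlx]; ring
  have hy : ∀ y, C₀.T (pl u v w x) (pl u v w x) (pl u v w y) = 0 := by
    intro y
    let P : K[X] := C (3 * C₀.T (pl u v w x) (pl u v w x) (pl u v w y)) +
      C (3 * C₀.T (pl u v w x) (pl u v w y) (pl u v w y)) * X + C (C₀.F (pl u v w y)) * X ^ 2 -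
      C (lf l y ^ 2) * X * (C (lf h x) + C (lf h y) * X)
    have hP : X * P = 0 := eq_zero_of_forall_eval _ fun c => by
      have e := hF (x + c • y)
      rw [show pl u v w (x + c • y) = pl u v w x + c • pl u v w y by
        simp only [pl, Pi.add_apply, Pi.smul_apply, smul_eq_mul]; module, Tri.F_add_smul, hFx] at e
      simp only [lf, Pi.add_apply, Pi.smul_apply, smul_eq_mul] at e hlx
      simp only [P, lf, eval_mul, eval_sub, eval_add, eval_pow, eval_C, eval_X]
      linear_combination e + ((l 0 * x 0 + l 1 * x 1 + l 2 * x 2) + 2 * c * (l 0 * y 0 + l 1 * y 1 + l 2 * y 2)) *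
        (h 0 * (x 0 + c * y 0) + h 1 * (x 1 + c * y 1) + h 2 * (x 2 + c * y 2)) * hlx
    have h0 : P.eval 0 = 0 := by rw [(mul_eq_zero.1 hP).resolve_left X_ne_zero, eval_zero]
    simpa [P] using h0
  obtain ⟨z, hz⟩ := hs _ (pl_ne_zero hli hx0) hFx
  let B : Module.Basis (Fin 4) K (Fin 4 → K) := basisOfLinearIndependentOfCardEqFinrank hr (by simp)
  refine hz ?_
  have hzero : C₀.T (pl u v w x) (pl u v w x) = 0 := B.ext fun i => by
    simp only [B, coe_basisOfLinearIndependentOfCardEqFinrank, LinearMap.zero_apply]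
    refine Fin.lastCases ?_ (fun j => ?_) i
    · rw [Fin.snoc_last]; exact hT'
    · rw [Fin.snoc_castSucc]
      fin_cases j
      · simpa [pl] using hy ![1, 0, 0]
      · simpa [pl] using hy ![0, 1, 0]
      · simpa [pl] using hy ![0, 0, 1]
  rw [hzero]; rfl

include hs in
theorem noPlane_smooth : NoPlane C₀ := by
  intro x y z hli
  by_contra h
  push Not at h
  exact no_square C₀ hs hli 0 0 fun p => by rw [show pl x y z p = p 0 • x + p 1 • y + p 2 • z from rfl, h]; simp [lf]

theorem span_pair_eq' {a w : Fin 4 → K} {U : Submodule K (Fin 4 → K)} (hU : Module.finrank K U = 2)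
    (hli : LinearIndependent K ![a, w]) (ha : a ∈ U) (hw : w ∈ U) : Submodule.span K {a, w} = U := by
  refine Submodule.eq_of_le_of_finrank_eq (Submodule.span_le.2 ?_) ?_
  · rintro x (rfl | rfl)
    · exact ha
    · exact hw
  · rw [hU]
    have := finrank_span_eq_card hli
    rw [Matrix.range_cons_cons_empty, Fintype.card_fin] at this
    exact this

include hs in
/-- At most three lines through a point, all in the tangent plane. -/
theorem lines_through_point {a : Fin 4 → K} (ha : a ≠ 0) (hFa : C₀.F a = 0) :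
    {U : Submodule K (Fin 4 → K) | a ∈ U ∧ (Module.finrank K ↥U = 2 ∧ ∀ u ∈ U, C₀.F u = 0)}.encard ≤ 3 ∧
      ∃ H : Submodule K (Fin 4 → K), Module.finrank K ↥H = 3 ∧
        ∀ U : Submodule K (Fin 4 → K), a ∈ U → (Module.finrank K ↥U = 2 ∧ ∀ u ∈ U, C₀.F u = 0) → U ≤ H := by
  obtain ⟨e, he⟩ := hs a ha hFa
  have h0 : C₀.T a a a = 0 := hFa
  have key : ∀ U : Submodule K (Fin 4 → K), a ∈ U → (∀ u ∈ U, C₀.F u = 0) →
      ∀ u ∈ U, C₀.T a a u = 0 ∧ C₀.T a u u = 0 := fun U haU hU u hu => by
    have h1 := hU _ (U.add_mem hu (U.smul_mem (1 : K) haU))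
    have h2 := hU _ (U.add_mem hu (U.smul_mem (-1 : K) haU))
    have h3 := hU u hu
    rw [Tri.F_add_smul, C₀.rev u u a, C₀.rev u a a, hFa] at h1 h2
    exact ⟨by linear_combination (h1 + h2 - 2 * h3) / 6, by linear_combination (h1 - h2) / 6⟩
  have hli2 : LinearIndependent K ![a, e] := by
    refine LinearIndependent.pair_iff.2 fun r s h => ?_
    have h' := congrArg (C₀.T a a) h
    simp [h0, he] at h'
    rw [h', zero_smul, add_zero] at h
    exact ⟨(smul_eq_zero.1 h).resolve_right ha, h'⟩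
  obtain ⟨g₁, g₂, hg⟩ := exists_completion hli2
  set e₁ := g₁ + (-(C₀.T a a g₁) / C₀.T a a e) • e with he₁
  set e₂ := g₂ + (-(C₀.T a a g₂) / C₀.T a a e) • e with he₂
  have h1 : C₀.T a a e₁ = 0 := by simp [he₁, he]
  have h2 : C₀.T a a e₂ = 0 := by simp [he₂, he]
  have hli : LinearIndependent K ![a, e₁, e₂, e] := by
    refine Fintype.linearIndependent_iff.2 fun c hc => ?_
    have := Fintype.linearIndependent_iff.1 hg ![c 0,
      c 3 + c 1 * (-(C₀.T a a g₁) / C₀.T a a e) + c 2 * (-(C₀.T a a g₂) / C₀.T a a e), c 1, c 2] (by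
        rw [← hc, he₁, he₂]
        simp only [Fin.sum_univ_four, Matrix.cons_val_zero, Matrix.cons_val_one, Matrix.cons_val]
        module)
    have i1 : c 1 = 0 := this 2
    have i2 : c 2 = 0 := this 3
    intro i
    fin_cases i
    · exact this 0
    · exact i1
    · exact i2
    · simpa [i1, i2] using this 1
  let bas : Module.Basis (Fin 4) K (Fin 4 → K) := basisOfLinearIndependentOfCardEqFinrank hli (by simp)
  refine ⟨?_, LinearMap.ker (C₀.T a a), ?_, fun U haU ⟨_, hU⟩ u hu => (key U haU hU u hu).1⟩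
  swap
  · have hr := LinearMap.finrank_range_add_finrank_ker (C₀.T a a)
    have htop : LinearMap.range (C₀.T a a) = ⊤ := by
      refine LinearMap.range_eq_top.2 fun c => ⟨(c / C₀.T a a e) • e, ?_⟩
      rw [map_smul, smul_eq_mul, div_mul_cancel₀ _ he]
    rw [htop, finrank_top, Module.finrank_self] at hr
    simp only [Module.finrank_fin_fun] at hr ⊢
    show Module.finrank K ↥(LinearMap.ker (C₀.T a a)) = 3
    omega
  -- the lines as roots of a binary form
  let cp : K[X] := C (C₀.F e₁) * X ^ 3 + C (3 * C₀.T e₁ e₁ e₂) * X ^ 2 + C (3 * C₀.T e₁ e₂ e₂) * X + C (C₀.F e₂)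
  let qp : K[X] := C (C₀.T a e₁ e₁) * X ^ 2 + C (2 * C₀.T a e₁ e₂) * X + C (C₀.T a e₂ e₂)
  have hline : ∀ U : Submodule K (Fin 4 → K), a ∈ U → Module.finrank K ↥U = 2 → (∀ u ∈ U, C₀.F u = 0) →
      (∃ t, cp.eval t = 0 ∧ qp.eval t = 0 ∧ U = Submodule.span K {a, t • e₁ + e₂}) ∨
      (C₀.F e₁ = 0 ∧ C₀.T a e₁ e₁ = 0 ∧ U = Submodule.span K {a, e₁}) := by
    intro U haU hU2 hU
    obtain ⟨w, hwU, hwa⟩ : ∃ w ∈ U, w ∉ Submodule.span K {a} := by
      by_contra h
      push Not at h
      have := Submodule.finrank_mono (show U ≤ Submodule.span K {a} from h)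
      rw [hU2, finrank_span_singleton ha] at this
      omega
    have hw : w = bas.coord 0 w • a + bas.coord 1 w • e₁ + bas.coord 2 w • e₂ + bas.coord 3 w • e := by
      conv_lhs => rw [← bas.sum_repr w, Fin.sum_univ_four]
      simp only [bas, coe_basisOfLinearIndependentOfCardEqFinrank]
      rfl
    have h3 : bas.coord 3 w = 0 := by
      have := (key U haU hU w hwU).1
      rw [hw] at this
      simpa [h0, h1, h2, he] using this
    rw [h3, zero_smul, add_zero] at hw
    set w' := bas.coord 1 w • e₁ + bas.coord 2 w • e₂ with hw'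
    have hw'U : w' ∈ U := by
      rw [show w' = w - bas.coord 0 w • a from by rw [eq_sub_iff_add_eq', hw', ← add_assoc]; exact hw.symm]
      exact U.sub_mem hwU (U.smul_mem _ haU)
    have lin2 : ∀ z, z ∈ U → z ∉ Submodule.span K {a} → U = Submodule.span K {a, z} := fun z hz hza =>
      (span_pair_eq' hU2 (by
        refine LinearIndependent.pair_iff.2 fun r s h => ?_
        by_cases hs0 : s = 0
        · rw [hs0, zero_smul, add_zero] at h
          exact ⟨(smul_eq_zero.1 h).resolve_right ha, hs0⟩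
        · refine absurd (Submodule.mem_span_singleton.2 ⟨-(r / s), ?_⟩) hza
          calc (-(r / s)) • a = (-(r / s)) • a + s⁻¹ • (r • a + s • z) := by rw [h, smul_zero, add_zero]
            _ = (s⁻¹ * s) • z := by module
            _ = z := by rw [inv_mul_cancel₀ hs0, one_smul]) haU hz).symm
    have hw'a : w' ∉ Submodule.span K {a} := fun h => hwa (by
      rw [hw, add_assoc, ← hw']
      exact Submodule.add_mem _ (Submodule.smul_mem _ _ (Submodule.mem_span_singleton_self a)) h)
    have hF := hU _ hw'U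
    have hQ := (key U haU hU _ hw'U).2
    by_cases hv : bas.coord 2 w = 0
    · right
      have hu : bas.coord 1 w ≠ 0 := fun hu => hw'a (by rw [hw', hu, hv]; simp)
      rw [hw', hv, zero_smul, add_zero] at hF hQ hw'U hw'a
      rw [Tri.F_smul, mul_eq_zero] at hF
      simp only [map_smul, LinearMap.smul_apply, smul_eq_mul, mul_eq_zero, hu, false_or] at hQ
      refine ⟨hF.resolve_left (pow_ne_zero _ hu), hQ, lin2 _ ?_ ?_⟩
      · have := U.smul_mem (bas.coord 1 w)⁻¹ hw'U
        rwa [inv_smul_smul₀ hu] at this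
      · exact fun h => hw'a (Submodule.smul_mem _ _ h)
    · left
      set v := bas.coord 2 w
      set t := bas.coord 1 w / v
      have e : w' = v • (t • e₁ + e₂) := by
        calc w' = (v * t) • e₁ + v • e₂ := by rw [hw', show v * t = bas.coord 1 w from mul_div_cancel₀ _ hv]
          _ = _ := by module
      rw [e] at hF hQ hw'U hw'a
      rw [Tri.F_smul, mul_eq_zero] at hF
      simp only [map_smul, LinearMap.smul_apply, smul_eq_mul, mul_eq_zero, hv, false_or] at hQ
      refine ⟨t, ?_, ?_, lin2 _ ?_ ?_⟩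
      · have := hF.resolve_left (pow_ne_zero _ hv)
        rw [show t • e₁ + e₂ = t • e₁ + (1 : K) • e₂ by rw [one_smul], Tri.F_two] at this
        simp only [cp, eval_add, eval_mul, eval_pow, eval_C, eval_X]
        linear_combination this
      · simp only [map_add, map_smul, LinearMap.add_apply, LinearMap.smul_apply, smul_eq_mul,
          C₀.swap23 a e₂ e₁] at hQ
        simp only [qp, eval_add, eval_mul, eval_pow, eval_C, eval_X]
        linear_combination hQ
      · have := U.smul_mem v⁻¹ hw'U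
        rwa [inv_smul_smul₀ hv] at this
      · exact fun h => hw'a (Submodule.smul_mem _ _ h)
  have hcp3 : cp.coeff 3 = C₀.F e₁ := by
    simp only [cp, coeff_add, coeff_C_mul_X_pow, coeff_C_mul_X, coeff_C]; norm_num
  by_cases hcp : cp = 0
  · have hqp : qp ≠ 0 := by
      intro hqp
      obtain ⟨x, y, z, hxyz⟩ := noPlane_smooth C₀ hs a e₁ e₂ (by
        convert hli.comp ![0, 1, 2] (by decide) using 1
        ext i : 1
        fin_cases i <;> rfl)
      apply hxyz
      have hA : C₀.T a e₁ e₁ = 0 := by simpa [qp, coeff_X, coeff_C] using congrArg (coeff · 2) hqp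
      have hB : C₀.T a e₁ e₂ = 0 := by simpa [qp, coeff_X, coeff_C] using congrArg (coeff · 1) hqp
      have hD : C₀.T a e₂ e₂ = 0 := by simpa [qp, coeff_X, coeff_C] using congrArg (coeff · 0) hqp
      have k : ∀ n, cp.coeff n = 0 := fun n => by rw [hcp, coeff_zero]
      have k2 := k 2
      have k1 := k 1
      have k0 := k 0
      simp only [cp, coeff_add, coeff_C_mul_X_pow, coeff_C_mul_X, coeff_C] at k2 k1 k0
      norm_num at k2 k1 k0
      rw [add_assoc, add_comm (x • a), section_eq C₀ h0 h1 h2, hA, hB, hD, ← hcp3, k 3, k2, k1, k0]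
      ring
    refine le_trans (proj_roots_encard 2 qp hqp (natDegree_quadratic_le) (fun t => Submodule.span K {a, t • e₁ + e₂})
      (Submodule.span K {a, e₁}) _ ?_) (by norm_num)
    rintro U ⟨haU, hU2, hU⟩
    rcases hline U haU hU2 hU with ⟨t, -, hq, rfl⟩ | ⟨-, hA, rfl⟩
    · exact Or.inl ⟨t, hq, rfl⟩
    · exact Or.inr ⟨rfl, by simp [qp, hA, coeff_X, coeff_C]⟩
  · refine proj_roots_encard 3 cp hcp natDegree_cubic_le (fun t => Submodule.span K {a, t • e₁ + e₂})
      (Submodule.span K {a, e₁}) _ ?_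
    rintro U ⟨haU, hU2, hU⟩
    rcases hline U haU hU2 hU with ⟨t, hc, -, rfl⟩ | ⟨hF, -, rfl⟩
    · exact Or.inl ⟨t, hc, rfl⟩
    · exact Or.inr ⟨rfl, hcp3.trans hF⟩

end Groth.Agent.CubicFive
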