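import Groth.Agent.Cubics.Tritangent
import Groth.Agent.Cubics.FiveApp

/-!
# Reduced plane sections and disjoint lines on smooth cubic surfaces
-/

namespace Groth.Agent.CubicFive

open Groth.Agent.CubicODP

variable {K : Type*} [Field K] [CharZero K] [IsAlgClosed K] (C₀ : Tri K 4) (hs : C₀.Smooth)

theorem exists_affine {g : MvPolynomial (Fin 3) K} (hg : g.totalDegree ≤ 1) :
    ∃ (c₀ : K) (l : Fin 3 → K), ∀ x, MvPolynomial.eval x g = c₀ + lf l x := by
  refine ⟨g.coeff 0, fun i => g.coeff (Finsupp.single i 1), fun x => ?_⟩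
  have hsup : g.support ⊆ {0, Finsupp.single (0 : Fin 3) 1, Finsupp.single 1 1, Finsupp.single 2 1} := by
    intro m hm
    have hle : (Finsupp.degree m) ≤ 1 := by
      refine le_trans ?_ hg
      rw [Finsupp.degree_apply]
      exact MvPolynomial.le_totalDegree hm
    rcases Nat.le_one_iff_eq_zero_or_eq_one.1 hle with h | h
    · simp [(Finsupp.degree_eq_zero_iff m).1 h]
    · have : m ∈ Set.range fun a : Fin 3 => Finsupp.single a 1 := by rw [Finsupp.range_single_one]; exact h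
      obtain ⟨i, rfl⟩ := this
      fin_cases i <;> simp
  rw [MvPolynomial.eval_eq', Finset.sum_subset hsup fun m _ hm => by
    rw [MvPolynomial.notMem_support_iff.1 hm, zero_mul]]
  have h0 : (0 : Fin 3 →₀ ℕ) ∉ ({Finsupp.single 0 1, Finsupp.single 1 1, Finsupp.single 2 1} : Finset (Fin 3 →₀ ℕ)) := by
    simp [eq_comm]
  rw [Finset.sum_insert h0, Finset.sum_insert (by simp [Finsupp.single_eq_single_iff]),
    Finset.sum_insert (by simp [Finsupp.single_eq_single_iff]), Finset.sum_singleton]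
  simp [lf, Fin.prod_univ_three, Finsupp.single_apply]
  ring

include hs in
theorem squarefree_section (f : MvPolynomial (Fin 4) K) (hf : f.IsHomogeneous 3) (hC : ∀ v, MvPolynomial.eval v f = C₀.F v)
    (A : Matrix (Fin 4) (Fin 3) K) (hA : A.rank = 3) :
    Squarefree (MvPolynomial.aeval
      (fun i : Fin 4 => ∑ j : Fin 3, MvPolynomial.C (A i j) * MvPolynomial.X j) f) := by
  classical
  set P := MvPolynomial.aeval (fun i : Fin 4 => ∑ j : Fin 3, MvPolynomial.C (A i j) * MvPolynomial.X j) f with hP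
  have hcol : LinearIndependent K ![A.col 0, A.col 1, A.col 2] := by
    have h := Matrix.rank_eq_finrank_span_cols A
    rw [hA] at h
    have e : (![A.col 0, A.col 1, A.col 2] : Fin 3 → Fin 4 → K) = A.col := by
      ext i : 1
      fin_cases i <;> rfl
    rw [e]
    exact linearIndependent_iff_card_eq_finrank_span.2 (by rw [Set.finrank, ← h, Fintype.card_fin])
  have hev : ∀ x, MvPolynomial.eval x P = C₀.F (pl (A.col 0) (A.col 1) (A.col 2) x) := fun x => by
    rw [hP, show MvPolynomial.eval x (MvPolynomial.aeval _ f) = MvPolynomial.eval (fun i => MvPolynomial.eval x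
      (∑ j : Fin 3, MvPolynomial.C (A i j) * MvPolynomial.X j)) f from MvPolynomial.eval₂Hom_bind₁ _ _ _ _, hC]
    refine congrArg C₀.F (funext fun i => ?_)
    simp [pl, Fin.sum_univ_three, Matrix.col]
    ring
  have hcub : ∀ (t : K) x, MvPolynomial.eval (t • x) P = t ^ 3 * MvPolynomial.eval x P := fun t x => by
    rw [hev, hev, ← Tri.F_smul]
    congr 1
    simp only [pl, Pi.smul_apply, smul_eq_mul]
    module
  intro g hg
  by_contra hu
  obtain ⟨h, hh⟩ := hg
  have hP0 : P ≠ 0 := fun h0 => no_square C₀ hs hcol 0 0 fun x => by rw [← hev, h0]; simp [lf]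
  have hg0 : g ≠ 0 := fun h0 => hP0 (by rw [hh, h0, zero_mul, zero_mul])
  have hh0 : h ≠ 0 := fun h0 => hP0 (by rw [hh, h0, mul_zero])
  have hdeg : P.totalDegree ≤ 3 := by
    refine MvPolynomial.IsHomogeneous.totalDegree_le (n := 3) ?_
    simpa [hP] using hf.aeval _ (fun i => MvPolynomial.IsHomogeneous.sum _ _ _ fun j _ =>
      MvPolynomial.isHomogeneous_C_mul_X (A i j) j)
  rw [hh, MvPolynomial.totalDegree_mul_of_isDomain (mul_ne_zero hg0 hg0) hh0,
    MvPolynomial.totalDegree_mul_of_isDomain hg0 hg0] at hdeg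
  have hgpos : g.totalDegree ≠ 0 := by
    intro h0
    rw [MvPolynomial.totalDegree_eq_zero_iff_eq_C] at h0
    refine hu ?_
    rw [h0]
    exact (isUnit_iff_ne_zero.2 fun hc => hg0 (by rw [h0, hc, map_zero])).map MvPolynomial.C
  obtain ⟨c₀, l, hl⟩ := exists_affine (g := g) (by omega)
  obtain ⟨d₀, l', hl'⟩ := exists_affine (g := h) (by omega)
  -- a homogeneous cubic divisible by the square of an affine form
  have key : ∀ x, MvPolynomial.eval x P = (c₀ + lf l x) ^ 2 * (d₀ + lf l' x) := fun x => by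
    rw [hh, map_mul, map_mul, hl, hl']; ring
  have hgz : ∀ x, lf l x ≠ 0 → c₀ ≠ 0 → MvPolynomial.eval x P = 0 := by
    intro x hx hc
    have := key ((-c₀ / lf l x) • x)
    rw [hcub] at this
    have e : c₀ + lf l ((-c₀ / lf l x) • x) = 0 := by
      simp only [lf, Pi.smul_apply, smul_eq_mul] at hx ⊢
      field_simp
      ring
    rw [e, zero_pow two_ne_zero, zero_mul, mul_eq_zero] at this
    exact this.resolve_left (pow_ne_zero _ (div_ne_zero (neg_ne_zero.2 hc) hx))
  have hlne : l ≠ 0 := by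
    intro h0
    apply hgpos
    have : g = MvPolynomial.C c₀ := MvPolynomial.funext fun x => by rw [hl, h0]; simp [lf]
    rw [this, MvPolynomial.totalDegree_C]
  have hc₀ : c₀ = 0 := by
    by_contra hc
    refine hP0 ?_
    let Ll : MvPolynomial (Fin 3) K := MvPolynomial.C (l 0) * MvPolynomial.X 0 + MvPolynomial.C (l 1) * MvPolynomial.X 1 +
      MvPolynomial.C (l 2) * MvPolynomial.X 2
    have hprod : P * Ll = 0 := MvPolynomial.funext fun x => by
      by_cases hx : lf l x = 0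
      · simp only [lf] at hx
        simp only [Ll, map_mul, map_add, MvPolynomial.eval_C, MvPolynomial.eval_X, map_zero, hx, mul_zero]
      · rw [map_mul, hgz x hx hc, zero_mul, map_zero]
    refine (mul_eq_zero.1 hprod).resolve_right fun h0 => hlne (funext fun i => ?_)
    have := congrArg (MvPolynomial.eval (Pi.single i 1)) h0
    fin_cases i <;> simpa [Ll] using this
  have hd₀ : ∀ x, MvPolynomial.eval x P = lf l x ^ 2 * lf l' x := by
    intro x
    have h1 := key x
    have h2 := key ((2 : K) • x)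
    rw [hcub] at h2
    simp only [lf, Pi.smul_apply, smul_eq_mul, hc₀, zero_add] at h1 h2 ⊢
    linear_combination h2 / 4 - h1
  exact no_square C₀ hs hcol l l' fun x => by rw [← hev, hd₀]

include hs in
theorem disjoint_lines (L : Submodule K (Fin 4 → K)) (hL2 : Module.finrank K ↥L = 2) (hLS : ∀ u ∈ L, C₀.F u = 0) :
    ∃ U₁ U₂ : Submodule K (Fin 4 → K), (Module.finrank K ↥U₁ = 2 ∧ ∀ u ∈ U₁, C₀.F u = 0) ∧
      (Module.finrank K ↥U₂ = 2 ∧ ∀ u ∈ U₂, C₀.F u = 0) ∧ U₁ ⊓ U₂ = ⊥ := by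
  classical
  have h5 := five_tritangent C₀ hs L hL2 hLS
  obtain ⟨H₁, H₂, ⟨hH₁, hLH₁, L₁, -, a2, -, aN, -, -, aH, -, aS, -⟩,
      ⟨hH₂, hLH₂, L₂, -, b2, -, bN, -, -, bH, -, bS, -⟩, hne⟩ :=
    (Set.one_lt_ncard_iff (Set.finite_of_ncard_ne_zero (by rw [h5]; norm_num))).1 (by rw [h5]; norm_num)
  refine ⟨L₁, L₂, ⟨a2, aS⟩, ⟨b2, bS⟩, ?_⟩
  by_contra hbot
  obtain ⟨p, hp, hp0⟩ := (Submodule.ne_bot_iff _).1 hbot
  obtain ⟨hp1, hp2⟩ := Submodule.mem_inf.1 hp
  have hinf : H₁ ⊓ H₂ = L := by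
    refine (Submodule.eq_of_le_of_finrank_le (le_inf hLH₁ hLH₂) ?_).symm
    rw [hL2]
    by_contra hlt
    push Not at hlt
    have e1 : H₁ ⊓ H₂ = H₁ := Submodule.eq_of_le_of_finrank_le inf_le_left (by rw [hH₁]; omega)
    exact hne (Submodule.eq_of_le_of_finrank_eq (e1 ▸ inf_le_right) (by rw [hH₁, hH₂]))
  have hpL : p ∈ L := by rw [← hinf]; exact ⟨aH hp1, bH hp2⟩
  obtain ⟨-, H, hH3, hH⟩ := lines_through_point C₀ hs hp0 (hLS p hpL)
  have l0 := hH L hpL ⟨hL2, hLS⟩
  have l1 := hH L₁ hp1 ⟨a2, aS⟩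
  have l2 := hH L₂ hp2 ⟨b2, bS⟩
  have key : ∀ (Li Hi : Submodule K (Fin 4 → K)), Module.finrank K ↥Li = 2 → Li ≠ L →
      Module.finrank K ↥Hi = 3 → L ≤ Hi → Li ≤ Hi → Li ≤ H → Hi = H := by
    intro Li Hi h2 hN h3 hLi hLiHi hLiH
    have hsup : L ⊔ Li ≤ Hi := sup_le hLi hLiHi
    have hlt : L < L ⊔ Li := by
      refine lt_of_le_of_ne le_sup_left fun heq => hN ?_
      exact Submodule.eq_of_le_of_finrank_eq (heq ▸ le_sup_right) (by rw [h2, hL2])
    have hgt := Submodule.finrank_lt_finrank_of_lt hlt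
    have e1 : L ⊔ Li = Hi := Submodule.eq_of_le_of_finrank_le hsup (by omega)
    exact Submodule.eq_of_le_of_finrank_eq (e1 ▸ sup_le l0 hLiH) (by rw [h3, hH3])
  exact hne ((key L₁ H₁ a2 aN hH₁ hLH₁ aH l1).trans (key L₂ H₂ b2 bN hH₂ hLH₂ bH l2).symm)

end Groth.Agent.CubicFive
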