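import Groth.Agent.Cubics.Hesse

/-! Monomial symmetries of the Hesse pencil. -/

namespace Groth.Agent.Cubics

open Matrix

/-- The monomial matrix carrying the `j`th basis vector to `d j` times the `σ j`th. -/
noncomputable def mon (σ : Equiv.Perm (Fin 3)) (d : Vec 3) : Matrix (Fin 3) (Fin 3) ℂ :=
  (Matrix.diagonal d).submatrix σ.symm id

theorem mon_mulVec (σ : Equiv.Perm (Fin 3)) (d x : Vec 3) (i : Fin 3) :
    (mon σ d).mulVec x i = d (σ.symm i) * x (σ.symm i) := by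
  rw [← Matrix.mulVec_diagonal]; rfl

theorem mon_det (σ : Equiv.Perm (Fin 3)) (d : Vec 3) :
    (mon σ d).det = ((Equiv.Perm.sign σ : ℤ) : ℂ) * (d 0 * d 1 * d 2) := by
  rw [mon, Matrix.det_permute]
  simp [Matrix.det_diagonal, Fin.prod_univ_three, Equiv.Perm.sign_symm]

theorem mon_mul (σ τ : Equiv.Perm (Fin 3)) (d e : Vec 3) :
    mon σ d * mon τ e = mon (σ * τ) (fun j => d (τ j) * e j) := by
  refine Matrix.mulVec_injective (funext fun x => funext fun i => ?_)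
  rw [← Matrix.mulVec_mulVec, mon_mulVec, mon_mulVec, mon_mulVec]
  have : (σ * τ).symm i = τ.symm (σ.symm i) := rfl
  rw [this, Equiv.apply_symm_apply]
  ring

theorem hes_mon (k : ℂ) (σ : Equiv.Perm (Fin 3)) (d x : Vec 3) :
    hes k ((mon σ d).mulVec x) = d 0 ^ 3 * x 0 ^ 3 + d 1 ^ 3 * x 1 ^ 3 + d 2 ^ 3 * x 2 ^ 3
      - 3 * k * ((d 0 * d 1 * d 2) * (x 0 * x 1 * x 2)) := by
  have hs := Equiv.sum_comp σ.symm (fun j => (d j * x j) ^ 3)
  have hp := Equiv.prod_comp σ.symm (fun j => d j * x j)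
  simp only [Fin.sum_univ_three, Fin.prod_univ_three] at hs hp
  simp only [hes, mon_mulVec]
  rw [hp, hs]
  ring

theorem mulVec_injective_of_det {A : Matrix (Fin 3) (Fin 3) ℂ} (hA : A.det ≠ 0) :
    Function.Injective A.mulVec :=
  Matrix.mulVec_injective_iff_isUnit.2 ((Matrix.isUnit_iff_isUnit_det A).2 hA.isUnit)

/-- A symmetry of the Hesse pencil carrying the standard flex to a given one. -/
theorem exists_mon_to {q : Vec 3} (hq : q ≠ 0) (h : NinePt q) :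
    ∃ (σ : Equiv.Perm (Fin 3)) (d : Vec 3) (a : ℂ), (∀ j, d j ^ 3 = 1) ∧ d 0 * d 1 * d 2 = 1 ∧
      a ≠ 0 ∧ (mon σ d).mulVec ![0, 1, -1] = a • q := by
  obtain ⟨γ, c, hγ, h⟩ := h
  have hc : c ≠ 0 := by rintro rfl; simp at h; exact hq h
  have hγ0 : γ ≠ 0 := by rintro rfl; simp at hγ
  have hd : ∀ j, (![1, γ, γ ^ 2] : Vec 3) j ^ 3 = 1 := by
    intro j; fin_cases j <;> simp [hγ, ← pow_mul]
    linear_combination (γ ^ 3 + 1) * hγ
  have hprod : (![1, γ, γ ^ 2] : Vec 3) 0 * ![1, γ, γ ^ 2] 1 * ![1, γ, γ ^ 2] 2 = 1 := by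
    simp; linear_combination hγ
  have ha : γ / c ≠ 0 := div_ne_zero hγ0 hc
  rcases h with rfl | rfl | rfl
  · refine ⟨1, _, _, hd, hprod, ha, funext fun i => ?_⟩
    rw [mon_mulVec]
    fin_cases i <;> simp [Equiv.Perm.one_def] <;> field_simp
  · refine ⟨finRotate 3, _, _, hd, hprod, ha, funext fun i => ?_⟩
    rw [mon_mulVec]
    fin_cases i <;> simp <;> field_simp
  · refine ⟨(finRotate 3).symm, _, _, hd, hprod, ha, funext fun i => ?_⟩
    rw [mon_mulVec]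
    fin_cases i <;> simp <;> field_simp

theorem hes_mon_sym (k : ℂ) (σ : Equiv.Perm (Fin 3)) {d : Vec 3} (hd : ∀ j, d j ^ 3 = 1)
    (hp : d 0 * d 1 * d 2 = 1) (x : Vec 3) : hes k ((mon σ d).mulVec x) = hes k x := by
  rw [hes_mon, hd, hd, hd, hp, hes]; ring

theorem mon_inj (σ : Equiv.Perm (Fin 3)) {d : Vec 3} (hp : d 0 * d 1 * d 2 ≠ 0) :
    Function.Injective (mon σ d).mulVec := by
  refine mulVec_injective_of_det ?_
  rw [mon_det]
  exact mul_ne_zero (by exact_mod_cast Units.ne_zero (Equiv.Perm.sign σ)) hp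

end Groth.Agent.Cubics
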