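import Groth.Agent.Cubics.Smooth
import Mathlib.FieldTheory.IsAlgClosed.Basic

/-!
# The five tritangent planes through a line
-/

namespace Groth.Agent.CubicFive

open Groth.Agent.CubicODP Polynomial

variable {K : Type*} [Field K] [CharZero K]

/-- Entries of the conic residual to `⟨l₀, l₁⟩` in the plane through `P`. -/
def cM (C₀ : Tri K 4) (l₀ l₁ P : Fin 4 → K) : Matrix (Fin 3) (Fin 3) K :=
  !![3 * C₀.T l₀ l₀ P, 3 * C₀.T l₀ l₁ P, 3 / 2 * C₀.T l₀ P P;
     3 * C₀.T l₀ l₁ P, 3 * C₀.T l₁ l₁ P, 3 / 2 * C₀.T l₁ P P;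
     3 / 2 * C₀.T l₀ P P, 3 / 2 * C₀.T l₁ P P, C₀.F P]

/-- The quadratic form of a symmetric `3 × 3` matrix. -/
def qf (a b c d f g : K) (x : Fin 3 → K) : K :=
  a * x 0 ^ 2 + 2 * b * x 0 * x 1 + c * x 1 ^ 2 + 2 * d * x 0 * x 2 + 2 * f * x 1 * x 2 + g * x 2 ^ 2

/-- The determinant of a symmetric `3 × 3` matrix. -/
def dt {R : Type*} [CommRing R] (a b c d f g : R) : R :=
  a * c * g + 2 * b * f * d - a * f ^ 2 - c * d ^ 2 - g * b ^ 2

/-- The differential of `dt` in the direction of the second tuple. -/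
def ddt (a b c d f g a' b' c' d' f' g' : K) : K :=
  a' * (c * g - f ^ 2) + c' * (a * g - d ^ 2) + g' * (a * c - b ^ 2) + 2 * b' * (f * d - g * b) +
    2 * d' * (b * f - c * d) + 2 * f' * (b * d - a * f)

/-- Factorisation of a degenerate conic and the differential of its determinant. -/
theorem degenerate_conic [IsAlgClosed K] (a b c d f g : K) (v : Fin 3 → K) (hv : v ≠ 0)
    (r0 : a * v 0 + b * v 1 + d * v 2 = 0) (r1 : b * v 0 + c * v 1 + f * v 2 = 0)
    (r2 : d * v 0 + f * v 1 + g * v 2 = 0) :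
    ∃ (κ : K) (l l' : Fin 3 → K),
      (∀ a' b' c' d' f' g', ddt a b c d f g a' b' c' d' f' g' = κ * qf a' b' c' d' f' g' v) ∧
      (∀ x, qf a b c d f g x = lf l x * lf l' x) ∧
      (κ = 0 → l = 0 ∨ ∃ s : K, l' = s • l) ∧
      (κ ≠ 0 → l 0 * l' 1 - l 1 * l' 0 ≠ 0 ∨ l 0 * l' 2 - l 2 * l' 0 ≠ 0 ∨ l 1 * l' 2 - l 2 * l' 1 ≠ 0) := by
  have build : ∀ (A B D κ : K) (p q : Fin 3 → K), (A * D - B ^ 2 = 0 ↔ κ = 0) →
      (p 0 * q 1 - p 1 * q 0 ≠ 0 ∨ p 0 * q 2 - p 2 * q 0 ≠ 0 ∨ p 1 * q 2 - p 2 * q 1 ≠ 0) →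
      (∀ a' b' c' d' f' g', ddt a b c d f g a' b' c' d' f' g' = κ * qf a' b' c' d' f' g' v) →
      (∀ x, qf a b c d f g x = A * lf p x ^ 2 + 2 * B * lf p x * lf q x + D * lf q x ^ 2) →
      ∃ (κ : K) (l l' : Fin 3 → K),
        (∀ a' b' c' d' f' g', ddt a b c d f g a' b' c' d' f' g' = κ * qf a' b' c' d' f' g' v) ∧
        (∀ x, qf a b c d f g x = lf l x * lf l' x) ∧
        (κ = 0 → l = 0 ∨ ∃ s : K, l' = s • l) ∧
        (κ ≠ 0 → l 0 * l' 1 - l 1 * l' 0 ≠ 0 ∨ l 0 * l' 2 - l 2 * l' 0 ≠ 0 ∨ l 1 * l' 2 - l 2 * l' 1 ≠ 0) := by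
    intro A B D κ p q hκ hpq hd hq
    obtain ⟨α, β, γ, δ, hf⟩ := binary_quadratic A (2 * B) D
    have hA : A = α * γ := by linear_combination hf 1 0
    have hD : D = β * δ := by linear_combination hf 0 1
    have hB : 2 * B = α * δ + β * γ := by linear_combination hf 1 1 - hA - hD
    have hdet : (α * δ - β * γ) ^ 2 = -4 * (A * D - B ^ 2) := by
      rw [hA, hD]; linear_combination (-(α * δ + β * γ) - 2 * B) * hB
    refine ⟨κ, α • p + β • q, γ • p + δ • q, hd, fun x => ?_, fun h => ?_, fun h => ?_⟩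
    · rw [hq, hf (lf p x) (lf q x)]
      simp [lf]; ring
    · have h0 : α * δ - β * γ = 0 := eq_zero_of_pow_eq_zero (n := 2) (by rw [hdet, hκ.2 h, mul_zero])
      by_cases hα : α = 0
      · by_cases hβ : β = 0
        · exact Or.inl (by rw [hα, hβ, zero_smul, zero_smul, add_zero])
        · refine Or.inr ⟨δ / β, ?_⟩
          have hγ : γ = 0 := (mul_eq_zero.1 (show β * γ = 0 by rw [hα] at h0; linear_combination -h0)).resolve_left hβ
          simp only [hα, hγ, zero_smul, zero_add, smul_smul, div_mul_cancel₀ _ hβ]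
      · refine Or.inr ⟨γ / α, ?_⟩
        rw [smul_add, smul_smul, smul_smul, div_mul_cancel₀ _ hα,
          show γ / α * β = δ by field_simp; linear_combination -h0]
    · have h0 : α * δ - β * γ ≠ 0 := fun h0 => h (hκ.1 (by
        have := hdet
        rw [h0] at this
        linear_combination this / 4))
      simp only [Pi.add_apply, Pi.smul_apply, smul_eq_mul]
      rcases hpq with hc | hc | hc
      · exact Or.inl (by convert mul_ne_zero h0 hc using 1; ring)
      · exact Or.inr (Or.inl (by convert mul_ne_zero h0 hc using 1; ring))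
      · exact Or.inr (Or.inr (by convert mul_ne_zero h0 hc using 1; ring))
  by_cases h0 : v 0 ≠ 0
  · have eb : b = -(c * v 1 + f * v 2) / v 0 := by field_simp; linear_combination r1
    have ed : d = -(f * v 1 + g * v 2) / v 0 := by field_simp; linear_combination r2
    have ea : a = (c * v 1 ^ 2 + 2 * f * v 1 * v 2 + g * v 2 ^ 2) / v 0 ^ 2 := by
      field_simp
      linear_combination v 0 * r0 - v 1 * r1 - v 2 * r2
    refine build c f g ((c * g - f ^ 2) / v 0 ^ 2) ![-(v 1) / v 0, 1, 0] ![-(v 2) / v 0, 0, 1] ?_ ?_ ?_ ?_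
    · simp [h0]
    · exact Or.inr (Or.inr (by simp))
    · intro a' b' c' d' f' g'
      simp only [ddt, qf]; rw [ea, eb, ed]; field_simp; ring
    · intro x
      simp only [qf, lf, Matrix.cons_val_zero, Matrix.cons_val_one, Matrix.cons_val]
      rw [ea, eb, ed]; field_simp; ring
  · push Not at h0
    rw [h0] at r0 r1 r2
    by_cases h1 : v 1 ≠ 0
    · have eb : b = -(d * v 2) / v 1 := by field_simp; linear_combination r0
      have ef : f = -(g * v 2) / v 1 := by field_simp; linear_combination r2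
      have ec : c = g * v 2 ^ 2 / v 1 ^ 2 := by
        field_simp
        linear_combination v 1 * r1 - v 2 * r2
      refine build a d g ((a * g - d ^ 2) / v 1 ^ 2) ![1, 0, 0] ![0, -(v 2) / v 1, 1] ?_ ?_ ?_ ?_
      · simp [h1]
      · exact Or.inr (Or.inl (by simp))
      · intro a' b' c' d' f' g'
        simp only [ddt, qf]; rw [ec, eb, ef, h0]; field_simp; ring
      · intro x
        simp only [qf, lf, Matrix.cons_val_zero, Matrix.cons_val_one, Matrix.cons_val]
        rw [ec, eb, ef]; field_simp; ring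
    · push Not at h1
      rw [h1] at r0 r1 r2
      have h2 : v 2 ≠ 0 := fun h2 => hv (funext fun i => by fin_cases i <;> assumption)
      have ed : d = 0 := (mul_eq_zero.1 (show d * v 2 = 0 by linear_combination r0)).resolve_right h2
      have ef : f = 0 := (mul_eq_zero.1 (show f * v 2 = 0 by linear_combination r1)).resolve_right h2
      have eg : g = 0 := (mul_eq_zero.1 (show g * v 2 = 0 by linear_combination r2)).resolve_right h2
      refine build a b c ((a * c - b ^ 2) / v 2 ^ 2) ![1, 0, 0] ![0, 1, 0] ?_ ?_ ?_ ?_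
      · simp [h2]
      · exact Or.inl (by simp)
      · intro a' b' c' d' f' g'
        simp only [ddt, qf]; rw [ed, ef, eg, h0, h1]; field_simp; ring
      · intro x
        simp only [qf, lf, Matrix.cons_val_zero, Matrix.cons_val_one, Matrix.cons_val]
        rw [ed, ef, eg]; ring

variable (C₀ : Tri K 4)

/-- The residual conic. -/
def conic (l₀ l₁ P : Fin 4 → K) : (Fin 3 → K) → K :=
  qf (3 * C₀.T l₀ l₀ P) (3 * C₀.T l₀ l₁ P) (3 * C₀.T l₁ l₁ P) (3 / 2 * C₀.T l₀ P P) (3 / 2 * C₀.T l₁ P P) (C₀.F P)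

/-- The discriminant of the residual conic. -/
def disc3 (l₀ l₁ P : Fin 4 → K) : K :=
  dt (3 * C₀.T l₀ l₀ P) (3 * C₀.T l₀ l₁ P) (3 * C₀.T l₁ l₁ P) (3 / 2 * C₀.T l₀ P P) (3 / 2 * C₀.T l₁ P P) (C₀.F P)

theorem det_cM (l₀ l₁ P : Fin 4 → K) : (cM C₀ l₀ l₁ P).det = disc3 C₀ l₀ l₁ P := by
  simp only [Matrix.det_fin_three, disc3, dt, cM, Matrix.of_apply, Matrix.cons_val', Matrix.cons_val_zero,
    Matrix.cons_val_one, Matrix.cons_val, Matrix.cons_val_fin_one]
  ring

/-- The tuple of a line in the surface. -/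
def OnS (l₀ l₁ : Fin 4 → K) : Prop := ∀ x y : K, C₀.F (x • l₀ + y • l₁) = 0

variable {l₀ l₁ : Fin 4 → K}

theorem F_pl (hL : OnS C₀ l₀ l₁) (P : Fin 4 → K) (x : Fin 3 → K) :
    C₀.F (pl l₀ l₁ P x) = x 2 * conic C₀ l₀ l₁ P x := by
  rw [pl, Tri.F_add_smul, hL]
  simp only [map_add, map_smul, LinearMap.add_apply, LinearMap.smul_apply, smul_eq_mul, conic, qf,
    C₀.swap12 l₁ l₀]
  ring

/-- The plane through the line and a point. -/
noncomputable def plane (l₀ l₁ P : Fin 4 → K) : Submodule K (Fin 4 → K) :=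
  Submodule.span K (Set.range ![l₀, l₁, P])

theorem mem_plane {l₀ l₁ P u : Fin 4 → K} : u ∈ plane l₀ l₁ P ↔ ∃ x, pl l₀ l₁ P x = u := by
  rw [plane, Submodule.mem_span_range_iff_exists_fun]
  simp [Fin.sum_univ_three, pl]

variable [IsAlgClosed K] (hs : C₀.Smooth)

include hs in
/-- Everything about a root of the discriminant. -/
theorem at_root (hL : OnS C₀ l₀ l₁) {P e' : Fin 4 → K} (hli : LinearIndependent K ![l₀, l₁, P, e'])
    (h : disc3 C₀ l₀ l₁ P = 0) :
    ddt (3 * C₀.T l₀ l₀ P) (3 * C₀.T l₀ l₁ P) (3 * C₀.T l₁ l₁ P) (3 / 2 * C₀.T l₀ P P) (3 / 2 * C₀.T l₁ P P) (C₀.F P)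
      (3 * C₀.T l₀ l₀ e') (3 * C₀.T l₀ l₁ e') (3 * C₀.T l₁ l₁ e') (3 * C₀.T l₀ P e') (3 * C₀.T l₁ P e')
      (3 * C₀.T P P e') ≠ 0 ∧
    ∃ L' L'' : Submodule K (Fin 4 → K), Module.finrank K ↥L' = 2 ∧ Module.finrank K ↥L'' = 2 ∧
      L' ≠ Submodule.span K {l₀, l₁} ∧ L'' ≠ Submodule.span K {l₀, l₁} ∧ L' ≠ L'' ∧
      L' ≤ plane l₀ l₁ P ∧ L'' ≤ plane l₀ l₁ P ∧ (∀ u ∈ L', C₀.F u = 0) ∧ (∀ u ∈ L'', C₀.F u = 0) := by
  have hli3 : LinearIndependent K ![l₀, l₁, P] := by
    have e : (![l₀, l₁, P] : Fin 3 → Fin 4 → K) = ![l₀, l₁, P, e'] ∘ ![0, 1, 2] := by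
      ext i : 1
      fin_cases i <;> rfl
    rw [e]
    exact hli.comp _ (by decide)
  obtain ⟨v, hv, hMv⟩ := Matrix.exists_mulVec_eq_zero_iff.2 ((det_cM C₀ l₀ l₁ P).trans h)
  have r0 := congrFun hMv 0
  have r1 := congrFun hMv 1
  have r2 := congrFun hMv 2
  simp [cM, Matrix.mulVec, dotProduct, Fin.sum_univ_three] at r0 r1 r2
  obtain ⟨κ, l, l', hd, hq, hsq, hind⟩ := degenerate_conic _ _ _ _ _ _ v hv r0 r1 r2
  have hF : ∀ x, C₀.F (pl l₀ l₁ P x) = x 2 * (lf l x * lf l' x) := fun x => by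
    rw [F_pl C₀ hL, conic, hq]
  have hκ : κ ≠ 0 := by
    intro hk
    rcases hsq hk with rfl | ⟨s, rfl⟩
    · exact no_square C₀ hs hli3 0 0 fun x => by rw [hF]; simp [lf]
    · exact no_square C₀ hs hli3 l ![0, 0, s] fun x => by rw [hF]; simp [lf]; ring
  constructor
  · rw [hd]
    refine mul_ne_zero hκ ?_
    have e : qf (3 * C₀.T l₀ l₀ e') (3 * C₀.T l₀ l₁ e') (3 * C₀.T l₁ l₁ e') (3 * C₀.T l₀ P e') (3 * C₀.T l₁ P e')
        (3 * C₀.T P P e') v = 3 * C₀.T (pl l₀ l₁ P v) (pl l₀ l₁ P v) e' := by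
      simp only [qf, pl, map_add, map_smul, LinearMap.add_apply, LinearMap.smul_apply, smul_eq_mul,
        C₀.swap12 l₁ l₀, C₀.swap12 P l₀, C₀.swap12 P l₁]
      ring
    rw [e]
    refine mul_ne_zero three_ne_zero ?_
    have hq0 : conic C₀ l₀ l₁ P v = 0 := by
      simp only [conic, qf]
      linear_combination v 0 * r0 + v 1 * r1 + v 2 * r2
    have hFv : C₀.F (pl l₀ l₁ P v) = 0 := by rw [F_pl C₀ hL, hq0, mul_zero]
    obtain ⟨z, hz⟩ := hs _ (pl_ne_zero hli3 hv) hFv
    intro he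
    refine hz ?_
    have c00 := hL 1 0
    have c11 := hL 0 1
    have c1 := hL 1 1
    have c2 := hL 1 (-1)
    simp only [one_smul, zero_smul, add_zero, zero_add] at c00 c11 c1
    rw [← one_smul K l₁, Tri.F_add_smul, c00, c11] at c1
    rw [one_smul, Tri.F_add_smul, c00, c11] at c2
    have c01 : C₀.T l₀ l₀ l₁ = 0 := by linear_combination (c1 - c2) / 6
    have c10 : C₀.T l₀ l₁ l₁ = 0 := by linear_combination (c1 + c2) / 6
    have f0 : C₀.T l₀ l₀ l₀ = 0 := c00
    have f1 : C₀.T l₁ l₁ l₁ = 0 := c11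
    have fP : C₀.F P = C₀.T P P P := rfl
    let B : Module.Basis (Fin 4) K (Fin 4 → K) := basisOfLinearIndependentOfCardEqFinrank hli (by simp)
    have hzero : C₀.T (pl l₀ l₁ P v) (pl l₀ l₁ P v) = 0 := B.ext fun i => by
      simp only [B, coe_basisOfLinearIndependentOfCardEqFinrank, LinearMap.zero_apply]
      have key : ∀ u, C₀.T (pl l₀ l₁ P v) (pl l₀ l₁ P v) u =
          v 0 ^ 2 * C₀.T l₀ l₀ u + 2 * v 0 * v 1 * C₀.T l₀ l₁ u + v 1 ^ 2 * C₀.T l₁ l₁ u
            + 2 * v 0 * v 2 * C₀.T l₀ P u + 2 * v 1 * v 2 * C₀.T l₁ P u + v 2 ^ 2 * C₀.T P P u := fun u => by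
        simp only [pl, map_add, map_smul, LinearMap.add_apply, LinearMap.smul_apply, smul_eq_mul,
          C₀.swap12 l₁ l₀, C₀.swap12 P l₀, C₀.swap12 P l₁]
        ring
      fin_cases i
      · show C₀.T _ _ l₀ = 0
        rw [key, C₀.swap23 l₀ l₁ l₀, C₀.rev l₁ l₁ l₀, C₀.swap23 l₀ P l₀, C₀.rot l₁ P l₀, C₀.swap23 P l₀ l₁,
          C₀.rot P l₁ l₀, C₀.swap12 l₁ l₀ P, C₀.rev P P l₀, f0, c01, c10]
        linear_combination (2 * v 2 / 3) * r0
      · show C₀.T _ _ l₁ = 0
        rw [key, C₀.swap23 l₀ P l₁, C₀.swap23 l₁ P l₁, C₀.rev P P l₁, f1, c01, c10]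
        linear_combination (2 * v 2 / 3) * r1
      · show C₀.T _ _ P = 0
        simp only [conic, qf, fP] at hq0
        rw [key]
        simp only [fP] at r2
        linear_combination (hq0 + 2 * v 2 * r2) / 3
      · exact he
    rw [hzero]; rfl
  -- the two residual lines
  have mk : ∀ m : Fin 3 → K, (m 0 ≠ 0 ∨ m 1 ≠ 0) → (∀ x, lf m x = 0 → C₀.F (pl l₀ l₁ P x) = 0) →
      ∃ L' : Submodule K (Fin 4 → K), Module.finrank K ↥L' = 2 ∧ L' ≠ Submodule.span K {l₀, l₁} ∧
        L' ≤ plane l₀ l₁ P ∧ (∀ u ∈ L', C₀.F u = 0) ∧ ∀ x, pl l₀ l₁ P x ∈ L' ↔ lf m x = 0 := by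
    intro m hm hm0
    let φ : (Fin 3 → K) →ₗ[K] Fin 4 → K :=
      (LinearMap.proj (0 : Fin 3)).smulRight l₀ + (LinearMap.proj (1 : Fin 3)).smulRight l₁ +
        (LinearMap.proj (2 : Fin 3)).smulRight P
    let ψ : (Fin 3 → K) →ₗ[K] K := m 0 • LinearMap.proj 0 + m 1 • LinearMap.proj 1 + m 2 • LinearMap.proj 2
    have hφ : ∀ x, φ x = pl l₀ l₁ P x := fun x => rfl
    have hψ : ∀ x, ψ x = lf m x := fun x => rfl
    have hinj : Function.Injective φ := by
      rw [← LinearMap.ker_eq_bot, LinearMap.ker_eq_bot']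
      intro x hx
      by_contra h
      exact pl_ne_zero hli3 h hx
    have hmem : ∀ x, pl l₀ l₁ P x ∈ (LinearMap.ker ψ).map φ ↔ lf m x = 0 := fun x => by
      rw [← hφ, Submodule.mem_map]
      constructor
      · rintro ⟨y, hy, hyx⟩
        rw [← hinj hyx]; exact hy
      · exact fun h => ⟨x, h, rfl⟩
    refine ⟨(LinearMap.ker ψ).map φ, ?_, ?_, ?_, ?_, hmem⟩
    · rw [← LinearEquiv.finrank_eq (Submodule.equivMapOfInjective φ hinj _)]
      have hr := LinearMap.finrank_range_add_finrank_ker ψ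
      have hne : ∃ x, ψ x ≠ 0 := hm.elim (fun h => ⟨![1, 0, 0], by simpa [hψ, lf] using h⟩)
        fun h => ⟨![0, 1, 0], by simpa [hψ, lf] using h⟩
      obtain ⟨x, hx⟩ := hne
      have htop : LinearMap.range ψ = ⊤ :=
        LinearMap.range_eq_top.2 fun c => ⟨(c / ψ x) • x, by rw [map_smul, smul_eq_mul, div_mul_cancel₀ _ hx]⟩
      rw [htop, finrank_top, Module.finrank_self, Module.finrank_fin_fun] at hr
      omega
    · intro heq
      have h0 : pl l₀ l₁ P ![1, 0, 0] ∈ Submodule.span K {l₀, l₁} := by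
        simp [pl, Submodule.mem_span_of_mem]
      have h1 : pl l₀ l₁ P ![0, 1, 0] ∈ Submodule.span K {l₀, l₁} := by
        simp [pl, Submodule.mem_span_of_mem]
      rw [← heq, hmem] at h0 h1
      simp [lf] at h0 h1
      exact hm.elim (fun h => h h0) fun h => h h1
    · rintro u ⟨y, -, rfl⟩
      exact mem_plane.2 ⟨y, (hφ y).symm⟩
    · rintro u ⟨y, hy, rfl⟩
      exact hm0 y hy
  have hm : l 0 ≠ 0 ∨ l 1 ≠ 0 := by
    by_contra hc
    push Not at hc
    exact no_square C₀ hs hli3 ![0, 0, 1] (l 2 • l') fun x => by rw [hF]; simp [lf, hc.1, hc.2]; ring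
  have hm' : l' 0 ≠ 0 ∨ l' 1 ≠ 0 := by
    by_contra hc
    push Not at hc
    exact no_square C₀ hs hli3 ![0, 0, 1] (l' 2 • l) fun x => by rw [hF]; simp [lf, hc.1, hc.2]; ring
  obtain ⟨L', a1, a2, a3, a4, a5⟩ := mk l hm fun x hx => by rw [hF, hx]; ring
  obtain ⟨L'', b1, b2, b3, b4, b5⟩ := mk l' hm' fun x hx => by rw [hF, hx]; ring
  refine ⟨L', L'', a1, b1, a2, b2, ?_, a3, b3, a4, b4⟩
  rintro rfl
  have iff' : ∀ x, lf l x = 0 → lf l' x = 0 := fun x hx => (b5 x).1 ((a5 x).2 hx)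
  have e1 := iff' ![l 1, -l 0, 0] (by simp [lf]; ring)
  have e2 := iff' ![l 2, 0, -l 0] (by simp [lf]; ring)
  have e3 := iff' ![0, l 2, -l 1] (by simp [lf]; ring)
  simp [lf] at e1 e2 e3
  rcases hind hκ with h | h | h
  · exact h (by linear_combination -e1)
  · exact h (by linear_combination -e2)
  · exact h (by linear_combination -e3)

omit [IsAlgClosed K] in
/-- A residual conic containing a line is degenerate. -/
theorem disc_of_line (hL : OnS C₀ l₀ l₁) {P : Fin 4 → K} (hli : LinearIndependent K ![l₀, l₁, P])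
    {L' : Submodule K (Fin 4 → K)} (h2 : Module.finrank K ↥L' = 2) (hne : L' ≠ Submodule.span K {l₀, l₁})
    (hle : L' ≤ plane l₀ l₁ P) (hS : ∀ u ∈ L', C₀.F u = 0) : disc3 C₀ l₀ l₁ P = 0 := by
  obtain ⟨u, huL, huN⟩ : ∃ u ∈ L', u ∉ Submodule.span K {l₀, l₁} := by
    by_contra h
    push Not at h
    refine hne (Submodule.eq_of_le_of_finrank_eq h ?_)
    rw [h2]
    have hli2 : LinearIndependent K ![l₀, l₁] := by
      have e : (![l₀, l₁] : Fin 2 → Fin 4 → K) = ![l₀, l₁, P] ∘ ![0, 1] := by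
        ext i : 1
        fin_cases i <;> rfl
      rw [e]
      exact hli.comp _ (by decide)
    have := finrank_span_eq_card hli2
    rw [Matrix.range_cons_cons_empty, Fintype.card_fin] at this
    exact this.symm
  have hu0 : u ≠ 0 := fun h => huN (by rw [h]; exact Submodule.zero_mem _)
  obtain ⟨w, hwL, hwu⟩ : ∃ w ∈ L', w ∉ Submodule.span K {u} := by
    by_contra h
    push Not at h
    have := Submodule.finrank_mono (show L' ≤ Submodule.span K {u} from h)
    rw [h2, finrank_span_singleton hu0] at this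
    omega
  obtain ⟨x, rfl⟩ := mem_plane.1 (hle huL)
  obtain ⟨y, rfl⟩ := mem_plane.1 (hle hwL)
  have hx2 : x 2 ≠ 0 := fun h => huN (by
    rw [pl, h, zero_smul, add_zero]
    exact Submodule.mem_span_pair.2 ⟨_, _, rfl⟩)
  set a := 3 * C₀.T l₀ l₀ P
  set b := 3 * C₀.T l₀ l₁ P
  set c := 3 * C₀.T l₁ l₁ P
  set d := 3 / 2 * C₀.T l₀ P P
  set f := 3 / 2 * C₀.T l₁ P P
  set g := C₀.F P
  set G : (Fin 3 → K) → (Fin 3 → K) → K := fun x y => a * x 0 * y 0 + b * (x 0 * y 1 + x 1 * y 0) + c * x 1 * y 1 +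
    d * (x 0 * y 2 + x 2 * y 0) + f * (x 1 * y 2 + x 2 * y 1) + g * x 2 * y 2 with hG
  let Z : K[X] := C (x 2) + C (y 2) * X
  let Q : K[X] := C (G x x) + C (2 * G x y) * X + C (G y y) * X ^ 2
  have hZQ : Z * Q = 0 := eq_zero_of_forall_eval _ fun s => by
    have := hS _ (L'.add_mem huL (L'.smul_mem s hwL))
    rw [show pl l₀ l₁ P x + s • pl l₀ l₁ P y = pl l₀ l₁ P (x + s • y) by
      simp only [pl, Pi.add_apply, Pi.smul_apply, smul_eq_mul]; module, F_pl C₀ hL] at this
    simp only [conic, qf, Pi.add_apply, Pi.smul_apply, smul_eq_mul] at this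
    simp only [Z, Q, G, eval_mul, eval_add, eval_pow, eval_C, eval_X]
    linear_combination this
  have hQ : Q = 0 := (mul_eq_zero.1 hZQ).resolve_left fun h => hx2 (by
    simpa [Z] using congrArg (eval 0) h)
  have g0 : G x x = 0 := by simpa [Q, coeff_X, coeff_C] using congrArg (coeff · 0) hQ
  have g1 : G x y = 0 := by simpa [Q, coeff_X, coeff_C] using congrArg (coeff · 1) hQ
  have g2 : G y y = 0 := by simpa [Q, coeff_X, coeff_C] using congrArg (coeff · 2) hQ
  have hxy : LinearIndependent K ![x, y] := by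
    refine LinearIndependent.pair_iff.2 fun s t h => ?_
    have ht : t = 0 := by
      by_contra ht
      refine hwu (Submodule.mem_span_singleton.2 ⟨-(s / t), ?_⟩)
      have hy : y = (-(s / t)) • x := funext fun i => by
        have := congrFun h i
        simp only [Pi.add_apply, Pi.smul_apply, smul_eq_mul, Pi.zero_apply] at this ⊢
        field_simp
        linear_combination this
      rw [hy]
      simp only [pl, Pi.smul_apply, smul_eq_mul]
      module
    rw [ht, zero_smul, add_zero, smul_eq_zero] at h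
    exact ⟨h.resolve_right fun h => hu0 (by simp [h, pl]), ht⟩
  obtain ⟨z, hz⟩ := exists_linearIndependent_snoc_of_lt_finrank hxy (by simp)
  let U : Matrix (Fin 3) (Fin 3) K := Fin.snoc ![x, y] z
  have hU : U.det ≠ 0 := by
    have := (Matrix.linearIndependent_rows_iff_isUnit (A := U)).1 hz
    exact ((Matrix.isUnit_iff_isUnit_det U).1 this).ne_zero
  have hprod : (U * cM C₀ l₀ l₁ P * U.transpose).det = 0 := by
    have e : ∀ i j, (U * cM C₀ l₀ l₁ P * U.transpose) i j = G (U i) (U j) := fun i j => by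
      simp only [Matrix.mul_apply, Matrix.transpose_apply, Fin.sum_univ_three, cM, Matrix.of_apply, Matrix.cons_val',
        Matrix.cons_val_zero, Matrix.cons_val_one, Matrix.cons_val, Matrix.cons_val_fin_one, hG]
      ring
    have g1' : G y x = 0 := by rw [← g1]; simp only [hG]; ring
    have u0 : U 0 = x := rfl
    have u1 : U 1 = y := rfl
    rw [Matrix.det_fin_three]
    simp only [e, u0, u1, g0, g1, g1', g2]
    ring
  rw [Matrix.det_mul, Matrix.det_mul, Matrix.det_transpose, det_cM, mul_eq_zero, mul_eq_zero] at hprod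
  exact (hprod.resolve_right hU).resolve_left hU

include hs in
/-- Exactly five planes through a line split. -/
theorem five_tritangent (L : Submodule K (Fin 4 → K)) (hL2 : Module.finrank K ↥L = 2) (hLS : ∀ u ∈ L, C₀.F u = 0) :
    {H : Submodule K (Fin 4 → K) | Module.finrank K ↥H = 3 ∧ L ≤ H ∧
      ∃ L' L'' : Submodule K (Fin 4 → K), Module.finrank K ↥L' = 2 ∧ Module.finrank K ↥L'' = 2 ∧
        L' ≠ L ∧ L'' ≠ L ∧ L' ≠ L'' ∧ L' ≤ H ∧ L'' ≤ H ∧
        (∀ u ∈ L', C₀.F u = 0) ∧ (∀ u ∈ L'', C₀.F u = 0)}.ncard = 5 := by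
  classical
  let bL := Module.finBasisOfFinrankEq K L hL2
  set l₀ : Fin 4 → K := ((bL 0 : ↥L) : Fin 4 → K)
  set l₁ : Fin 4 → K := ((bL 1 : ↥L) : Fin 4 → K)
  have hli2 : LinearIndependent K ![l₀, l₁] := by
    have e : (![l₀, l₁] : Fin 2 → Fin 4 → K) = L.subtype ∘ bL := by
      ext i : 1
      fin_cases i <;> rfl
    rw [e]
    exact bL.linearIndependent.map' L.subtype L.ker_subtype
  have hLspan : Submodule.span K {l₀, l₁} = L := span_pair_eq' hL2 hli2 (bL 0).2 (bL 1).2
  have hL : OnS C₀ l₀ l₁ := fun x y => hLS _ (L.add_mem (L.smul_mem _ (bL 0).2) (L.smul_mem _ (bL 1).2))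
  obtain ⟨e₀, e'', hli₀⟩ := exists_completion hli2
  have frame : ∀ e e' : Fin 4 → K, LinearIndependent K ![l₀, l₁, e, e'] → ∀ t,
      LinearIndependent K ![l₀, l₁, e + t • e', e'] := fun e e' h t => by
    refine Fintype.linearIndependent_iff.2 fun c hc => ?_
    have := Fintype.linearIndependent_iff.1 h ![c 0, c 1, c 2, c 3 + c 2 * t] (by
      rw [← hc]
      simp only [Fin.sum_univ_four, Matrix.cons_val_zero, Matrix.cons_val_one, Matrix.cons_val]
      module)
    have i2 : c 2 = 0 := this 2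
    intro i
    fin_cases i
    · exact this 0
    · exact this 1
    · exact i2
    · simpa [i2] using this 3
  let lin' : (Fin 4 → K) → (Fin 4 → K) → (Fin 4 → K) → (Fin 4 → K) → K[X] := fun u v e e' =>
    C (3 * C₀.T u v e) + C (3 * C₀.T u v e') * X
  let quad : (Fin 4 → K) → (Fin 4 → K) → (Fin 4 → K) → K[X] := fun u e e' =>
    C (3 / 2 * C₀.T u e e) + C (3 * C₀.T u e e') * X + C (3 / 2 * C₀.T u e' e') * X ^ 2
  let cub : (Fin 4 → K) → (Fin 4 → K) → K[X] := fun e e' =>
    C (C₀.F e) + C (3 * C₀.T e e e') * X + C (3 * C₀.T e e' e') * X ^ 2 + C (C₀.F e') * X ^ 3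
  let Dp : (Fin 4 → K) → (Fin 4 → K) → K[X] := fun e e' =>
    dt (lin' l₀ l₀ e e') (lin' l₀ l₁ e e') (lin' l₁ l₁ e e') (quad l₀ e e') (quad l₁ e e') (cub e e')
  have evl : ∀ u v e e' t, (lin' u v e e').eval t = 3 * C₀.T u v (e + t • e') := fun u v e e' t => by
    simp [lin']; ring
  have evq : ∀ u e e' t, (quad u e e').eval t = 3 / 2 * C₀.T u (e + t • e') (e + t • e') := fun u e e' t => by
    simp [quad, C₀.swap23 u e' e]; ring
  have evc : ∀ e e' t, (cub e e').eval t = C₀.F (e + t • e') := fun e e' t => by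
    simp [cub, Tri.F_add_smul]; ring
  have hev : ∀ e e' t, (Dp e e').eval t = disc3 C₀ l₀ l₁ (e + t • e') := fun e e' t => by
    simp only [Dp, dt, disc3, eval_sub, eval_add, eval_mul, eval_pow, eval_ofNat, evl, evq, evc]
  have hder : ∀ e e' t, LinearIndependent K ![l₀, l₁, e, e'] → (Dp e e').eval t = 0 →
      (derivative (Dp e e')).eval t ≠ 0 := by
    intro e e' t hli ht
    rw [hev] at ht
    have h := (at_root C₀ hs hL (frame e e' hli t) ht).1
    have dl : ∀ u v, (derivative (lin' u v e e')).eval t = 3 * C₀.T u v e' := fun u v => by simp [lin']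
    have dq : ∀ u, (derivative (quad u e e')).eval t = 3 * C₀.T u (e + t • e') e' := fun u => by
      simp [quad]; ring
    have dc : (derivative (cub e e')).eval t = 3 * C₀.T (e + t • e') (e + t • e') e' := by
      simp [cub, C₀.swap12 e' e, Tri.F]; ring
    convert h using 1
    simp only [Dp, dt, ddt, derivative_sub, derivative_add, derivative_mul, derivative_pow, derivative_ofNat,
      eval_sub, eval_add, eval_mul, eval_pow, eval_C, eval_ofNat, eval_zero, Nat.add_one_sub_one, pow_one,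
      Nat.cast_ofNat, dl, dq, dc, evl, evq, evc]
    ring
  have hne : ∀ e e', LinearIndependent K ![l₀, l₁, e, e'] → Dp e e' ≠ 0 := fun e e' hli h =>
    hder e e' 0 hli (by rw [h, eval_zero]) (by rw [h, derivative_zero, eval_zero])
  obtain ⟨t₀, ht₀⟩ := exists_avoid _ (hne _ _ hli₀)
  rw [hev] at ht₀
  set e' := e₀ + t₀ • e'' with he'
  set e := e'' with he
  have hli : LinearIndependent K ![l₀, l₁, e, e'] := by
    have := frame e₀ e'' hli₀ t₀
    have hσ : (![l₀, l₁, e, e'] : Fin 4 → Fin 4 → K) = ![l₀, l₁, e', e''] ∘ ![0, 1, 3, 2] := by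
      ext i : 1
      fin_cases i <;> rfl
    rw [hσ]
    exact this.comp _ (by decide)
  set D := Dp e e' with hD
  have hdegl : ∀ u v, (lin' u v e e').natDegree ≤ 1 := fun u v => by simp only [lin']; compute_degree
  have hdegq : ∀ u, (quad u e e').natDegree ≤ 2 := fun u => by simp only [quad]; compute_degree
  have hdegc : (cub e e').natDegree ≤ 3 := by simp only [cub]; compute_degree
  have hdeg : D.natDegree ≤ 5 := by
    simp only [D, Dp, dt, lin', quad, cub]
    compute_degree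
  have hc5 : D.coeff 5 = disc3 C₀ l₀ l₁ e' := by
    have cl : ∀ u v, (lin' u v e e').coeff 1 = 3 * C₀.T u v e' := fun u v => by
      simp only [lin', coeff_add, coeff_C_mul_X, coeff_C]; norm_num
    have cq : ∀ u, (quad u e e').coeff 2 = 3 / 2 * C₀.T u e' e' := fun u => by
      simp only [quad, coeff_add, coeff_C_mul_X_pow, coeff_C_mul_X, coeff_C]; norm_num
    have cc : (cub e e').coeff 3 = C₀.F e' := by
      simp only [cub, coeff_add, coeff_C_mul_X_pow, coeff_C_mul_X, coeff_C]; norm_num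
    have m3 : ∀ (p q r : K[X]) (i j k : ℕ), p.natDegree ≤ i → q.natDegree ≤ j → r.natDegree ≤ k →
        (p * q * r).coeff (i + j + k) = p.coeff i * q.coeff j * r.coeff k := fun p q r i j k hp hq hr => by
      rw [coeff_mul_add_eq_of_natDegree_le (natDegree_mul_le.trans (add_le_add hp hq)) hr,
        coeff_mul_add_eq_of_natDegree_le hp hq]
    simp only [D, Dp, dt, disc3, pow_two, mul_assoc (2 : K[X]), coeff_sub, coeff_add]
    rw [show (2 : K[X]) = C 2 from (map_ofNat C 2).symm, coeff_C_mul]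
    simp only [← mul_assoc]
    rw [m3 _ _ _ 1 1 3 (hdegl _ _) (hdegl _ _) hdegc, m3 _ _ _ 1 2 2 (hdegl _ _) (hdegq _) (hdegq _),
      m3 _ _ _ 1 2 2 (hdegl _ _) (hdegq _) (hdegq _), m3 _ _ _ 1 2 2 (hdegl _ _) (hdegq _) (hdegq _),
      m3 _ _ _ 3 1 1 hdegc (hdegl _ _) (hdegl _ _)]
    simp only [cl, cq, cc]
    ring
  have hD0 : D ≠ 0 := hne e e' hli
  have hnat : D.natDegree = 5 := le_antisymm hdeg (le_natDegree_of_ne_zero (by rw [hc5]; exact ht₀))
  have hnodup : D.roots.Nodup := Multiset.nodup_iff_count_le_one.2 fun t => by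
    rw [count_roots]
    by_contra hc
    push Not at hc
    obtain ⟨h1, h2⟩ := (one_lt_rootMultiplicity_iff_isRoot hD0).1 hc
    exact hder e e' t hli h1 h2
  have hcard : D.roots.toFinset.card = 5 := by
    rw [Multiset.toFinset_card_of_nodup hnodup, IsAlgClosed.card_roots_eq_natDegree, hnat]
  have hinj : Function.Injective fun t : K => plane l₀ l₁ (e + t • e') := by
    intro s t h
    simp only at h
    obtain ⟨x, hx⟩ := mem_plane.1 (h ▸ Submodule.subset_span ⟨2, rfl⟩ : e + s • e' ∈ plane l₀ l₁ (e + t • e'))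
    have := Fintype.linearIndependent_iff.1 hli ![x 0, x 1, x 2 - 1, x 2 * t - s] (by
      have h0 : pl l₀ l₁ (e + t • e') x - (e + s • e') = 0 := sub_eq_zero.2 hx
      rw [← h0]
      simp only [pl, Fin.sum_univ_four, Matrix.cons_val_zero, Matrix.cons_val_one, Matrix.cons_val]
      module)
    have i2 : x 2 - 1 = 0 := this 2
    have i3 : x 2 * t - s = 0 := this 3
    linear_combination -i3 + t * i2
  have hfr : ∀ P e₂ : Fin 4 → K, LinearIndependent K ![l₀, l₁, P, e₂] →
      LinearIndependent K ![l₀, l₁, P] ∧ Module.finrank K (plane l₀ l₁ P) = 3 := fun P e₂ h => by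
    have h3 : LinearIndependent K ![l₀, l₁, P] := by
      have e : (![l₀, l₁, P] : Fin 3 → Fin 4 → K) = ![l₀, l₁, P, e₂] ∘ ![0, 1, 2] := by
        ext i : 1
        fin_cases i <;> rfl
      rw [e]
      exact h.comp _ (by decide)
    exact ⟨h3, by rw [plane, finrank_span_eq_card h3, Fintype.card_fin]⟩
  rw [← hcard, ← Set.ncard_coe_finset, ← Set.ncard_image_of_injective _ hinj]
  congr 1
  ext H
  constructor
  · rintro ⟨hH3, hLH, L', L'', hL'2, hL''2, hne', hne'', -, hle', hle'', hS', -⟩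
    -- a point of the plane off the line
    obtain ⟨u, huH, huL⟩ : ∃ u ∈ H, u ∉ L := by
      by_contra h
      push Not at h
      have := Submodule.finrank_mono (show H ≤ L from h)
      omega
    let bb : Module.Basis (Fin 4) K (Fin 4 → K) := basisOfLinearIndependentOfCardEqFinrank hli (by simp)
    have hu : u = bb.coord 0 u • l₀ + bb.coord 1 u • l₁ + bb.coord 2 u • e + bb.coord 3 u • e' := by
      conv_lhs => rw [← bb.sum_repr u, Fin.sum_univ_four]
      simp only [bb, coe_basisOfLinearIndependentOfCardEqFinrank]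
      rfl
    set α := bb.coord 2 u
    set β := bb.coord 3 u
    have hPH : α • e + β • e' ∈ H := by
      rw [show α • e + β • e' = u - (bb.coord 0 u • l₀ + bb.coord 1 u • l₁) from by
        rw [eq_sub_iff_add_eq']; conv_rhs => rw [hu]
        abel]
      exact H.sub_mem huH (H.add_mem (H.smul_mem _ (hLH (bL 0).2)) (H.smul_mem _ (hLH (bL 1).2)))
    have heq : ∀ P e₂ : Fin 4 → K, LinearIndependent K ![l₀, l₁, P, e₂] → P ∈ H → plane l₀ l₁ P = H :=
      fun P e₂ h hP => Submodule.eq_of_le_of_finrank_eq (Submodule.span_le.2 (Set.range_subset_iff.2 fun i => by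
        fin_cases i
        · exact hLH (bL 0).2
        · exact hLH (bL 1).2
        · exact hP)) (by rw [(hfr P e₂ h).2, hH3])
    by_cases hα : α = 0
    · exfalso
      have hβ : β ≠ 0 := fun hβ => huL (by
        rw [hu, hα, hβ, zero_smul, zero_smul, add_zero, add_zero, ← hLspan]
        exact Submodule.mem_span_pair.2 ⟨_, _, rfl⟩)
      have he'H : e' ∈ H := by
        rw [hα, zero_smul, zero_add] at hPH
        have := H.smul_mem β⁻¹ hPH
        rwa [inv_smul_smul₀ hβ] at this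
      have hli' : LinearIndependent K ![l₀, l₁, e', e] := by
        have hσ : (![l₀, l₁, e', e] : Fin 4 → Fin 4 → K) = ![l₀, l₁, e, e'] ∘ ![0, 1, 3, 2] := by
          ext i : 1
          fin_cases i <;> rfl
        rw [hσ]
        exact hli.comp _ (by decide)
      have hpl := heq e' e hli' he'H
      exact ht₀ (disc_of_line C₀ hL (hfr e' e hli').1 hL'2 (by rw [hLspan]; exact hne') (by rw [hpl]; exact hle') hS')
    · set t := β / α
      have hP : e + t • e' ∈ H := by
        have := H.smul_mem α⁻¹ hPH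
        rwa [smul_add, inv_smul_smul₀ hα, smul_smul, ← div_eq_inv_mul] at this
      have hli' := frame e e' hli t
      have hpl := heq _ _ hli' hP
      refine ⟨t, ?_, hpl⟩
      simp only [Finset.mem_coe, Multiset.mem_toFinset, mem_roots hD0, IsRoot.def]
      rw [hD, hev]
      exact disc_of_line C₀ hL (hfr _ _ hli').1 hL'2 (by rw [hLspan]; exact hne') (by rw [hpl]; exact hle') hS'
  · rintro ⟨t, ht, rfl⟩
    simp only [Finset.mem_coe, Multiset.mem_toFinset, mem_roots hD0, IsRoot.def] at ht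
    rw [hD, hev] at ht
    have hli' := frame e e' hli t
    refine ⟨(hfr _ _ hli').2, ?_, ?_⟩
    · rw [← hLspan, Submodule.span_le]
      rintro x (rfl | rfl)
      · exact Submodule.subset_span ⟨0, rfl⟩
      · exact Submodule.subset_span ⟨1, rfl⟩
    · have h := (at_root C₀ hs hL hli' ht).2
      rwa [hLspan] at h

end Groth.Agent.CubicFive
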